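/-
Invariance of the extended 2-layer: the 2-layer, `L_{2'}(X) O_{2',2}(X)` and the cores of the
centralizers of its Sylow 2-subgroups.
-/
import Cfsg.Prelude.Def_Balance
import Cfsg.Agent.PLocal.Constraint

set_option autoImplicit false

open Cfsg Subgroup

namespace CfsgLib.Signalizer

variable {G H : Type*} [Group G] [Group H]

/-- Quasisimplicity is invariant under isomorphism. -/
theorem isQuasisimple_of_mulEquiv (e : G ≃* H) (h : IsQuasisimple G) : IsQuasisimple H := by
  haveI := h.1
  haveI := h.2
  refine ⟨Group.IsPerfect.ofSurjective (f := e.toMonoidHom) e.surjective, ?_⟩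
  exact (QuotientGroup.congr (center G) (center H) e (by
    ext x
    simp only [mem_map, mem_center_iff]
    constructor
    · rintro ⟨y, hy, rfl⟩ g
      obtain ⟨g', rfl⟩ := e.surjective g
      change e g' * e y = e y * e g'
      rw [← map_mul, ← map_mul, hy g']
    · intro hx
      refine ⟨e.symm x, fun g => e.injective ?_, e.apply_symm_apply x⟩
      simp [hx (e g)])).symm.isSimpleGroup

/-- Components are carried to components by isomorphisms. -/
theorem isComponent_map_equiv (e : G ≃* H) {K : Subgroup G} (h : IsComponent K) :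
    IsComponent (K.map e.toMonoidHom) :=
  ⟨h.1.map e.surjective, isQuasisimple_of_mulEquiv (K.equivMapOfInjective e.toMonoidHom e.injective) h.2⟩

/-- `p`-components are carried to `p`-components by isomorphisms. -/
theorem isPComponent_map_equiv {p : ℕ} (e : G ≃* H) {K : Subgroup G} (h : IsPComponent p K) :
    IsPComponent p (K.map e.toMonoidHom) := by
  have hcore := CfsgLib.PLocal.map_pPrimeCore_equiv (p := p) e
  let f : G ⧸ pPrimeCore p G ≃* H ⧸ pPrimeCore p H :=
    QuotientGroup.congr (pPrimeCore p G) (pPrimeCore p H) e hcore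
  have hcomm : ∀ J : Subgroup G, (J.map e.toMonoidHom).map (QuotientGroup.mk' (pPrimeCore p H)) =
      (J.map (QuotientGroup.mk' (pPrimeCore p G))).map f.toMonoidHom := fun J => by
    rw [Subgroup.map_map, Subgroup.map_map]; rfl
  refine ⟨h.1.map e.surjective, ?_, ?_⟩
  · rw [hcomm]; exact isComponent_map_equiv f h.2.1
  · intro J hJsn hJK hJ
    have hJ' : (J.comap e.toMonoidHom).map e.toMonoidHom = J :=
      Subgroup.map_comap_eq_self_of_surjective e.surjective J
    have key := h.2.2 (J.comap e.toMonoidHom) (hJsn.comap _) (fun x hx => by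
      obtain ⟨y, hy, hyx⟩ := hJK hx
      rwa [← e.injective hyx]) (Subgroup.map_injective (f := f.toMonoidHom) f.injective (by
      rw [← hcomm, ← hcomm, hJ', hJ]))
    rw [← hJ', key]

/-- An automorphism fixes the `p`-layer. -/
theorem map_pLayer_le {p : ℕ} (e : G ≃* H) :
    (pLayer p G).map e.toMonoidHom ≤ pLayer p H :=
  map_le_iff_le_comap.2 (sSup_le fun _ hK =>
    map_le_iff_le_comap.1 (le_sSup (isPComponent_map_equiv e hK)))

instance pLayerNormal (p : ℕ) (G : Type*) [Group G] : (pLayer p G).Normal :=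
  ⟨fun n hn g => map_pLayer_le (MulAut.conj g) ⟨n, hn, rfl⟩⟩

instance pPrimePCoreNormal (p : ℕ) (G : Type*) [Group G] : (pPrimePCore p G).Normal :=
  inferInstanceAs ((pCore p (G ⧸ pPrimeCore p G)).comap (QuotientGroup.mk' (pPrimeCore p G))).Normal

/-- `O(C(P))` as a subgroup of the ambient group. -/
abbrev coreCentralizer (P : Subgroup G) : Subgroup G :=
  (oddCore ↥(centralizer (P : Set G))).map (centralizer (P : Set G)).subtype

/-- `O(K)` inside the ambient group commutes with isomorphisms. -/
theorem map_oddCore_map_subtype (e : G ≃* H) (K : Subgroup G) {K' : Subgroup H}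
    (hK : K.map e.toMonoidHom = K') :
    ((oddCore ↥K).map K.subtype).map e.toMonoidHom = (oddCore ↥K').map K'.subtype := by
  subst hK
  change _ = (pPrimeCore 2 ↥(K.map e.toMonoidHom)).map _
  rw [← CfsgLib.PLocal.map_pPrimeCore_equiv (p := 2) (K.equivMapOfInjective e.toMonoidHom e.injective),
    Subgroup.map_map, Subgroup.map_map]
  rfl

/-- `O(C(P))` commutes with conjugation. -/
theorem map_coreCentralizer (e : G ≃* G) (P : Subgroup G) :
    (coreCentralizer P).map e.toMonoidHom = coreCentralizer (P.map e.toMonoidHom) := by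
  refine map_oddCore_map_subtype e _ ?_
  rw [Subgroup.coe_map]
  ext x
  simp only [Subgroup.mem_map, mem_centralizer_iff, Set.forall_mem_image]
  constructor
  · rintro ⟨y, hy, rfl⟩ q hq
    change e q * e y = e y * e q
    rw [← map_mul, ← map_mul, hy q hq]
  · intro hx
    refine ⟨e.symm x, fun q hq => e.injective ?_, e.apply_symm_apply x⟩
    have := hx hq
    simpa using this

/-- The product `L_{2'}(X) O_{2',2}(X)` whose Sylow 2-subgroups define the extended 2-layer. -/
abbrev layerCore (X : Type*) [Group X] : Subgroup X := pLayer 2 X ⊔ pPrimePCore 2 X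

variable {X : Type*} [Group X]

theorem extendedTwoLayer_eq (X : Type*) [Group X] :
    extendedTwoLayer X = pLayer 2 X ⊔ oddCore X ⊔
      ⨆ T : Sylow 2 ↥(layerCore X), coreCentralizer ((T : Subgroup ↥(layerCore X)).map (layerCore X).subtype) :=
  rfl

/-- `L*_{2'}(X)` is normal. -/
theorem extendedTwoLayer_normal [Finite X] : (extendedTwoLayer X).Normal := by
  have : Fact (Nat.Prime 2) := ⟨Nat.prime_two⟩
  have key : ∀ g : X, (extendedTwoLayer X).map (MulAut.conj g).toMonoidHom ≤ extendedTwoLayer X := by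
    intro g
    rw [extendedTwoLayer_eq, Subgroup.map_sup, Subgroup.map_iSup]
    refine sup_le_sup ?_ (iSup_le fun T => ?_)
    · rw [Subgroup.map_sup]
      exact sup_le_sup (map_pLayer_le _) (CfsgLib.PLocal.map_pPrimeCore_equiv_le _)
    · refine le_iSup_of_le ((MulAut.conjNormal g : MulAut ↥(layerCore X)) • T) (le_of_eq ?_)
      rw [map_coreCentralizer]
      change _ = coreCentralizer (((T : Subgroup ↥(layerCore X)).map
        (MulAut.conjNormal g : MulAut ↥(layerCore X)).toMonoidHom).map (layerCore X).subtype)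
      rw [Subgroup.map_map, Subgroup.map_map]
      rfl
  exact ⟨fun n hn g => key g ⟨n, hn, rfl⟩⟩

/-- The Sylow 2-subgroups of `L_{2'}(X) O_{2',2}(X)` supplement `L_{2'}(X) O(X)`. -/
theorem layerCore_le_sup_sylow [Finite X] (T : Sylow 2 ↥(layerCore X)) :
    layerCore X ≤ pLayer 2 X ⊔ oddCore X ⊔ (T : Subgroup ↥(layerCore X)).map (layerCore X).subtype := by
  have : Fact (Nat.Prime 2) := ⟨Nat.prime_two⟩
  set L₀ := pLayer 2 X ⊔ oddCore X with hL₀
  have hle : L₀ ≤ layerCore X :=
    sup_le_sup_left (CfsgLib.PLocal.pPrimeCore_le_pPrimePCore 2 X) _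
  set T' := (T : Subgroup ↥(layerCore X)).map (layerCore X).subtype with hT'
  have hTN : T' ≤ layerCore X := map_subtype_le _
  rw [← relIndex_eq_one]
  obtain ⟨k, hk⟩ := CfsgLib.PLocal.relIndex_pPrimeCore_pPrimePCore (p := 2) (G := X)
  have hN : layerCore X = pPrimePCore 2 X ⊔ L₀ := by
    rw [hL₀, layerCore, sup_comm (pPrimePCore 2 X), sup_assoc,
      sup_eq_right.2 (CfsgLib.PLocal.pPrimeCore_le_pPrimePCore 2 X)]
  have hL₀N : L₀.relIndex (layerCore X) ∣ 2 ^ k := by
    rw [hN, relIndex_sup_right, ← hk]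
    exact relIndex_dvd_of_le_left _ le_sup_right
  have h2 : T'.relIndex (layerCore X) = (T : Subgroup ↥(layerCore X)).index := by
    rw [hT', relIndex, subgroupOf, comap_map_eq_self_of_injective (layerCore X).subtype_injective]
  have hd1 : (L₀ ⊔ T').relIndex (layerCore X) ∣ 2 ^ k :=
    (relIndex_dvd_of_le_left _ le_sup_left).trans hL₀N
  have hd2 : (L₀ ⊔ T').relIndex (layerCore X) ∣ (T : Subgroup ↥(layerCore X)).index :=
    h2 ▸ relIndex_dvd_of_le_left _ le_sup_right
  have hodd : (2 ^ k).Coprime (T : Subgroup ↥(layerCore X)).index :=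
    Nat.Coprime.pow_left k ((Nat.prime_two.coprime_iff_not_dvd).2 T.not_dvd_index)
  exact Nat.eq_one_of_dvd_coprimes hodd hd1 hd2

/-- One Sylow 2-subgroup already gives the whole extended 2-layer. -/
theorem extendedTwoLayer_eq_of_sylow [Finite X] (T : Sylow 2 ↥(layerCore X)) :
    extendedTwoLayer X = pLayer 2 X ⊔ oddCore X ⊔
      coreCentralizer ((T : Subgroup ↥(layerCore X)).map (layerCore X).subtype) := by
  have : Fact (Nat.Prime 2) := ⟨Nat.prime_two⟩
  rw [extendedTwoLayer_eq]
  refine le_antisymm (sup_le le_sup_left (iSup_le fun T₁ => ?_))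
    (sup_le_sup_left (le_iSup (fun U : Sylow 2 ↥(layerCore X) =>
      coreCentralizer ((U : Subgroup ↥(layerCore X)).map (layerCore X).subtype)) T) _)
  set T' := (T : Subgroup ↥(layerCore X)).map (layerCore X).subtype with hT'
  set M := pLayer 2 X ⊔ oddCore X ⊔ coreCentralizer T'
  obtain ⟨n, rfl⟩ := MulAction.exists_smul_eq ↥(layerCore X) T T₁
  have hn : (n : X) ∈ pLayer 2 X ⊔ oddCore X ⊔ T' := layerCore_le_sup_sylow T n.2
  obtain ⟨a, ha, t, ht, hat⟩ := Subgroup.mem_sup_of_normal_left.1 hn
  have e : (((n • T : Sylow 2 ↥(layerCore X))) : Subgroup ↥(layerCore X)).map (layerCore X).subtype =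
      T'.map (MulAut.conj a).toMonoidHom := by
    have h1 : (((n • T : Sylow 2 ↥(layerCore X))) : Subgroup ↥(layerCore X)).map (layerCore X).subtype =
        T'.map (MulAut.conj (n : X)).toMonoidHom := by
      change ((T : Subgroup ↥(layerCore X)).map (MulAut.conj n).toMonoidHom).map _ = _
      rw [hT', Subgroup.map_map, Subgroup.map_map]
      rfl
    have h2 : T'.map (MulAut.conj t).toMonoidHom = T' := by
      refine le_antisymm ?_ ?_
      · rintro _ ⟨y, hy, rfl⟩
        exact mul_mem (mul_mem ht hy) (inv_mem ht)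
      · intro y hy
        exact ⟨t⁻¹ * y * t, mul_mem (mul_mem (inv_mem ht) hy) ht, by simp [mul_assoc]⟩
    have h3 : (MulAut.conj (n : X)).toMonoidHom =
        (MulAut.conj a).toMonoidHom.comp (MulAut.conj t).toMonoidHom := by
      ext y; simp [← hat, mul_assoc]
    rw [h1, h3, ← Subgroup.map_map, h2]
  rw [e, ← map_coreCentralizer]
  rintro _ ⟨y, hy, rfl⟩
  have hyM : y ∈ M := Subgroup.mem_sup_right hy
  exact mul_mem (mul_mem (Subgroup.mem_sup_left ha) hyM) (inv_mem (Subgroup.mem_sup_left ha))

end CfsgLib.Signalizer
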