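/-
Bender's maximal subgroup theorem: two maximal subgroups of a simple group, each containing the
generalized Fitting subgroup of the other, coincide unless both generalized Fitting subgroups are
`p`-groups for one prime `p`.
-/
import Cfsg.Agent.Components.FStar
import Cfsg.Agent.Solvable.Fitting
import Cfsg.Agent.LocalStructure.Cores
import Cfsg.Agent.LocalStructure.Elements

set_option autoImplicit false

open Subgroup
open scoped Pointwise

namespace CfsgLib.Signalizer

variable {G : Type*} [Group G]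

theorem normalizer_le_of_coatom [IsSimpleGroup G] {M W : Subgroup G} (hM : IsCoatom M)
    (hWM : W ≤ M) (hW : M ≤ normalizer (W : Set G)) (hW1 : W ≠ ⊥) :
    normalizer (W : Set G) ≤ M := by
  rcases hW.eq_or_lt with h | h
  · exact h.ge
  · haveI : W.Normal := normalizer_eq_top_iff.mp (hM.2 _ h)
    rcases (inferInstance : W.Normal).eq_bot_or_eq_top with h' | h'
    · exact absurd h' hW1
    · exact absurd (top_unique (h' ▸ hWM)) hM.1

theorem eq_bot_of_normalized_by_two [IsSimpleGroup G] {M N W : Subgroup G} (hM : IsCoatom M)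
    (hN : IsCoatom N) (hMN : M ≠ N) (hWM : W ≤ M) (h1 : M ≤ normalizer (W : Set G))
    (h2 : N ≤ normalizer (W : Set G)) : W = ⊥ := by
  by_contra hW
  rcases (h2.trans (normalizer_le_of_coatom hM hWM h1 hW)).eq_or_lt with h | h
  · exact hMN h.symm
  · exact hM.1 (hN.2 M h)

/-- The Fitting subgroup of a subgroup, inside the ambient group. -/
abbrev fittingOf (M : Subgroup G) : Subgroup G := (Cfsg.fittingSubgroup M).map M.subtype

theorem fittingOf_eq_iSup [Finite G] (M : Subgroup G) :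
    fittingOf M = ⨆ r : Nat.Primes, Cfsg.pCoreOf (r : ℕ) M := by
  rw [fittingOf, Solvable.fittingSubgroup_eq_iSup, Subgroup.map_iSup]
  rfl

theorem pCoreOf_le_fittingOf [Finite G] (M : Subgroup G) (q : ℕ) [Fact q.Prime] :
    Cfsg.pCoreOf q M ≤ fittingOf M :=
  map_mono (Solvable.pCore_le_fittingSubgroup q)

theorem commute_pCoreOf [Finite G] (M : Subgroup G) {p q : ℕ} [Fact p.Prime] [Fact q.Prime]
    (hpq : p ≠ q) {x y : G} (hx : x ∈ Cfsg.pCoreOf p M) (hy : y ∈ Cfsg.pCoreOf q M) :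
    Commute x y := by
  obtain ⟨a, ha, rfl⟩ := hx
  obtain ⟨b, hb, rfl⟩ := hy
  exact (Subgroup.commute_of_normal_of_disjoint _ _ (Solvable.pCore_normal p)
    (Solvable.pCore_normal q) (IsPGroup.disjoint_of_ne _ _ hpq _ _ (Solvable.isPGroup_pCore p)
      (Solvable.isPGroup_pCore q)) a b ha hb).map M.subtype

/-- A `q`-element of `F(M)` lies in `O_q(M)`. -/
theorem mem_pCoreOf_of_mem_fittingOf [Finite G] (M : Subgroup G) {q : ℕ} [Fact q.Prime] {x : G}
    (hx : x ∈ fittingOf M) {k : ℕ} (hk : x ^ q ^ k = 1) : x ∈ Cfsg.pCoreOf q M := by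
  obtain ⟨a, ha, rfl⟩ := hx
  set F := Cfsg.fittingSubgroup M
  haveI : Group.IsNilpotent F := Solvable.fittingSubgroup_isNilpotent
  haveI : F.Normal := Solvable.fittingSubgroup_normal
  obtain ⟨S⟩ : Nonempty (Sylow q F) := inferInstance
  haveI hSn : (S : Subgroup F).Normal := Sylow.normal_of_normalizerCondition
    Group.normalizerCondition_of_isNilpotent S
  haveI := S.characteristic_of_normal hSn
  have hpg : IsPGroup q (zpowers (⟨a, ha⟩ : F)) := by
    refine IsPGroup.of_card_dvd_pow (n := k) ?_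
    rw [Nat.card_zpowers]
    exact orderOf_dvd_of_pow_eq_one (Subtype.ext (Subtype.ext (by simpa using hk)))
  obtain ⟨S', hS'⟩ := hpg.exists_le_sylow
  haveI := Sylow.unique_of_normal S hSn
  rw [Subsingleton.elim S' S] at hS'
  refine ⟨a, Solvable.le_pCore (S.2.map F.subtype) ?_, rfl⟩
  exact ⟨⟨a, ha⟩, hS' (mem_zpowers _), rfl⟩

/-- An element of `M` centralizing every `O_r(M)` lies in `F(M)` when `M` has no components. -/
theorem mem_fittingOf_of_commute [Finite G] {M : Subgroup G} (hE : Cfsg.layer M = ⊥) {x : G}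
    (hx : x ∈ M) (h : ∀ r : Nat.Primes, ∀ y ∈ Cfsg.pCoreOf (r : ℕ) M, Commute y x) :
    x ∈ fittingOf M := by
  refine ⟨⟨x, hx⟩, Components.centralizer_generalizedFitting_le ?_, rfl⟩
  rw [Cfsg.generalizedFittingSubgroup, hE, bot_sup_eq]
  refine mem_centralizer_iff.mpr fun y hy => Subtype.ext ?_
  have hle : fittingOf M ≤ centralizer {x} := by
    rw [fittingOf_eq_iSup]
    exact iSup_le fun r z hz => mem_centralizer_singleton_iff.mpr (h r z hz)
  exact mem_centralizer_singleton_iff.mp (hle ⟨y, hy, rfl⟩)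

theorem conj_mem_pCoreOf {M : Subgroup G} {q : ℕ} {g x : G} (hg : g ∈ M)
    (hx : x ∈ Cfsg.pCoreOf q M) : g * x * g⁻¹ ∈ Cfsg.pCoreOf q M :=
  (mem_normalizer_iff.mp (LocalStructure.le_normalizer_pCoreOf M hg) x).mp hx

/-- `O_p(M)` and `O_q(N)` commute for `p ≠ q` when each lies in the other subgroup. -/
theorem commute_cross [Finite G] {M N : Subgroup G} {p q : ℕ} [Fact p.Prime] [Fact q.Prime]
    (hpq : p ≠ q) (h1 : Cfsg.pCoreOf p M ≤ N) (h2 : Cfsg.pCoreOf q N ≤ M) {x y : G}
    (hx : x ∈ Cfsg.pCoreOf p M) (hy : y ∈ Cfsg.pCoreOf q N) : Commute x y := by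
  have hd : Disjoint (Cfsg.pCoreOf p M) (Cfsg.pCoreOf q N) :=
    IsPGroup.disjoint_of_ne _ _ hpq _ _ (LocalStructure.pCoreOf_isPGroup M)
      (LocalStructure.pCoreOf_isPGroup N)
  have hmN : x * y * x⁻¹ * y⁻¹ ∈ Cfsg.pCoreOf q N :=
    mul_mem (conj_mem_pCoreOf (h1 hx) hy) (inv_mem hy)
  have hmM : x * y * x⁻¹ * y⁻¹ ∈ Cfsg.pCoreOf p M := by
    rw [show x * y * x⁻¹ * y⁻¹ = x * (y * x⁻¹ * y⁻¹) by group]
    exact mul_mem hx (conj_mem_pCoreOf (h2 hy) (inv_mem hx))
  have h : x * y * x⁻¹ * y⁻¹ = 1 := Subgroup.mem_bot.mp (hd.le_bot ⟨hmM, hmN⟩)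
  show x * y = y * x
  calc x * y = x * y * x⁻¹ * y⁻¹ * (y * x) := by group
    _ = y * x := by rw [h, one_mul]

/-- The main step: `O_p(N) ≤ O_p(M)` as soon as `O_q(N) ≠ 1` for some prime `q ≠ p`. -/
theorem pCoreOf_le_pCoreOf [Finite G] [IsSimpleGroup G] {M N : Subgroup G} (hN : IsCoatom N)
    (hE : Cfsg.layer M = ⊥) (h1 : ∀ r : Nat.Primes, Cfsg.pCoreOf (r : ℕ) M ≤ N)
    (h2 : ∀ r : Nat.Primes, Cfsg.pCoreOf (r : ℕ) N ≤ M) (p q : Nat.Primes) (hpq : p ≠ q)
    (hq : Cfsg.pCoreOf (q : ℕ) N ≠ ⊥) :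
    Cfsg.pCoreOf (p : ℕ) N ≤ Cfsg.pCoreOf (p : ℕ) M := by
  haveI := Fact.mk p.2
  haveI := Fact.mk q.2
  have hpq' : (p : ℕ) ≠ q := fun h => hpq (Subtype.ext h)
  set S : Set G := {h | h ∈ M ∧ (orderOf h).Coprime (q : ℕ) ∧
    ∀ r : Nat.Primes, r ≠ p → ∀ x ∈ Cfsg.pCoreOf (r : ℕ) M, Commute x h} with hS
  have hconj : ∀ g ∈ M, ∀ h ∈ S, g * h * g⁻¹ ∈ S := by
    rintro g hg h ⟨hhM, ho, hc⟩
    refine ⟨mul_mem (mul_mem hg hhM) (inv_mem hg), ?_, fun r hr x hx => ?_⟩
    · rwa [← MulAut.conj_apply, MulEquiv.orderOf_eq]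
    · have hx' : g⁻¹ * x * g⁻¹⁻¹ ∈ Cfsg.pCoreOf (r : ℕ) M := conj_mem_pCoreOf (inv_mem hg) hx
      have := (hc r hr _ hx').map (MulAut.conj g).toMonoidHom
      simpa [mul_assoc] using this
  have hKM : closure S ≤ M := (closure_le _).mpr fun h hh => hh.1
  have hMK : M ≤ normalizer (closure S : Set G) := by
    have key : ∀ g ∈ M, ∀ x ∈ closure S, g * x * g⁻¹ ∈ closure S := fun g hg x hx => by
      have hle : closure S ≤ (closure S).comap (MulAut.conj g).toMonoidHom :=
        (closure_le _).mpr fun h hh => subset_closure (hconj g hg h hh)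
      exact hle hx
    refine fun g hg => mem_normalizer_iff.mpr fun x => ⟨key g hg x, fun h => ?_⟩
    simpa [mul_assoc] using key g⁻¹ (inv_mem hg) _ h
  -- the generators centralize `O_q(N)`
  have hcomm : ∀ h ∈ S, ∀ y ∈ Cfsg.pCoreOf (q : ℕ) N, Commute h y := by
    rintro h ⟨hhM, ho, hc⟩ y hy
    have hyM : y ∈ M := h2 q hy
    set P := Cfsg.pCoreOf (q : ℕ) M
    set C : Subgroup G := ⨆ r : {r : Nat.Primes // r ≠ q}, Cfsg.pCoreOf ((r.1 : ℕ)) M with hC
    set w := h * y * h⁻¹ * y⁻¹ with hw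
    have hwM : w ∈ M := mul_mem (mul_mem (mul_mem hhM hyM) (inv_mem hhM)) (inv_mem hyM)
    have hwF : w ∈ fittingOf M := by
      refine mem_fittingOf_of_commute hE hwM fun r x hx => ?_
      by_cases hr : r = q
      · subst hr
        have hhx : Commute x h := hc r (Ne.symm hpq) x hx
        have hhx' : Commute (y⁻¹ * x * y⁻¹⁻¹) h :=
          hc r (Ne.symm hpq) _ (conj_mem_pCoreOf (inv_mem hyM) hx)
        rw [inv_inv] at hhx'
        show x * w = w * x
        have e1 : h⁻¹ * (y⁻¹ * x * y) * h = y⁻¹ * x * y := by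
          rw [mul_assoc, hhx'.eq]; group
        calc x * w = h * (h⁻¹ * x * h) * y * h⁻¹ * y⁻¹ := by rw [hw]; group
          _ = h * x * y * h⁻¹ * y⁻¹ := by rw [mul_assoc h⁻¹, hhx.eq, inv_mul_cancel_left]
          _ = h * y * (y⁻¹ * x * y) * h⁻¹ * y⁻¹ := by group
          _ = h * y * (h⁻¹ * (y⁻¹ * x * y) * h) * h⁻¹ * y⁻¹ := by rw [e1]
          _ = w * x := by rw [hw]; group
      · haveI := Fact.mk r.2
        have hrq : (r : ℕ) ≠ q := fun h' => hr (Subtype.ext h')
        have hy1 : Commute x y := commute_cross hrq (h1 r) (h2 q) hx hy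
        have hy2 : Commute x (h * y * h⁻¹) := by
          have := (commute_cross hrq (h1 r) (h2 q) (conj_mem_pCoreOf (inv_mem hhM) hx) hy).map
            (MulAut.conj h).toMonoidHom
          simpa [mul_assoc] using this
        exact hy2.mul_right hy1.inv_right
    have hCP : ∀ c ∈ C, ∀ a ∈ P, Commute c a := by
      intro c hc' a ha
      have hle : C ≤ centralizer {a} := iSup_le fun r z hz => by
        haveI := Fact.mk r.1.2
        exact mem_centralizer_singleton_iff.mpr
          (commute_pCoreOf M (fun h' => r.2 (Subtype.ext h')) hz ha).eq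
      exact mem_centralizer_singleton_iff.mp (hle hc')
    have hCy : ∀ c ∈ C, Commute c y := by
      intro c hc'
      have hle : C ≤ centralizer {y} := iSup_le fun r z hz => by
        haveI := Fact.mk r.1.2
        exact mem_centralizer_singleton_iff.mpr
          (commute_cross (fun h' => r.2 (Subtype.ext h')) (h1 r.1) (h2 q) hz hy).eq
      exact mem_centralizer_singleton_iff.mp (hle hc')
    have hFPC : fittingOf M ≤ P ⊔ C := by
      rw [fittingOf_eq_iSup]
      refine iSup_le fun r => ?_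
      by_cases hr : r = q
      · subst hr; exact le_sup_left
      · exact le_sup_of_le_right
          (le_iSup (fun s : {s : Nat.Primes // s ≠ q} => Cfsg.pCoreOf ((s.1 : ℕ)) M) ⟨r, hr⟩)
    have hPC : P ≤ normalizer (C : Set G) := fun a ha =>
      centralizer_le_normalizer _ (mem_centralizer_iff.mpr fun c hc' => (hCP c hc' a ha).eq)
    obtain ⟨a, ha, c, hc', hwac⟩ : w ∈ (P : Set G) * (C : Set G) := by
      rw [← coe_mul_of_left_le_normalizer_right P C hPC]; exact hFPC hwF
    change a * c = w at hwac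
    -- the part outside `O_q(M)` is a commuting product of `q`-elements
    have hay : a * y ∈ P ⊔ Cfsg.pCoreOf (q : ℕ) N := mul_mem_sup ha hy
    have hT : IsPGroup (q : ℕ) (P ⊔ Cfsg.pCoreOf (q : ℕ) N : Subgroup G) :=
      (LocalStructure.pCoreOf_isPGroup M).to_sup_of_normal_left'
        (LocalStructure.pCoreOf_isPGroup N) ((h2 q).trans (LocalStructure.le_normalizer_pCoreOf M))
    obtain ⟨k₁, hk₁⟩ := hT ⟨_, hay⟩
    obtain ⟨k₂, hk₂⟩ := (LocalStructure.pCoreOf_isPGroup (p := (q : ℕ)) N) ⟨y, hy⟩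
    have hk₁' : (a * y) ^ (q : ℕ) ^ k₁ = 1 := by simpa using congrArg Subtype.val hk₁
    have hk₂' : (h * y * h⁻¹) ^ (q : ℕ) ^ k₂ = 1 := by
      rw [conj_pow, show y ^ (q : ℕ) ^ k₂ = 1 by simpa using congrArg Subtype.val hk₂]
      simp
    have hce : c = (h * y * h⁻¹) * (a * y)⁻¹ := by
      have : h * y * h⁻¹ = c * (a * y) := by
        rw [← mul_assoc, (hCP c hc' a ha).eq, hwac, hw]; group
      rw [this]; group
    have hcay : Commute c (a * y) := (hCP c hc' a ha).mul_right (hCy c hc')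
    have hcom : Commute (h * y * h⁻¹) (a * y)⁻¹ := by
      have : h * y * h⁻¹ = c * (a * y) := by rw [hce]; group
      rw [this]
      exact (hcay.mul_left (Commute.refl _)).inv_right
    have hcF : c ∈ fittingOf M := by
      have : c = a⁻¹ * w := by rw [← hwac]; group
      rw [this]
      exact mul_mem (inv_mem (pCoreOf_le_fittingOf M q ha)) hwF
    have hcq : c ∈ P := by
      refine mem_pCoreOf_of_mem_fittingOf M hcF (k := k₁ + k₂) ?_
      rw [hce, hcom.mul_pow, inv_pow, pow_add, pow_mul (a * y), hk₁', one_pow, inv_one, mul_one,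
        mul_comm, pow_mul, hk₂', one_pow]
    have hwP : w ∈ P := hwac ▸ mul_mem ha hcq
    have hhw : Commute h w := (hc q (Ne.symm hpq) w hwP).symm
    have hiter : ∀ n : ℕ, h ^ n * y * (h ^ n)⁻¹ = w ^ n * y := by
      intro n
      induction n with
      | zero => simp
      | succ n ih =>
        have e : h * w ^ n * h⁻¹ = w ^ n := by rw [(hhw.pow_right n).eq]; group
        calc h ^ (n + 1) * y * (h ^ (n + 1))⁻¹ = h * (h ^ n * y * (h ^ n)⁻¹) * h⁻¹ := by
              rw [pow_succ']; group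
          _ = h * w ^ n * h⁻¹ * (h * y * h⁻¹) := by rw [ih]; group
          _ = w ^ n * (w * y) := by rw [e, hw]; group
          _ = w ^ (n + 1) * y := by rw [pow_succ]; group
    have hwn : w ^ orderOf h = 1 := by
      have := hiter (orderOf h)
      rw [pow_orderOf_eq_one, one_mul, inv_one, mul_one] at this
      exact right_eq_mul.mp this
    have hw1 : w = 1 := LocalStructure.eq_one_of_coprime_of_mem
      (LocalStructure.pCoreOf_isPGroup M) hwP
      (Nat.Coprime.coprime_dvd_left (orderOf_dvd_of_pow_eq_one hwn) ho)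
    show h * y = y * h
    calc h * y = h * y * h⁻¹ * y⁻¹ * (y * h) := by group
      _ = y * h := by rw [← hw, hw1, one_mul]
  -- so the closure lies in `N`
  have hKN : closure S ≤ N := by
    refine (closure_le _).mpr fun h hh => ?_
    refine normalizer_le_of_coatom hN (LocalStructure.pCoreOf_le N)
      (LocalStructure.le_normalizer_pCoreOf N) hq
      (centralizer_le_normalizer _ (mem_centralizer_iff.mpr fun y hy => (hcomm h hh y hy).eq.symm))
  have hYS : Cfsg.pCoreOf (p : ℕ) N ≤ closure S := by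
    refine fun y hy => subset_closure ⟨h2 p hy, ?_, fun r hr x hx => ?_⟩
    · obtain ⟨k, hk⟩ := (LocalStructure.pCoreOf_isPGroup (p := (p : ℕ)) N) ⟨y, hy⟩
      exact Nat.Coprime.coprime_dvd_left
        (orderOf_dvd_of_pow_eq_one (by simpa using congrArg Subtype.val hk))
        (((Nat.coprime_primes p.2 q.2).mpr hpq').pow_left k)
    · haveI := Fact.mk r.2
      exact commute_cross (fun h' => hr (Subtype.ext h')) (h1 r) (h2 p) hx hy
  exact (LocalStructure.le_pCoreOf hYS (hKN.trans (LocalStructure.le_normalizer_pCoreOf N))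
      (LocalStructure.pCoreOf_isPGroup N)).trans
    (LocalStructure.le_pCoreOf ((LocalStructure.pCoreOf_le _).trans hKM)
      (hMK.trans (LocalStructure.normalizer_le_normalizer_pCoreOf _))
      (LocalStructure.pCoreOf_isPGroup _))

/-- A component of `M` is a component of `N`. -/
theorem layer_map_le [Finite G] {M N : Subgroup G}
    (h1 : (Cfsg.generalizedFittingSubgroup M).map M.subtype ≤ N)
    (h2 : (Cfsg.generalizedFittingSubgroup N).map N.subtype ≤ M) :
    (Cfsg.layer M).map M.subtype ≤ (Cfsg.layer N).map N.subtype := by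
  rw [Subgroup.map_le_iff_le_comap]
  refine sSup_le fun L hL => ?_
  have hLN : L.map M.subtype ≤ N :=
    (map_mono ((Components.IsComponent.le_layer hL).trans le_sup_left)).trans h1
  set EN := (Cfsg.layer N).map N.subtype with hEN
  set FN := (Cfsg.fittingSubgroup N).map N.subtype with hFN
  have hENM : EN ≤ M := (map_mono le_sup_left).trans h2
  have hFNM : FN ≤ M := (map_mono le_sup_right).trans h2
  set X := N.subgroupOf M
  have hLX : L ≤ X := fun l hl => hLN ⟨l, hl, rfl⟩
  have hnE : X ≤ normalizer ((EN.subgroupOf M : Subgroup M) : Set M) := fun x hx =>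
    mem_normalizer_iff.mpr fun z => (mem_normalizer_iff.mp
      ((Components.normalizer_le_normalizer_map_subtype N _) (le_normalizer hx)) z : _)
  haveI : (Cfsg.fittingSubgroup N).Characteristic := Solvable.fittingSubgroup_characteristic
  have hnF : X ≤ normalizer ((FN.subgroupOf M : Subgroup M) : Set M) := fun x hx =>
    mem_normalizer_iff.mpr fun z => (mem_normalizer_iff.mp
      ((Components.normalizer_le_normalizer_map_subtype N _) (le_normalizer hx)) z : _)
  have hFs : Group.IsSolvable (FN.subgroupOf M : Subgroup M) := by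
    haveI : Group.IsNilpotent (Cfsg.fittingSubgroup N) := Solvable.fittingSubgroup_isNilpotent
    haveI := Components.isSolvable_map N.subtype
      (inferInstance : Group.IsSolvable (Cfsg.fittingSubgroup N))
    exact Group.isSolvable_of_surjective (f := (subgroupOfEquivOfLe hFNM).symm.toMonoidHom)
      (MulEquiv.surjective _)
  rcases Components.IsComponent.le_or_commutator_eq_bot_of_le_normalizer hL hLX
      (fun z hz => map_subtype_le (Cfsg.layer N) hz : EN.subgroupOf M ≤ X) hnE with h | h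
  · -- `L` lies in `E(N)`
    intro l hl
    set φ : Cfsg.layer N →* M :=
      (N.subtype.comp (Cfsg.layer N).subtype).codRestrict M fun x => hENM ⟨x.1, x.2, rfl⟩
    have hinj : Function.Injective φ := fun a b hab =>
      Subtype.ext (Subtype.ext (congrArg (fun z : M => (z : G)) hab))
    have hr : L ≤ φ.range := fun l' hl' => by
      obtain ⟨n, hn, hne⟩ := h hl'
      exact ⟨⟨n, hn⟩, Subtype.ext hne⟩
    have hc : Cfsg.IsComponent (L.comap φ) :=
      ⟨hL.1.comap φ, Components.isQuasisimple_congr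
        ((MulEquiv.subgroupCongr (map_comap_eq_self hr)).symm.trans
          ((L.comap φ).equivMapOfInjective φ hinj).symm) hL.2⟩
    have hc' := (Components.isComponent_map_subtype
      ((Components.layer_normal (G := N)).isSubnormal) (L.comap φ)).mp hc
    obtain ⟨x, hx⟩ := hr hl
    exact ⟨x.1, Components.IsComponent.le_layer hc' ⟨x, show φ x ∈ L by rw [hx]; exact hl, rfl⟩,
      congrArg Subtype.val hx⟩
  · -- otherwise `L` centralizes `F*(N)`
    exfalso
    have hF := Components.IsComponent.commutator_eq_bot_of_isSolvable hL hFs (hLX.trans hnF)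
    have hle : L ≤ FN.subgroupOf M := by
      intro l hl
      refine ⟨⟨l, hLN ⟨l, hl, rfl⟩⟩, Components.centralizer_generalizedFitting_le ?_, rfl⟩
      have hE' : Cfsg.layer N ≤ centralizer {(⟨l, hLN ⟨l, hl, rfl⟩⟩ : N)} := fun z hz =>
        mem_centralizer_singleton_iff.mpr (Subtype.ext (congrArg Subtype.val
          (mem_centralizer_iff.mp (commutator_eq_bot_iff_le_centralizer.mp h hl)
            ⟨z, hENM ⟨z, hz, rfl⟩⟩ ⟨z, hz, rfl⟩) :))
      have hF' : Cfsg.fittingSubgroup N ≤ centralizer {(⟨l, hLN ⟨l, hl, rfl⟩⟩ : N)} := fun z hz =>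
        mem_centralizer_singleton_iff.mpr (Subtype.ext (congrArg Subtype.val
          (mem_centralizer_iff.mp (commutator_eq_bot_iff_le_centralizer.mp hF hl)
            ⟨z, hFNM ⟨z, hz, rfl⟩⟩ ⟨z, hz, rfl⟩) :))
      exact mem_centralizer_iff.mpr fun z hz =>
        mem_centralizer_singleton_iff.mp (sup_le hE' hF' hz)
    exact Components.IsComponent.not_isSolvable hL (Components.isSolvable_mono hFs hle)

/-- **Bender's maximal subgroup theorem**. -/
theorem bender_maximal [Finite G] [IsSimpleGroup G] {M N : Subgroup G} (hM : IsCoatom M)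
    (hN : IsCoatom N) (hMN : M ≠ N)
    (h1 : (Cfsg.generalizedFittingSubgroup M).map M.subtype ≤ N)
    (h2 : (Cfsg.generalizedFittingSubgroup N).map N.subtype ≤ M) :
    ∃ p : ℕ, p.Prime ∧ IsPGroup p (Cfsg.generalizedFittingSubgroup M) ∧
      IsPGroup p (Cfsg.generalizedFittingSubgroup N) := by
  -- there are no components
  have hEeq : (Cfsg.layer M).map M.subtype = (Cfsg.layer N).map N.subtype :=
    le_antisymm (layer_map_le h1 h2) (layer_map_le h2 h1)
  have hE0 : (Cfsg.layer M).map M.subtype = ⊥ := eq_bot_of_normalized_by_two hM hN hMN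
    (map_subtype_le _) (le_normalizer.trans (Components.normalizer_le_normalizer_map_subtype M _))
    (hEeq ▸ le_normalizer.trans (Components.normalizer_le_normalizer_map_subtype N _))
  have hEM : Cfsg.layer M = ⊥ := (map_eq_bot_iff_of_injective _ M.subtype_injective).mp hE0
  have hEN : Cfsg.layer N = ⊥ :=
    (map_eq_bot_iff_of_injective _ N.subtype_injective).mp (hEeq ▸ hE0)
  have hX : ∀ r : Nat.Primes, Cfsg.pCoreOf (r : ℕ) M ≤ N := fun r =>
    haveI := Fact.mk r.2
    (pCoreOf_le_fittingOf M r).trans ((map_mono le_sup_right).trans h1)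
  have hY : ∀ r : Nat.Primes, Cfsg.pCoreOf (r : ℕ) N ≤ M := fun r =>
    haveI := Fact.mk r.2
    (pCoreOf_le_fittingOf N r).trans ((map_mono le_sup_right).trans h2)
  -- no common nontrivial core
  have hne : ∀ r : Nat.Primes, Cfsg.pCoreOf (r : ℕ) M = Cfsg.pCoreOf (r : ℕ) N →
      Cfsg.pCoreOf (r : ℕ) M = ⊥ := fun r h => eq_bot_of_normalized_by_two hM hN hMN
    (LocalStructure.pCoreOf_le M) (LocalStructure.le_normalizer_pCoreOf M)
    (h ▸ LocalStructure.le_normalizer_pCoreOf N)
  -- a single prime on one side forces it on the other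
  have key : ∀ {A B : Subgroup G}, IsCoatom A → Cfsg.layer B = ⊥ →
      (∀ r : Nat.Primes, Cfsg.pCoreOf (r : ℕ) B ≤ A) →
      (∀ r : Nat.Primes, Cfsg.pCoreOf (r : ℕ) A ≤ B) →
      ∀ p q : Nat.Primes, Cfsg.pCoreOf (p : ℕ) A ≠ ⊥ → Cfsg.pCoreOf (q : ℕ) A ≠ ⊥ → p ≠ q →
        ∀ r : Nat.Primes, Cfsg.pCoreOf (r : ℕ) A ≤ Cfsg.pCoreOf (r : ℕ) B := by
    intro A B hA hB hBA hAB p q hp hq hpq r
    by_cases h : r = p
    · exact pCoreOf_le_pCoreOf hA hB hBA hAB r q (h ▸ hpq) hq
    · exact pCoreOf_le_pCoreOf hA hB hBA hAB r p h hp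
  have hsingle : ∀ p q : Nat.Primes, Cfsg.pCoreOf (p : ℕ) M ≠ ⊥ →
      Cfsg.pCoreOf (q : ℕ) M ≠ ⊥ → p = q := by
    intro p q hp hq
    by_contra hpq
    have hMN' := key hM hEN hY hX p q hp hq hpq
    have hpN : Cfsg.pCoreOf (p : ℕ) N ≠ ⊥ := fun h => hp (le_bot_iff.mp (h ▸ hMN' p))
    have hqN : Cfsg.pCoreOf (q : ℕ) N ≠ ⊥ := fun h => hq (le_bot_iff.mp (h ▸ hMN' q))
    exact hp (hne p (le_antisymm (hMN' p) (key hN hEM hX hY p q hpN hqN hpq p)))
  have hsingle' : ∀ p q : Nat.Primes, Cfsg.pCoreOf (p : ℕ) N ≠ ⊥ →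
      Cfsg.pCoreOf (q : ℕ) N ≠ ⊥ → p = q := by
    intro p q hp hq
    by_contra hpq
    have hNM := key hN hEM hX hY p q hp hq hpq
    exact hpq (hsingle p q (fun h => hp (le_bot_iff.mp (h ▸ hNM p)))
      (fun h => hq (le_bot_iff.mp (h ▸ hNM q))))
  have hF : ∀ {A : Subgroup G} (p : Nat.Primes), Cfsg.layer A = ⊥ →
      (∀ q : Nat.Primes, Cfsg.pCoreOf (q : ℕ) A ≠ ⊥ → q = p) →
      IsPGroup (p : ℕ) (Cfsg.generalizedFittingSubgroup A) ∧
        fittingOf A = Cfsg.pCoreOf (p : ℕ) A := by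
    intro A p hA h
    haveI := Fact.mk p.2
    have he : fittingOf A = Cfsg.pCoreOf (p : ℕ) A := by
      refine le_antisymm ?_ (pCoreOf_le_fittingOf A p)
      rw [fittingOf_eq_iSup]
      refine iSup_le fun q => ?_
      by_cases hq : Cfsg.pCoreOf (q : ℕ) A = ⊥
      · rw [hq]; exact bot_le
      · rw [h q hq]
    refine ⟨?_, he⟩
    rw [Cfsg.generalizedFittingSubgroup, hA, bot_sup_eq]
    have hpg : IsPGroup (p : ℕ) (fittingOf A) := he ▸ LocalStructure.pCoreOf_isPGroup A
    exact hpg.of_equiv ((Cfsg.fittingSubgroup A).equivMapOfInjective A.subtype A.subtype_injective).symm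
  have hexM : ∀ {A : Subgroup G}, Cfsg.layer A = ⊥ → Nontrivial A →
      ∃ p : Nat.Primes, Cfsg.pCoreOf (p : ℕ) A ≠ ⊥ := by
    intro A hA hnt
    by_contra h
    simp only [not_exists, not_not] at h
    obtain ⟨x, hx⟩ := exists_ne (1 : A)
    have hmem := mem_fittingOf_of_commute hA x.2 fun r y hy => by
      rw [h r, Subgroup.mem_bot] at hy
      rw [hy]; exact Commute.one_left _
    rw [fittingOf_eq_iSup] at hmem
    rw [show (⨆ r : Nat.Primes, Cfsg.pCoreOf (r : ℕ) A) = ⊥ from
      le_bot_iff.mp (iSup_le fun r => (h r).le), Subgroup.mem_bot] at hmem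
    exact hx (Subtype.ext hmem)
  have hntM : ∀ {A B : Subgroup G}, IsCoatom A → IsCoatom B → A ≠ B → Nontrivial A := by
    intro A B hA hB hAB
    rw [Subgroup.nontrivial_iff_ne_bot]
    rintro rfl
    rcases (bot_le (a := B)).eq_or_lt with h | h
    · exact hAB h
    · exact hB.1 (hA.2 B h)
  obtain ⟨p, hp⟩ := hexM hEM (hntM hM hN hMN)
  obtain ⟨q, hq⟩ := hexM hEN (hntM hN hM hMN.symm)
  obtain ⟨hXp, hXe⟩ := hF p hEM fun r hr => hsingle r p hr hp
  obtain ⟨hYq, hYe⟩ := hF q hEN fun r hr => hsingle' r q hr hq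
  by_cases hpq : p = q
  · exact ⟨p, p.2, hXp, hpq.symm ▸ hYq⟩
  exfalso
  haveI := Fact.mk p.2
  haveI := Fact.mk q.2
  have hpq' : (p : ℕ) ≠ q := fun h => hpq (Subtype.ext h)
  refine hp (eq_bot_iff.mpr fun x hx => ?_)
  have hxY : x ∈ Cfsg.pCoreOf (q : ℕ) N := by
    rw [← hYe]
    refine mem_fittingOf_of_commute hEN (hX p hx) fun r y hy => ?_
    by_cases hr : r = q
    · subst hr; exact (commute_cross hpq' (hX p) (hY r) hx hy).symm
    · have : Cfsg.pCoreOf (r : ℕ) N = ⊥ := by
        by_contra h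
        exact hr (hsingle' r q h hq)
      rw [this, Subgroup.mem_bot] at hy
      rw [hy]; exact Commute.one_left _
  exact (IsPGroup.disjoint_of_ne _ _ hpq' _ _ (LocalStructure.pCoreOf_isPGroup M)
    (LocalStructure.pCoreOf_isPGroup N)).le_bot ⟨hx, hxY⟩

end CfsgLib.Signalizer
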