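/-
A standard subgroup of even order in a group with trivial odd core is normal, or is diagonal in the
layer, or lies in a simple layer.
-/
import Cfsg.Agent.InvComp.Trichotomy
import Cfsg.Agent.InvComp.EvenComponent
import Cfsg.Agent.Components.FStar
import Cfsg.Agent.Balance.Core
import Cfsg.Agent.FT.Basic

set_option autoImplicit false

open Subgroup
open scoped commutatorElement

namespace CfsgLib.Signalizer

variable {G : Type*} [Group G] [Finite G]

theorem le_layer_of_isPComponent {p : ℕ} [Fact p.Prime] (hO : Cfsg.pPrimeCore p G = ⊥)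
    {E : Subgroup G} (hE : Cfsg.IsPComponent p E) : E ≤ Cfsg.layer G := by
  refine Components.IsComponent.le_layer ⟨hE.1, ?_⟩
  rw [Components.IsPComponent.isComponent_iff hE, hO, inf_bot_eq, commutator_bot_right]

/-- An involution in a tightly embedded `C(A)` has centralizer normalizing `A`. -/
theorem centralizer_le_normalizer_of_mem {A : Subgroup G} (hA : Cfsg.IsStandardSubgroup A) {u : G}
    (hu : orderOf u = 2) (huA : u ∈ centralizer (A : Set G)) :
    centralizer ({u} : Set G) ≤ normalizer (A : Set G) := by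
  intro g hg
  by_contra h
  rw [hA.2.2.2] at h
  have hodd := hA.2.1.2 g h
  have hmem : u ∈ centralizer (A : Set G) ⊓ (centralizer (A : Set G)).map (MulAut.conj g).toMonoidHom := by
    refine ⟨huA, u, huA, ?_⟩
    show g * u * g⁻¹ = u
    rw [mem_centralizer_singleton_iff.mp hg, mul_inv_cancel_right]
  have h2 := orderOf_dvd_natCard (⟨u, hmem⟩ :
    (centralizer (A : Set G) ⊓ (centralizer (A : Set G)).map (MulAut.conj g).toMonoidHom : Subgroup G))
  rw [Subgroup.orderOf_mk, hu] at h2
  exact Nat.not_even_iff_odd.mpr hodd (even_iff_two_dvd.mpr h2)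

/-- The trichotomy for a standard subgroup of even order. -/
theorem standard_trichotomy (A : Subgroup G) (hA : Cfsg.IsStandardSubgroup A)
    (hA2 : 2 ∣ Nat.card A) (hO : Cfsg.oddCore G = ⊥) (t : G) (ht : orderOf t = 2)
    (htA : t ∈ centralizer (A : Set G)) :
    A.Normal ∨
    (∃ X : Subgroup G, IsSimpleGroup ↥X ∧ ¬ IsMulCommutative ↥X ∧ Nonempty (↥X ≃* ↥A) ∧
      (∀ a ∈ X, ∀ b ∈ X.map (MulAut.conj t).toMonoidHom, a * b = b * a) ∧
      X ⊓ X.map (MulAut.conj t).toMonoidHom = ⊥ ∧
      X ⊔ X.map (MulAut.conj t).toMonoidHom = Cfsg.layer G ∧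
      centralizer (A : Set G) = zpowers t) ∨
    (A ≤ Cfsg.layer G ∧ IsSimpleGroup ↥(Cfsg.layer G) ∧ ¬ IsMulCommutative ↥(Cfsg.layer G)) := by
  haveI : Fact (Nat.Prime 2) := ⟨Nat.prime_two⟩
  have hO' : Cfsg.pPrimeCore 2 G = ⊥ := hO
  set K := centralizer (A : Set G) with hK
  have htt : t * t = 1 := by rw [← sq, ← ht]; exact pow_orderOf_eq_one t
  set Ct := centralizer ({t} : Set G) with hCt
  have hACt : A ≤ Ct := fun a ha =>
    mem_centralizer_singleton_iff.mpr (mem_centralizer_iff.mp htA a ha)
  have hAcomp : Cfsg.IsComponent (A.subgroupOf Ct) :=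
    ⟨((normal_subgroupOf_iff_le_normalizer hACt).mpr
        (centralizer_le_normalizer_of_mem hA ht htA)).isSubnormal,
      Components.isQuasisimple_congr (subgroupOfEquivOfLe hACt).symm hA.1⟩
  have hperfA : ⁅A, A⁆ = A := by
    have h := congrArg (Subgroup.map Ct.subtype) (Components.IsComponent.commutator_eq_self hAcomp)
    rwa [map_commutator, map_subgroupOf_eq_of_le hACt] at h
  have hAne : A ≠ ⊥ := fun h => Components.IsComponent.ne_bot hAcomp (by rw [h, bot_subgroupOf])
  -- `A` lies in the layer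
  have hAE : A ≤ Cfsg.layer G := by
    have hR : IsPGroup 2 (zpowers t) :=
      IsPGroup.of_card (n := 1) (by rw [Nat.card_zpowers, ht, pow_one])
    have hCR : centralizer (zpowers t : Set G) = Ct := by
      rw [hCt, zpowers_eq_closure, centralizer_closure]
    have hcomp : Cfsg.IsComponent (A.subgroupOf (centralizer (zpowers t : Set G))) := by
      rw [hCR]; exact hAcomp
    exact (InvComp.le_pLayer_of_isComponent_centralizer hR (hCR.symm ▸ hACt) hcomp hA2).trans
      (sSup_le fun E hE => le_layer_of_isPComponent hO' hE)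
  obtain ⟨D, hD, hcases⟩ := InvComp.component_cases htt hACt hAcomp hAE
  -- if `D = A` then `A` is normal
  by_cases hDA : D = A
  · left
    subst hDA
    refine ⟨fun x hx g => ?_⟩
    have hfix : D.map (MulAut.conj g).toMonoidHom = D := by
      by_contra h
      exact hA.2.2.1 g h (Components.IsComponent.commutator_eq_bot_of_ne hD
        (Components.IsComponent.conj hD g) (Ne.symm h))
    exact hfix ▸ ⟨x, hx, rfl⟩
  right
  have hperfD := Components.IsComponent.commutator_eq_self hD
  -- an involution centralizing `A` and `D` is impossible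
  have hno : ∀ u : G, orderOf u = 2 → u ∈ centralizer (D : Set G) → u ∈ K → False := by
    intro u hu huD huK
    have hDn : D ≤ normalizer (A : Set G) := fun d hd =>
      centralizer_le_normalizer_of_mem hA hu huK
        (mem_centralizer_singleton_iff.mpr (mem_centralizer_iff.mp huD d hd))
    rcases hcases with ⟨-, hAD⟩ | ⟨hne, φ, hφ, hrange⟩
    · haveI : (A.subgroupOf D).Normal := normal_subgroupOf_of_le_normalizer hDn
      rcases Components.IsQuasisimple.normal_eq_top_or_le_center hD.2 (A.subgroupOf D) with h | h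
      · exact hDA (le_antisymm (subgroupOf_eq_top.mp h) hAD)
      · apply hAne
        rw [← hperfA, commutator_eq_bot_iff_le_centralizer]
        intro a ha
        rw [mem_centralizer_iff]
        intro b hb
        exact congrArg Subtype.val
          (mem_center_iff.mp (h (show (⟨a, hAD ha⟩ : D) ∈ A.subgroupOf D from ha)) ⟨b, hAD hb⟩)
    · have hbot := Components.IsComponent.commutator_eq_bot_of_ne hD
        (Components.IsComponent.conj hD t) (Ne.symm hne)
      have hDle : D ≤ A := by
        rw [← hperfD, commutator_le]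
        intro x hx y hy
        have hmem : φ ⟨y, hy⟩ ∈ A := hrange ▸ ⟨_, rfl⟩
        have h1 := (mem_normalizer_iff.mp (hDn hx) _).mp hmem
        have h2 := mul_mem h1 (inv_mem hmem)
        have hc : Commute x (t * y * t⁻¹) :=
          (mem_centralizer_iff.mp (commutator_eq_bot_iff_le_centralizer.mp hbot hx)
            _ ⟨y, hy, rfl⟩).symm
        have e : x * φ ⟨y, hy⟩ * x⁻¹ * (φ ⟨y, hy⟩)⁻¹ = ⁅x, y⁆ := by
          rw [hφ, commutatorElement_def]
          show x * (y * (t * y * t⁻¹)) * x⁻¹ * (y * (t * y * t⁻¹))⁻¹ = x * y * x⁻¹ * y⁻¹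
          calc x * (y * (t * y * t⁻¹)) * x⁻¹ * (y * (t * y * t⁻¹))⁻¹
              = x * y * ((t * y * t⁻¹) * x⁻¹) * (t * y * t⁻¹)⁻¹ * y⁻¹ := by group
            _ = _ := by rw [hc.symm.inv_right.eq]; group
        rwa [e] at h2
      apply hne
      refine Subgroup.eq_of_le_of_card_ge ?_ (card_map_of_injective (MulAut.conj t).injective).ge
      rintro _ ⟨d, hd, rfl⟩
      show t * d * t⁻¹ ∈ D
      rw [(mem_centralizer_singleton_iff.mp (hACt (hDle hd))).symm, mul_inv_cancel_right]
      exact hd
  -- `A` lies in `D ⊔ Dᵗ`, so what centralizes both centralizes `A`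
  set D' := D.map (MulAut.conj t).toMonoidHom with hD'
  have hD'c : Cfsg.IsComponent D' := Components.IsComponent.conj hD t
  have hAsup : A ≤ D ⊔ D' := by
    rcases hcases with ⟨-, hAD⟩ | ⟨-, φ, hφ, hrange⟩
    · exact hAD.trans le_sup_left
    · rw [← hrange]
      rintro _ ⟨d, rfl⟩
      rw [hφ]
      exact mul_mem_sup d.2 ⟨d, d.2, rfl⟩
  have hinK : ∀ W : Subgroup G, W ≤ centralizer (D : Set G) → W ≤ centralizer (D' : Set G) →
      W ≤ K := fun W h1 h2 =>
    le_centralizer_iff.mp (hAsup.trans (sup_le (le_centralizer_iff.mp h1) (le_centralizer_iff.mp h2)))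
  have heven : ∀ W : Subgroup G, W ≤ centralizer (D : Set G) → W ≤ centralizer (D' : Set G) →
      2 ∣ Nat.card W → False := by
    intro W h1 h2 hW
    obtain ⟨u, hu⟩ := exists_prime_orderOf_dvd_card' 2 hW
    exact hno u ((Subgroup.orderOf_coe u).trans hu) (h1 u.2) (hinK W h1 h2 u.2)
  -- `D` and `Dᵗ` are the only components
  have honly : ∀ M : Subgroup G, Cfsg.IsComponent M → M = D ∨ M = D' := by
    intro M hM
    by_contra h
    rw [not_or] at h
    exact heven M
      (commutator_eq_bot_iff_le_centralizer.mp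
        (Components.IsComponent.commutator_eq_bot_of_ne hM hD h.1))
      (commutator_eq_bot_iff_le_centralizer.mp
        (Components.IsComponent.commutator_eq_bot_of_ne hM hD'c h.2))
      (Balance.dvd_card_component hO' hM)
  have hlayer : Cfsg.layer G = D ⊔ D' := by
    refine le_antisymm (sSup_le fun M hM => ?_) (sup_le (Components.IsComponent.le_layer hD)
      (Components.IsComponent.le_layer hD'c))
    rcases honly M hM with rfl | rfl
    · exact le_sup_left
    · exact le_sup_right
  have hU : Cfsg.pCore 2 G = ⊥ := by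
    by_contra hne
    have hF : Cfsg.pCore 2 G ≤ centralizer (Cfsg.layer G : Set G) := by
      rw [le_centralizer_iff]
      exact Components.layer_le_centralizer_fittingSubgroup.trans
        (centralizer_le (SetLike.coe_subset_coe.mpr (Components.pCore_le_fittingSubgroup 2)))
    have h2 : 2 ∣ Nat.card (Cfsg.pCore 2 G) := by
      obtain ⟨n, hn⟩ := IsPGroup.iff_card.mp (Components.isPGroup_pCore (G := G) 2)
      rw [hn]
      refine dvd_pow_self 2 ?_
      rintro rfl
      rw [pow_zero] at hn
      exact hne (Subgroup.card_eq_one.mp hn)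
    exact heven _
      (hF.trans (centralizer_le (SetLike.coe_subset_coe.mpr (Components.IsComponent.le_layer hD))))
      (hF.trans (centralizer_le (SetLike.coe_subset_coe.mpr (Components.IsComponent.le_layer hD'c))))
      h2
  have hFit : Cfsg.fittingSubgroup G = ⊥ := by rw [Balance.fittingSubgroup_eq_pCore hO', hU]
  have hZD : ∀ {E : Subgroup G}, Cfsg.IsComponent E → E ⊓ centralizer (E : Set G) = ⊥ := fun hE =>
    le_bot_iff.mp (hU ▸ Balance.component_inf_centralizer_le_pCore hO' hE)
  have hsimple : ∀ {E : Subgroup G}, Cfsg.IsComponent E →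
      IsSimpleGroup E ∧ ¬ IsMulCommutative E := by
    intro E hE
    have hnc := Components.IsQuasisimple.not_isMulCommutative hE.2
    haveI := Components.IsQuasisimple.nontrivial hE.2
    refine ⟨⟨fun N hN => ?_⟩, hnc⟩
    haveI := hN
    rcases Components.IsQuasisimple.normal_eq_top_or_le_center hE.2 N with h | h
    · exact Or.inr h
    · left
      rw [eq_bot_iff]
      intro x hx
      have hx' : (x : G) ∈ E ⊓ centralizer (E : Set G) :=
        Subgroup.mem_inf.mpr ⟨x.2, mem_centralizer_iff.mpr fun y hy =>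
          congrArg Subtype.val (mem_center_iff.mp (h hx) ⟨y, hy⟩)⟩
      rw [hZD hE, Subgroup.mem_bot] at hx'
      exact Subgroup.mem_bot.mpr (Subtype.ext hx')
  rcases hcases with ⟨hfix, hAD⟩ | ⟨hne, φ, hφ, hrange⟩
  · right
    rw [hlayer, hfix, sup_idem]
    exact ⟨hAD, hsimple hD⟩
  left
  have hbot := Components.IsComponent.commutator_eq_bot_of_ne hD hD'c (Ne.symm hne)
  have hcm : ∀ a ∈ D, ∀ b ∈ D', a * b = b * a := fun a ha b hb =>
    (mem_centralizer_iff.mp (commutator_eq_bot_iff_le_centralizer.mp hbot ha) b hb).symm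
  have hdisj : D ⊓ D' = ⊥ := by
    refine le_bot_iff.mp ?_
    rw [← hZD hD]
    refine le_inf inf_le_left fun z hz => mem_centralizer_iff.mpr fun y hy => ?_
    exact hcm y hy z hz.2
  have hinj : Function.Injective φ := by
    refine (injective_iff_map_eq_one φ).mpr fun d hd => Subtype.ext ?_
    rw [hφ] at hd
    have h1 : (d : G) ∈ D' := by
      rw [eq_inv_of_mul_eq_one_left hd]
      exact inv_mem ⟨d, d.2, rfl⟩
    have h2 : (d : G) ∈ D ⊓ D' := ⟨d.2, h1⟩
    rw [hdisj, Subgroup.mem_bot] at h2
    exact h2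
  refine ⟨D, (hsimple hD).1, (hsimple hD).2,
    ⟨(MonoidHom.ofInjective hinj).trans (MulEquiv.subgroupCongr hrange)⟩, hcm, hdisj,
    hlayer.symm, ?_⟩
  -- the centralizer of `A`
  have hKfix : ∀ k ∈ K, D.map (MulAut.conj k).toMonoidHom = D → k = 1 := by
    intro k hk hkD
    have hkD' : ∀ x ∈ D', k * x * k⁻¹ ∈ D' := by
      have h' : D'.map (MulAut.conj k).toMonoidHom = D' := by
        rcases honly _ (Components.IsComponent.conj hD'c k) with h | h
        · exact absurd (Subgroup.map_injective (MulAut.conj k).injective (h.trans hkD.symm)) hne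
        · exact h
      exact fun x hx => h' ▸ ⟨x, hx, rfl⟩
    have hfixd : ∀ d ∈ D, k * d * k⁻¹ = d ∧ k * (t * d * t⁻¹) * k⁻¹ = t * d * t⁻¹ := by
      intro d hd
      have hmem : φ ⟨d, hd⟩ ∈ A := hrange ▸ ⟨_, rfl⟩
      have hfixA : k * φ ⟨d, hd⟩ * k⁻¹ = φ ⟨d, hd⟩ := by
        rw [← mem_centralizer_iff.mp hk _ hmem, mul_inv_cancel_right]
      rw [hφ] at hfixA
      have hkd : k * d * k⁻¹ ∈ D := hkD ▸ (⟨d, hd, rfl⟩ : k * d * k⁻¹ ∈ D.map (MulAut.conj k).toMonoidHom)
      have hA' : t * d * t⁻¹ ∈ D' := ⟨d, hd, rfl⟩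
      have hfix2 : k * d * k⁻¹ * (k * (t * d * t⁻¹) * k⁻¹) = d * (t * d * t⁻¹) := by
        calc _ = k * (d * (t * d * t⁻¹)) * k⁻¹ := by group
          _ = _ := hfixA
      have he : d⁻¹ * (k * d * k⁻¹) = (t * d * t⁻¹) * (k * (t * d * t⁻¹) * k⁻¹)⁻¹ := by
        calc d⁻¹ * (k * d * k⁻¹)
            = d⁻¹ * (k * d * k⁻¹ * (k * (t * d * t⁻¹) * k⁻¹)) * (k * (t * d * t⁻¹) * k⁻¹)⁻¹ := by
              group
          _ = _ := by rw [hfix2]; group
      have hmem2 : d⁻¹ * (k * d * k⁻¹) ∈ D ⊓ D' :=
        Subgroup.mem_inf.mpr ⟨mul_mem (inv_mem hd) hkd,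
          he ▸ mul_mem hA' (inv_mem (hkD' _ hA'))⟩
      rw [hdisj, Subgroup.mem_bot, inv_mul_eq_one] at hmem2
      refine ⟨hmem2.symm, ?_⟩
      rw [← hmem2] at hfix2
      exact mul_left_cancel hfix2
    have hkc : k ∈ centralizer (Cfsg.generalizedFittingSubgroup G : Set G) := by
      rw [Cfsg.generalizedFittingSubgroup, hFit, sup_bot_eq, hlayer]
      have hle : D ⊔ D' ≤ centralizer {k} := by
        refine sup_le (fun d hd => mem_centralizer_singleton_iff.mpr ?_) ?_
        · exact (mul_inv_eq_iff_eq_mul.mp (hfixd d hd).1).symm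
        · rintro _ ⟨d, hd, rfl⟩
          exact mem_centralizer_singleton_iff.mpr (mul_inv_eq_iff_eq_mul.mp (hfixd d hd).2).symm
      exact mem_centralizer_iff.mpr fun x hx => mem_centralizer_singleton_iff.mp (hle hx)
    have := Components.centralizer_generalizedFitting_le hkc
    rwa [hFit, Subgroup.mem_bot] at this
  refine le_antisymm (fun k hk => ?_) (zpowers_le.mpr htA)
  rcases honly _ (Components.IsComponent.conj hD k) with h | h
  · rw [hKfix k hk h]; exact one_mem _
  · have hcomp : D.map (MulAut.conj (t * k)).toMonoidHom = D := by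
      rw [show (MulAut.conj (t * k)).toMonoidHom =
          (MulAut.conj t).toMonoidHom.comp (MulAut.conj k).toMonoidHom from
        MonoidHom.ext fun x => by simp [mul_assoc], ← Subgroup.map_map, h, hD']
      exact InvComp.map_conj_conj htt D
    have h1 := hKfix (t * k) (mul_mem htA hk) hcomp
    have : k = t⁻¹ := eq_inv_of_mul_eq_one_right h1
    rw [this]
    exact inv_mem (mem_zpowers t)

universe u in
/-- The trichotomy, given that groups of odd order are solvable (the statement of S1347). -/
theorem standard_trichotomy_of_oddSolvable {G : Type u} [Group G] [Finite G]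
    (hodd : FT.OddSolvable.{u}) (A : Subgroup G) (hA : Cfsg.IsStandardSubgroup A)
    (hO : Cfsg.oddCore G = ⊥) (t : G) (ht : orderOf t = 2) (htA : t ∈ centralizer (A : Set G)) :
    A.Normal ∨
    (∃ X : Subgroup G, IsSimpleGroup ↥X ∧ ¬ IsMulCommutative ↥X ∧ Nonempty (↥X ≃* ↥A) ∧
      (∀ a ∈ X, ∀ b ∈ X.map (MulAut.conj t).toMonoidHom, a * b = b * a) ∧
      X ⊓ X.map (MulAut.conj t).toMonoidHom = ⊥ ∧
      X ⊔ X.map (MulAut.conj t).toMonoidHom = Cfsg.layer G ∧
      centralizer (A : Set G) = zpowers t) ∨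
    (A ≤ Cfsg.layer G ∧ IsSimpleGroup ↥(Cfsg.layer G) ∧ ¬ IsMulCommutative ↥(Cfsg.layer G)) := by
  refine standard_trichotomy A hA ?_ hO t ht htA
  by_contra h
  exact Components.IsQuasisimple.not_isSolvable hA.1 (hodd A (Nat.not_even_iff_odd.mp
    fun he => h he.two_dvd))

end CfsgLib.Signalizer
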