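/-
Generation of a coprimely acted group by fixed points of hyperplanes of the acting group.
-/
import Cfsg.Agent.OddOrder.Transitivity
import Cfsg.Prelude.Def_Balance
import Mathlib.GroupTheory.Sylow

set_option autoImplicit false

open Subgroup

namespace CfsgLib.Signalizer

variable {G : Type*} [Group G]

theorem isPGroup_of_elab {p : ℕ} {A : Subgroup G} (hA : Cfsg.IsElementaryAbelian p A) :
    IsPGroup p A := fun t => ⟨1, Subtype.ext (by simpa using hA.2 t t.2)⟩

theorem elab_of_le {p : ℕ} {A B : Subgroup G} (hA : Cfsg.IsElementaryAbelian p A) (hB : B ≤ A) :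
    Cfsg.IsElementaryAbelian p B :=
  ⟨⟨⟨fun a b => Subtype.ext (congrArg Subtype.val
    (hA.1.is_comm.comm (⟨a, hB a.2⟩ : A) ⟨b, hB b.2⟩) :)⟩⟩, fun b hb => hA.2 b (hB hb)⟩

variable [Finite G]

/-- A nontrivial elementary abelian group has a hyperplane. -/
theorem exists_relIndex_eq {p : ℕ} [Fact p.Prime] {A : Subgroup G}
    (hA : Cfsg.IsElementaryAbelian p A) (hne : A ≠ ⊥) :
    ∃ B : Subgroup G, B ≤ A ∧ B.relIndex A = p := by
  obtain ⟨n, hn⟩ := IsPGroup.iff_card.mp (isPGroup_of_elab hA)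
  obtain ⟨m, rfl⟩ : ∃ m, n = m + 1 := by
    rcases n.eq_zero_or_pos with rfl | h
    · exact absurd (Subgroup.card_eq_one.mp (by simpa using hn)) hne
    · exact ⟨n - 1, by omega⟩
  obtain ⟨K, hK⟩ := Sylow.exists_subgroup_card_pow_prime (G := A) p (n := m)
    (hn ▸ pow_dvd_pow p (Nat.le_succ m))
  refine ⟨K.map A.subtype, map_subtype_le K, ?_⟩
  have h := K.card_mul_index
  rw [hK, hn, pow_succ] at h
  rw [relIndex, subgroupOf, comap_map_eq_self_of_injective A.subtype_injective]
  exact mul_left_cancel₀ (pow_ne_zero m (Fact.out : p.Prime).ne_zero) h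

/-- Coprime generation by the centralizers of hyperplanes (subgroups of index at most `p`). -/
theorem le_of_forall_hyperplane {p : ℕ} [Fact p.Prime] {A X D : Subgroup G}
    (hA : Cfsg.IsElementaryAbelian p A) (hX : ¬ p ∣ Nat.card X)
    (hAX : A ≤ normalizer (X : Set G))
    (hD : ∀ B : Subgroup G, B ≤ A → B.relIndex A ≤ p → X ⊓ centralizer (B : Set G) ≤ D) :
    X ≤ D := by
  by_contra hXD
  obtain ⟨B, hB, hcard, hnot⟩ := CfsgLib.OddOrder.exists_hyperplane_not_le hA hAX
    (((Fact.out : p.Prime).coprime_iff_not_dvd.2 hX).symm) hXD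
  refine hnot (hD B hB ?_)
  have h := relIndex_mul_relIndex (⊥ : Subgroup G) B A bot_le hB
  rw [relIndex_bot_left, relIndex_bot_left] at h
  rw [← h, mul_comm p] at hcard
  exact Nat.le_of_mul_le_mul_left hcard Nat.card_pos

/-- Coprime generation by the centralizers of hyperplanes of index exactly `p`. -/
theorem le_of_forall_relIndex_eq {p : ℕ} [Fact p.Prime] {A X D : Subgroup G}
    (hA : Cfsg.IsElementaryAbelian p A) (hne : A ≠ ⊥) (hX : ¬ p ∣ Nat.card X)
    (hAX : A ≤ normalizer (X : Set G))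
    (hD : ∀ B : Subgroup G, B ≤ A → B.relIndex A = p → X ⊓ centralizer (B : Set G) ≤ D) :
    X ≤ D := by
  refine le_of_forall_hyperplane hA hX hAX fun B hB hidx => ?_
  by_cases h1 : B.relIndex A = 1
  · obtain ⟨B', hB', hidx'⟩ := exists_relIndex_eq hA hne
    exact (inf_le_inf_left X (centralizer_le (SetLike.coe_subset_coe.2
      (hB'.trans (relIndex_eq_one.1 h1))))).trans (hD B' hB' hidx')
  · refine hD B hB ?_
    obtain ⟨n, hn⟩ := IsPGroup.iff_card.mp (isPGroup_of_elab hA)
    have hdvd : B.relIndex A ∣ p ^ n := hn ▸ Dvd.intro_left _ (by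
      have h := relIndex_mul_relIndex (⊥ : Subgroup G) B A bot_le hB
      rwa [relIndex_bot_left, relIndex_bot_left] at h)
    obtain ⟨k, -, hk⟩ := (Nat.dvd_prime_pow Fact.out).1 hdvd
    rcases k with - | k
    · exact absurd (by simpa using hk) h1
    · refine le_antisymm hidx ?_
      rw [hk]
      exact Nat.le_self_pow (Nat.succ_ne_zero k) p

/-- A member of the family of a signalizer functor is generated by the intersections with the
values at hyperplanes of any noncyclic subgroup. -/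
theorem mem_family_eq_iSup {p : ℕ} [Fact p.Prime] {A B X : Subgroup G} {θ : G → Subgroup G}
    (hA : Cfsg.IsElementaryAbelian p A) (hB : B ≤ A) (hne : B ≠ ⊥)
    (hX : X ∈ Cfsg.signalizerFamily p A θ) :
    X = ⨆ D : {D : Subgroup G // D ≤ B ∧ D.relIndex B = p},
      X ⊓ Cfsg.signalizerInf (D : Subgroup G) θ := by
  obtain ⟨-, hXp, hXA, hXθ⟩ := hX
  refine le_antisymm ?_ (iSup_le fun D => inf_le_left)
  refine le_of_forall_relIndex_eq (elab_of_le hA hB) hne hXp ?_ fun D hD hidx => ?_
  · intro b hb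
    rw [mem_normalizer_iff]
    refine fun x => ⟨hXA b (hB hb) x, fun hx => ?_⟩
    simpa [mul_assoc] using hXA b⁻¹ (inv_mem (hB hb)) _ hx
  · refine le_trans ?_ (le_iSup (fun D : {D : Subgroup G // D ≤ B ∧ D.relIndex B = p} =>
      X ⊓ Cfsg.signalizerInf (D : Subgroup G) θ) ⟨D, hD, hidx⟩)
    refine le_inf inf_le_left (le_iInf fun a => ?_)
    exact le_trans (inf_le_inf_left X (centralizer_le (Set.singleton_subset_iff.2 a.2.1)))
      (hXθ _ (hB (hD a.2.1)) a.2.2)

end CfsgLib.Signalizer
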