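/-
The structure of subnormal subgroups of the generalized Fitting subgroup.
-/
import Cfsg.Agent.Components.FStar
import Cfsg.Agent.Components.Layer
import Cfsg.Agent.Solvable.Fitting
import Cfsg.Agent.PLocal.Cores

set_option autoImplicit false

open Subgroup
open scoped Pointwise

namespace CfsgLib.Signalizer

variable {G : Type*} [Group G]

theorem generalizedFitting_normal : (Cfsg.generalizedFittingSubgroup G).Normal :=
  Subgroup.sup_normal (Cfsg.layer G) (Cfsg.fittingSubgroup G)

/-- The Fitting subgroup of a subnormal subgroup lies in the Fitting subgroup. -/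
theorem fittingSubgroup_map_subtype_le [Finite G] {S : Subgroup G} (hS : S.IsSubnormal) :
    (Cfsg.fittingSubgroup S).map S.subtype ≤ Cfsg.fittingSubgroup G := by
  rw [CfsgLib.Solvable.fittingSubgroup_eq_iSup, Subgroup.map_iSup]
  refine iSup_le fun p => ?_
  haveI := Fact.mk p.2
  have h1 : ((Cfsg.pCore (p : ℕ) S).map S.subtype).IsSubnormal :=
    (CfsgLib.Solvable.pCore_normal (G := S) p).isSubnormal.trans' hS
  exact (CfsgLib.PLocal.le_pCore_of_isSubnormal h1
    ((CfsgLib.Solvable.isPGroup_pCore (p : ℕ)).map _)).trans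
      (CfsgLib.Solvable.pCore_le_fittingSubgroup _)

/-- A component contained in a subnormal subgroup, and the others. -/
theorem layer_le_centralizer_of_forall_not_le {S : Subgroup G} (hS : S.IsSubnormal) :
    sSup {K : Subgroup G | Cfsg.IsComponent K ∧ ¬ K ≤ S} ≤ centralizer (S : Set G) :=
  sSup_le fun _ hK => commutator_eq_bot_iff_le_centralizer.mp
    ((Components.IsComponent.le_or_commutator_eq_bot hK.1 hS).resolve_left hK.2)

/-- A subnormal subgroup of `F*(G)` is the product of its Fitting subgroup and its layer. -/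
theorem fitting_sup_layer_eq_top [Finite G] {S : Subgroup G}
    (hS : S ≤ Cfsg.generalizedFittingSubgroup G) (hsn : S.IsSubnormal) :
    Cfsg.fittingSubgroup S ⊔ Cfsg.layer S = ⊤ := by
  haveI : (Cfsg.fittingSubgroup G).Normal := Components.fittingSubgroup_normal
  set E₁ := sSup {K : Subgroup G | Cfsg.IsComponent K ∧ K ≤ S} with hE₁
  set E₂ := sSup {K : Subgroup G | Cfsg.IsComponent K ∧ ¬ K ≤ S} with hE₂
  set F := Cfsg.fittingSubgroup G with hF
  have hc : E₂ ≤ centralizer (S : Set G) := layer_le_centralizer_of_forall_not_le hsn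
  have hcF : E₂ ≤ centralizer (F : Set G) :=
    (sSup_le_sSup fun K hK => hK.1).trans Components.layer_le_centralizer_fittingSubgroup
  have hE₁S : E₁ ≤ S := sSup_le fun K hK => hK.2
  have hE₁layer : E₁ ≤ (Cfsg.layer S).map S.subtype :=
    sSup_le fun K hK => Components.IsComponent.le_layer_map_subtype hK.1 hK.2
  have hlayer : Cfsg.layer G = E₁ ⊔ E₂ := by
    rw [hE₁, hE₂, ← sSup_union, Cfsg.layer]
    congr 1
    ext K
    simp only [Set.mem_union, Set.mem_setOf_eq]
    tauto
  -- the part of `S` complementary to its components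
  set K := E₂ ⊔ F with hK
  have hSK : S ≤ normalizer (K : Set G) := by
    refine le_trans (le_inf ?_ le_normalizer_of_normal) (normalizer_inf_normalizer_le_normalizer_sup E₂ F)
    refine le_trans ?_ (centralizer_le_normalizer _)
    exact le_centralizer_iff.mp hc
  have hDsub : ((S ⊓ K).subgroupOf S).Normal :=
    normal_subgroupOf_of_le_normalizer ((le_inf le_normalizer hSK).trans
      inf_normalizer_le_normalizer_inf)
  have hDnil : Group.IsNilpotent ↥(S ⊓ K) := by
    have hEn : (E₂.subgroupOf K).Normal := by
      refine normal_subgroupOf_of_le_normalizer (sup_le le_normalizer ?_)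
      exact (le_centralizer_iff.mp hcF).trans (centralizer_le_normalizer _)
    let q := QuotientGroup.mk' (E₂.subgroupOf K)
    haveI : Group.IsNilpotent F := CfsgLib.Solvable.fittingSubgroup_isNilpotent
    haveI : Group.IsNilpotent (↥K ⧸ E₂.subgroupOf K) := by
      refine Group.nilpotent_of_surjective (q.comp (Subgroup.inclusion (le_sup_right : F ≤ K))) ?_
      intro x
      induction x using QuotientGroup.induction_on with | H x => ?_
      obtain ⟨e, he, f, hf, hef⟩ := mem_sup_of_normal_right.mp (x.2)
      refine ⟨⟨f, hf⟩, QuotientGroup.eq.mpr ?_⟩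
      change f⁻¹ * (x : G) ∈ E₂
      rw [← hef]
      have := mem_centralizer_iff.mp (hcF he) f hf
      rw [← this, inv_mul_cancel_left]
      exact he
    refine Subgroup.isNilpotent_of_ker_le_center
      (q.comp (Subgroup.inclusion (inf_le_right : S ⊓ K ≤ K))) fun d hd => ?_
    rw [MonoidHom.mem_ker, MonoidHom.comp_apply] at hd
    have hdE : (d : G) ∈ E₂ := (QuotientGroup.eq_one_iff (N := E₂.subgroupOf K) _).mp hd
    exact mem_center_iff.mpr fun u => Subtype.ext (mem_centralizer_iff.mp (hc hdE) u u.2.1)
  have hD : S ⊓ K ≤ (Cfsg.fittingSubgroup S).map S.subtype := by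
    haveI := hDsub
    have h1 : Group.IsNilpotent ↥((S ⊓ K).subgroupOf S) :=
      Group.nilpotent_of_surjective (subgroupOfEquivOfLe (inf_le_left : S ⊓ K ≤ S)).symm.toMonoidHom
        (MulEquiv.surjective _)
    have h2 := map_mono (f := S.subtype) (CfsgLib.Solvable.le_fittingSubgroup (G := S) h1)
    rwa [subgroupOf_map_subtype, inf_eq_left.mpr inf_le_left] at h2
  rw [← Subgroup.map_subtype_inj, Subgroup.map_sup, ← MonoidHom.range_eq_map, range_subtype]
  refine le_antisymm (sup_le (map_subtype_le _) (map_subtype_le _)) fun s hs => ?_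
  have hmem : s ∈ E₁ ⊔ K := by
    rw [hK, ← sup_assoc, ← hlayer]
    exact hS hs
  have hn : E₁ ≤ normalizer (K : Set G) := hE₁S.trans hSK
  obtain ⟨e, he, k, hk, rfl⟩ : s ∈ (E₁ : Set G) * (K : Set G) := by
    rw [← coe_mul_of_left_le_normalizer_right E₁ K hn]; exact hmem
  refine mul_mem (mem_sup_right (hE₁layer he)) (mem_sup_left (hD ⟨?_, hk⟩))
  simpa using mul_mem (inv_mem (hE₁S he)) hs

/-- The Fitting subgroup of a subnormal subgroup of `F*(G)`. -/
theorem fittingSubgroup_of_subnormal [Finite G] {S : Subgroup G} (hsn : S.IsSubnormal) :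
    (Cfsg.fittingSubgroup S).map S.subtype = Cfsg.fittingSubgroup G ⊓ S := by
  refine le_antisymm (le_inf (fittingSubgroup_map_subtype_le hsn) (map_subtype_le _)) ?_
  haveI : (Cfsg.fittingSubgroup G).Normal := Components.fittingSubgroup_normal
  haveI : Group.IsNilpotent (Cfsg.fittingSubgroup G) := CfsgLib.Solvable.fittingSubgroup_isNilpotent
  have h1 : Group.IsNilpotent ↥((Cfsg.fittingSubgroup G).subgroupOf S) :=
    Subgroup.isNilpotent_of_ker_le_center
      ((S.subtype.comp ((Cfsg.fittingSubgroup G).subgroupOf S).subtype).codRestrict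
        (Cfsg.fittingSubgroup G) fun x => x.2)
      (fun x hx => by
        have h1 : x = 1 := Subtype.ext (Subtype.ext (congrArg Subtype.val (MonoidHom.mem_ker.mp hx) :))
        rw [h1]
        exact one_mem _)
  have := map_mono (f := S.subtype) (CfsgLib.Solvable.le_fittingSubgroup (G := S) h1)
  rwa [subgroupOf_map_subtype] at this

/-- `F*(G) ∩ B = F*(B)` for normal `B`. -/
theorem generalizedFitting_inf_normal [Finite G] (B : Subgroup G) [B.Normal] :
    Cfsg.generalizedFittingSubgroup G ⊓ B = (Cfsg.generalizedFittingSubgroup B).map B.subtype := by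
  have hBsn : B.IsSubnormal := Subgroup.Normal.isSubnormal inferInstance
  refine le_antisymm ?_ (le_inf ?_ (map_subtype_le _))
  · set S := Cfsg.generalizedFittingSubgroup G ⊓ B with hS
    have hsn : S.IsSubnormal := generalizedFitting_normal.isSubnormal.inf hBsn
    have htop := congrArg (Subgroup.map S.subtype) (fitting_sup_layer_eq_top inf_le_left hsn)
    rw [← MonoidHom.range_eq_map, range_subtype, Subgroup.map_sup,
      fittingSubgroup_of_subnormal hsn] at htop
    rw [← htop, Cfsg.generalizedFittingSubgroup, Subgroup.map_sup]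
    refine sup_le (le_trans ?_ le_sup_right) (le_trans ?_ le_sup_left)
    · rw [fittingSubgroup_of_subnormal hBsn]
      exact inf_le_inf_left _ inf_le_right
    · rw [Cfsg.layer, (gc_map_comap S.subtype).l_sSup]
      refine iSup₂_le fun K hK => ?_
      exact Components.IsComponent.le_layer_map_subtype ((Components.isComponent_map_subtype hsn K).mp hK)
        ((map_subtype_le K).trans inf_le_right)
  · rw [Cfsg.generalizedFittingSubgroup, Subgroup.map_sup]
    exact sup_le_sup (Components.layer_map_subtype_le hBsn) (fittingSubgroup_map_subtype_le hBsn)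

end CfsgLib.Signalizer
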