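/-
Thompson's dihedral lemma: an elementary abelian 2-group acting faithfully on a solvable group of
odd order is generated by involutions inverting commuting elements, one for each.
-/
import Cfsg.Agent.Solvable.Fitting
import Cfsg.Agent.Small.Dihedral
import Cfsg.Prelude.Def_Transfer
import Mathlib.GroupTheory.Nilpotent
import Mathlib.Data.Fin.Tuple.Basic
import Mathlib.Tactic.Group

set_option autoImplicit false

open Subgroup
open scoped commutatorElement

namespace CfsgLib.Signalizer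

variable {G : Type*} [Group G]

theorem mul_self_of_mem_elab {A : Subgroup G} (hA : Cfsg.IsElementaryAbelian 2 A) {a : G}
    (ha : a ∈ A) : a * a = 1 := by
  rw [← pow_two]; exact hA.2 a ha

theorem inv_eq_of_mem_elab {A : Subgroup G} (hA : Cfsg.IsElementaryAbelian 2 A) {a : G}
    (ha : a ∈ A) : a⁻¹ = a :=
  inv_eq_of_mul_eq_one_right (mul_self_of_mem_elab hA ha)

theorem comm_of_mem_elab {A : Subgroup G} (hA : Cfsg.IsElementaryAbelian 2 A) {a b : G}
    (ha : a ∈ A) (hb : b ∈ A) : a * b = b * a :=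
  congrArg Subtype.val (hA.1.is_comm.comm (⟨a, ha⟩ : A) ⟨b, hb⟩)

theorem conj_mem_of_le_normalizer {A M : Subgroup G} (h : A ≤ normalizer (M : Set G)) {a m : G}
    (ha : a ∈ A) (hm : m ∈ M) : a * m * a⁻¹ ∈ M :=
  (mem_normalizer_iff.1 (h ha) m).1 hm

/-- An element of odd order equal to its inverse is trivial. -/
theorem eq_one_of_eq_inv_of_mem {M : Subgroup G} (hM : Odd (Nat.card M)) {c : G} (hc : c ∈ M)
    (h : c⁻¹ = c) : c = 1 := by
  have h2 : c ^ 2 = 1 := by
    rw [pow_two]; calc c * c = c⁻¹ * c := by rw [h]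
      _ = 1 := inv_mul_cancel c
  have hd : orderOf c ∣ Nat.card M := by
    rw [← Subgroup.orderOf_mk c hc]; exact orderOf_dvd_natCard _
  have : orderOf c = 1 := Nat.eq_one_of_dvd_coprimes (Nat.coprime_two_left.2 hM)
    (orderOf_dvd_of_pow_eq_one h2) hd
  exact orderOf_eq_one_iff.1 this

/-- An elementary abelian 2-group acting on an abelian group inverts or fixes some element that
a given member inverts. -/
theorem exists_eigen {A M : Subgroup G} (hA : Cfsg.IsElementaryAbelian 2 A)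
    (hAM : A ≤ normalizer (M : Set G)) (hMc : ∀ x ∈ M, ∀ y ∈ M, x * y = y * x) [Finite G]
    {b x₀ : G} (hb : b ∈ A) (hx₀ : x₀ ∈ M) (hx1 : x₀ ≠ 1) (hbx : b * x₀ * b⁻¹ = x₀⁻¹) :
    ∃ x ∈ M, x ≠ 1 ∧ b * x * b⁻¹ = x⁻¹ ∧ ∀ a ∈ A, a * x * a⁻¹ = x ∨ a * x * a⁻¹ = x⁻¹ := by
  let E : G → Set G := fun x => {a | a ∈ A ∧ (a * x * a⁻¹ = x ∨ a * x * a⁻¹ = x⁻¹)}
  obtain ⟨x, ⟨hxM, hxne, hxb⟩, hmax⟩ :=
    Set.exists_max_image {x | x ∈ M ∧ x ≠ 1 ∧ b * x * b⁻¹ = x⁻¹} (fun x => (E x).ncard)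
      (Set.toFinite _) ⟨x₀, hx₀, hx1, hbx⟩
  refine ⟨x, hxM, hxne, hxb, fun a ha => ?_⟩
  by_contra hno
  set z := a * x * a⁻¹ with hz
  have hzM : z ∈ M := conj_mem_of_le_normalizer hAM ha hxM
  set y := x⁻¹ * z with hy
  have hyM : y ∈ M := mul_mem (inv_mem hxM) hzM
  have hyne : y ≠ 1 := fun h => hno (Or.inl (inv_mul_eq_one.1 h).symm)
  have haz : a * z * a⁻¹ = x := by
    rw [hz]
    calc a * (a * x * a⁻¹) * a⁻¹ = (a * a) * x * (a * a)⁻¹ := by group
      _ = x := by rw [mul_self_of_mem_elab hA ha]; simp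
  have hay : a * y * a⁻¹ = y⁻¹ := by
    rw [hy]
    calc a * (x⁻¹ * z) * a⁻¹ = (a * x * a⁻¹)⁻¹ * (a * z * a⁻¹) := by group
      _ = z⁻¹ * x := by rw [← hz, haz]
      _ = (x⁻¹ * z)⁻¹ := by group
  have hsub : ∀ c ∈ A, ∀ w, (w = x ∨ w = x⁻¹) → c * x * c⁻¹ = w →
      c * y * c⁻¹ = w⁻¹ * (a * w * a⁻¹) := by
    intro c hc w _ hw
    have hca := comm_of_mem_elab hA hc ha
    rw [hy, hz, ← hw]
    calc c * (x⁻¹ * (a * x * a⁻¹)) * c⁻¹
        = (c * x * c⁻¹)⁻¹ * ((c * a) * x * (c * a)⁻¹) := by group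
      _ = (c * x * c⁻¹)⁻¹ * ((a * c) * x * (a * c)⁻¹) := by rw [hca]
      _ = _ := by group
  have hinv : x * (a * x⁻¹ * a⁻¹) = y⁻¹ := by
    have e : a * x⁻¹ * a⁻¹ = z⁻¹ := by rw [hz]; group
    have e2 : y⁻¹ = z⁻¹ * x := by rw [hy]; group
    rw [e, e2]
    exact hMc _ hxM _ (inv_mem hzM)
  have hyb : b * y * b⁻¹ = y⁻¹ := by
    rw [hsub b hb x⁻¹ (Or.inr rfl) hxb, inv_inv, hinv]
  have hlt : E x ⊂ E y := by
    refine Set.ssubset_iff_of_subset (fun c hc => ?_) |>.2 ⟨a, ⟨ha, Or.inr hay⟩, fun h => hno h.2⟩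
    obtain ⟨hc1, hc2 | hc2⟩ := hc
    · exact ⟨hc1, Or.inl (hsub c hc1 x (Or.inl rfl) hc2)⟩
    · exact ⟨hc1, Or.inr (by rw [hsub c hc1 x⁻¹ (Or.inr rfl) hc2, inv_inv, hinv])⟩
  exact absurd (hmax y ⟨hyM, hyne, hyb⟩) (not_le.2 (Set.ncard_lt_ncard hlt (Set.toFinite _)))

/-- The inductive form of the dihedral decomposition for an action on an abelian group. -/
theorem exists_dual_pairs [Finite G] {A M : Subgroup G} (hA : Cfsg.IsElementaryAbelian 2 A)
    (hAM : A ≤ normalizer (M : Set G)) (hMc : ∀ x ∈ M, ∀ y ∈ M, x * y = y * x)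
    (hfaith : A ⊓ centralizer (M : Set G) = ⊥) (hModd : Odd (Nat.card M)) :
    ∀ m : ℕ, ∀ B : Subgroup G, B ≤ A → Nat.card B = m →
    ∃ (k : ℕ) (b y : Fin k → G), m = 2 ^ k ∧ Subgroup.closure (Set.range b) = B ∧
      (∀ i, b i ∈ B ∧ y i ∈ M ∧ y i ≠ 1 ∧ b i * y i * (b i)⁻¹ = (y i)⁻¹ ∧
        ∀ a ∈ A, a * y i * a⁻¹ = y i ∨ a * y i * a⁻¹ = (y i)⁻¹) ∧
      ∀ i j, i ≠ j → b i * y j * (b i)⁻¹ = y j := by
  intro m
  induction m using Nat.strong_induction_on with
  | _ m ih =>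
  intro B hBA hcard
  rcases B.bot_or_exists_ne_one with rfl | ⟨b, hb, hb1⟩
  · refine ⟨0, Fin.elim0, Fin.elim0, ?_, ?_, fun i => i.elim0, fun i => i.elim0⟩
    · rw [← hcard, card_bot, pow_zero]
    · rw [Set.range_eq_empty, Subgroup.closure_empty]
  have hbA := hBA hb
  have hbinv := inv_eq_of_mem_elab hA hbA
  -- an element of `M` inverted by `b`
  obtain ⟨x₀, hx₀, hx₁, hx₂⟩ : ∃ x ∈ M, x ≠ 1 ∧ b * x * b⁻¹ = x⁻¹ := by
    have : b ∉ centralizer (M : Set G) := fun h => hb1 (mem_bot.1 (hfaith ▸ ⟨hbA, h⟩))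
    simp only [mem_centralizer_iff, SetLike.mem_coe, not_forall, exists_prop] at this
    obtain ⟨w, hw, hne⟩ := this
    refine ⟨w⁻¹ * (b * w * b⁻¹), mul_mem (inv_mem hw) (conj_mem_of_le_normalizer hAM hbA hw), ?_, ?_⟩
    · intro h
      exact hne (mul_inv_eq_iff_eq_mul.1 (inv_mul_eq_one.1 h).symm).symm
    · calc b * (w⁻¹ * (b * w * b⁻¹)) * b⁻¹ = (b * w * b⁻¹)⁻¹ * ((b * b) * w * (b * b)⁻¹) := by group
        _ = (b * w * b⁻¹)⁻¹ * w := by rw [mul_self_of_mem_elab hA hbA]; simp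
        _ = (w⁻¹ * (b * w * b⁻¹))⁻¹ := by group
  obtain ⟨x, hxM, hxne, hxb, hxA⟩ := exists_eigen hA hAM hMc hbA hx₀ hx₁ hx₂
  have hx2 : x⁻¹ ≠ x := fun h => hxne (eq_one_of_eq_inv_of_mem hModd hxM h)
  -- the stabiliser of `x` in `B`
  let B₀ : Subgroup G := B ⊓ centralizer {x}
  have hmem : ∀ {a : G}, a ∈ centralizer {x} ↔ a * x * a⁻¹ = x := fun {a} => by
    rw [mem_centralizer_singleton_iff, mul_inv_eq_iff_eq_mul]
  have hbB₀ : b ∉ B₀ := fun h => hx2 (hxb.symm.trans (hmem.1 h.2))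
  have hsplit : ∀ a ∈ B, a ∈ B₀ ∨ b * a ∈ B₀ := by
    intro a ha
    rcases hxA a (hBA ha) with h | h
    · exact Or.inl ⟨ha, hmem.2 h⟩
    · refine Or.inr ⟨mul_mem hb ha, hmem.2 ?_⟩
      calc b * a * x * (b * a)⁻¹ = b * (a * x * a⁻¹) * b⁻¹ := by group
        _ = (b * x * b⁻¹)⁻¹ := by rw [h]; group
        _ = x := by rw [hxb, inv_inv]
  have hcard₀ : m = 2 * Nat.card B₀ := by
    have hle : B₀ ≤ B := inf_le_left
    have hidx : B₀.relIndex B = 2 := by
      refine index_eq_two_iff'.2 ⟨⟨b, hb⟩, fun a => ?_⟩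
      simp only [mem_subgroupOf, Subgroup.coe_mul]
      rcases hsplit a a.2 with h | h
      · refine Or.inr ⟨h, fun h' => hbB₀ ?_⟩
        simpa using mul_mem h' (inv_mem h)
      · refine Or.inl ⟨h, fun h' => hbB₀ ?_⟩
        simpa using mul_mem h (inv_mem h')
    rw [← hcard, ← relIndex_mul_relIndex (⊥ : Subgroup G) B₀ B bot_le hle |>.trans
      (relIndex_bot_left B), relIndex_bot_left, hidx, mul_comm]
  have hlt : Nat.card B₀ < m := by
    have : 0 < Nat.card B₀ := Nat.card_pos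
    omega
  obtain ⟨k, bs, ys, hk, hgen, hpair, hoff⟩ := ih _ hlt B₀ (inf_le_left.trans hBA) rfl
  -- move `b` inside its coset so that it fixes the earlier elements
  have hadj : ∀ S : Finset (Fin k), ∃ b' ∈ B, b' * x * b'⁻¹ = x⁻¹ ∧
      ∀ j ∈ S, b' * ys j * b'⁻¹ = ys j := by
    intro S
    induction S using Finset.induction_on with
    | empty => exact ⟨b, hb, hxb, fun j hj => absurd hj (Finset.notMem_empty j)⟩
    | insert j S hjS ihS =>
      obtain ⟨b', hb', hb'x, hb'y⟩ := ihS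
      rcases (hpair j).2.2.2.2 b' (hBA hb') with h | h
      · refine ⟨b', hb', hb'x, fun i hi => ?_⟩
        rcases Finset.mem_insert.1 hi with rfl | hi
        exacts [h, hb'y i hi]
      · refine ⟨b' * bs j, mul_mem hb' (hpair j).1.1, ?_, fun i hi => ?_⟩
        · calc b' * bs j * x * (b' * bs j)⁻¹ = b' * (bs j * x * (bs j)⁻¹) * b'⁻¹ := by group
            _ = b' * x * b'⁻¹ := by rw [hmem.1 (hpair j).1.2]
            _ = x⁻¹ := hb'x
        · rcases Finset.mem_insert.1 hi with rfl | hi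
          · calc b' * bs i * ys i * (b' * bs i)⁻¹ = b' * (bs i * ys i * (bs i)⁻¹) * b'⁻¹ := by group
              _ = (b' * ys i * b'⁻¹)⁻¹ := by rw [(hpair i).2.2.2.1]; group
              _ = ys i := by rw [h, inv_inv]
          · have hne : j ≠ i := fun e => hjS (e ▸ hi)
            calc b' * bs j * ys i * (b' * bs j)⁻¹ = b' * (bs j * ys i * (bs j)⁻¹) * b'⁻¹ := by group
              _ = b' * ys i * b'⁻¹ := by rw [hoff j i hne]
              _ = ys i := hb'y i hi
  obtain ⟨b', hb', hb'x, hb'y⟩ := hadj Finset.univ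
  refine ⟨k + 1, Fin.cons b' bs, Fin.cons x ys, ?_, ?_, ?_, ?_⟩
  · rw [hcard₀, hk, pow_succ, mul_comm]
  · rw [Fin.range_cons]
    refine le_antisymm ((closure_le B).2 (Set.insert_subset hb' ?_)) ?_
    · rintro _ ⟨i, rfl⟩
      exact (hpair i).1.1
    · have hB₀ : B₀ ≤ Subgroup.closure (insert b' (Set.range bs)) :=
        hgen ▸ closure_mono (Set.subset_insert _ _)
      have hb'c : b' ∈ Subgroup.closure (insert b' (Set.range bs)) :=
        subset_closure (Set.mem_insert _ _)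
      intro a ha
      rcases hxA a (hBA ha) with h | h
      · exact hB₀ ⟨ha, hmem.2 h⟩
      · have h' : b' * a ∈ B₀ := by
          refine ⟨mul_mem hb' ha, hmem.2 ?_⟩
          calc b' * a * x * (b' * a)⁻¹ = b' * (a * x * a⁻¹) * b'⁻¹ := by group
            _ = (b' * x * b'⁻¹)⁻¹ := by rw [h]; group
            _ = x := by rw [hb'x, inv_inv]
        have := mul_mem (inv_mem hb'c) (hB₀ h')
        simpa using this
  · intro i
    refine Fin.cases ?_ (fun i => ?_) i
    · simp only [Fin.cons_zero]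
      exact ⟨hb', hxM, hxne, hb'x, hxA⟩
    · simp only [Fin.cons_succ]
      exact ⟨(hpair i).1.1, (hpair i).2⟩
  · intro i j
    refine Fin.cases ?_ (fun i => ?_) i <;> refine Fin.cases ?_ (fun j => ?_) j <;>
      simp only [Fin.cons_zero, Fin.cons_succ] <;> intro hij
    · exact absurd rfl hij
    · exact hb'y j (Finset.mem_univ _)
    · exact hmem.1 (hpair i).1.2
    · exact hoff i j fun e => hij (e ▸ rfl)

/-- In a nilpotent group, a normal subgroup not contained in a normal subgroup `M` has an element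
outside `M` which is central modulo `M`. -/
theorem exists_central_mod {F : Type*} [Group F] [Group.IsNilpotent F] {C M : Subgroup F}
    [hCn : C.Normal] (h : ¬ C ≤ M) : ∃ c ∈ C, c ∉ M ∧ ∀ f : F, ⁅c, f⁆ ∈ M := by
  classical
  obtain ⟨n, hn⟩ := ‹Group.IsNilpotent F›.nilpotent'
  have hex : ∃ i, ¬ C ⊓ Subgroup.upperCentralSeries F i ≤ M := ⟨n, by rwa [hn, inf_top_eq]⟩
  obtain ⟨i, hi⟩ : ∃ i, Nat.find hex = i + 1 := by
    rcases Nat.eq_zero_or_eq_succ_pred (Nat.find hex) with h0 | h0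
    · exfalso
      apply Nat.find_spec hex
      rw [h0, Subgroup.upperCentralSeries_zero, inf_bot_eq]
      exact bot_le
    · exact ⟨_, h0⟩
  have hspec := Nat.find_spec hex
  rw [hi] at hspec
  obtain ⟨c, ⟨hcC, hcZ⟩, hcM⟩ := SetLike.not_le_iff_exists.1 hspec
  refine ⟨c, hcC, hcM, fun f => ?_⟩
  have hmin : C ⊓ Subgroup.upperCentralSeries F i ≤ M :=
    not_not.1 (Nat.find_min hex (by omega : i < Nat.find hex))
  refine hmin ⟨?_, ?_⟩
  · rw [commutatorElement_def, mul_assoc, mul_assoc]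
    exact mul_mem hcC (by simpa [mul_assoc] using hCn.conj_mem _ (inv_mem hcC) f)
  · simpa [commutatorElement_def] using (Subgroup.mem_upperCentralSeries_succ_iff.1 hcZ) f

/-- If an involution-like element `a` moves `f` by an element `c` that it fixes and `c` lies in an
odd order subgroup, then `a` fixes `f`. -/
theorem commute_of_fixed_commutator {M : Subgroup G} (hM : Odd (Nat.card M)) {a f : G}
    (ha : a * a = 1) (hc : f * a * f⁻¹ * a⁻¹ ∈ M)
    (hfix : a * (f * a * f⁻¹ * a⁻¹) * a⁻¹ = f * a * f⁻¹ * a⁻¹) : f * a = a * f := by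
  have hinv : a⁻¹ = a := inv_eq_of_mul_eq_one_right ha
  have h1 : (f * a * f⁻¹ * a⁻¹)⁻¹ = a * (f * a * f⁻¹ * a⁻¹) * a⁻¹ := by
    calc (f * a * f⁻¹ * a⁻¹)⁻¹ = a * f * a⁻¹ * f⁻¹ := by group
      _ = a * f * a * f⁻¹ * (a * a)⁻¹ := by rw [ha, hinv]; simp
      _ = a * (f * a * f⁻¹ * a⁻¹) * a⁻¹ := by group
  have h2 := eq_one_of_eq_inv_of_mem hM hc (h1.trans hfix)
  rwa [mul_inv_eq_one, mul_inv_eq_iff_eq_mul] at h2

/-- A faithful action of an elementary abelian 2-group on a solvable group of odd order is faithful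
on some abelian invariant subgroup. -/
theorem exists_abelian_faithful [Finite G] {A L : Subgroup G} (hA : Cfsg.IsElementaryAbelian 2 A)
    (hLs : Group.IsSolvable L) (hLodd : Odd (Nat.card L)) (hAL : A ≤ normalizer (L : Set G))
    (hfaith : A ⊓ centralizer (L : Set G) = ⊥) :
    ∃ M ≤ L, A ≤ normalizer (M : Set G) ∧ (∀ x ∈ M, ∀ y ∈ M, x * y = y * x) ∧
      A ⊓ centralizer (M : Set G) = ⊥ := by
  haveI := hLs
  let F₀ := Cfsg.fittingSubgroup L
  haveI : Group.IsNilpotent F₀ := CfsgLib.Solvable.fittingSubgroup_isNilpotent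
  haveI hF₀c : F₀.Characteristic := CfsgLib.Solvable.fittingSubgroup_characteristic
  set F := F₀.map L.subtype with hF
  have hFL : F ≤ L := map_subtype_le _
  have hoddF : Odd (Nat.card F) := hLodd.of_dvd_nat (card_dvd_of_le hFL)
  have hAF : A ≤ normalizer (F : Set G) := by
    have key : ∀ g ∈ normalizer (L : Set G), ∀ f ∈ F, g * f * g⁻¹ ∈ F := by
      rintro g hg _ ⟨f, hf, rfl⟩
      let σ : MulAut L := L.normalizerMonoidHom ⟨g, hg⟩
      refine ⟨σ f, ?_, rfl⟩
      have h1 := Subgroup.characteristic_iff_map_le.1 hF₀c σ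
      exact h1 ⟨f, hf, rfl⟩
    intro g hg
    rw [mem_normalizer_iff]
    refine fun w => ⟨key g (hAL hg) w, fun hw => ?_⟩
    simpa [mul_assoc] using key g⁻¹ (inv_mem (hAL hg)) _ hw
  have hLF : ∀ l ∈ L, ∀ f ∈ F, l * f * l⁻¹ ∈ F := by
    rintro l hl _ ⟨f, hf, rfl⟩
    exact ⟨⟨l, hl⟩ * f * ⟨l, hl⟩⁻¹, (inferInstance : F₀.Normal).conj_mem f hf _, rfl⟩
  have hfaithF : A ⊓ centralizer (F : Set G) = ⊥ := by
    rw [eq_bot_iff]
    rintro a ⟨ha, haF⟩
    rw [← hfaith]
    refine ⟨ha, mem_centralizer_iff.2 fun l hl => ?_⟩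
    have hcL : l * a * l⁻¹ * a⁻¹ ∈ L := by
      have := mul_mem hl (conj_mem_of_le_normalizer hAL ha (inv_mem hl))
      simpa [mul_assoc] using this
    have hcF : l * a * l⁻¹ * a⁻¹ ∈ F := by
      refine ⟨⟨_, hcL⟩, CfsgLib.Solvable.centralizer_fittingSubgroup_le
        (mem_centralizer_iff.2 fun f hf => ?_), rfl⟩
      apply Subtype.ext
      have h1 : ∀ w ∈ F, w * a = a * w := mem_centralizer_iff.1 haF
      have hfF : (f : G) ∈ F := ⟨f, hf, rfl⟩
      have h3 := h1 _ (hLF _ (inv_mem hl) _ hfF)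
      rw [inv_inv] at h3
      have h4 := h1 _ hfF
      simp only [Subgroup.coe_mul]
      calc (f : G) * (l * a * l⁻¹ * a⁻¹) = l * ((l⁻¹ * f * l) * a) * l⁻¹ * a⁻¹ := by group
        _ = l * a * l⁻¹ * ((f : G) * a⁻¹) := by rw [h3]; group
        _ = l * a * l⁻¹ * (a⁻¹ * f) := by rw [(Commute.inv_right h4 : Commute (f : G) a⁻¹).eq]
        _ = _ := by group
    exact commute_of_fixed_commutator hLodd (mul_self_of_mem_elab hA ha) hcL
      (by rw [← mem_centralizer_iff.1 haF _ hcF, mul_inv_cancel_right])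
  -- a maximal abelian invariant normal subgroup of `F`
  obtain ⟨M, -, hM⟩ := (Set.toFinite {M : Subgroup G | M ≤ F ∧ A ⊔ F ≤ normalizer (M : Set G) ∧
    ∀ x ∈ M, ∀ y ∈ M, x * y = y * x}).exists_le_maximal (a := (⊥ : Subgroup G))
    ⟨bot_le, by rw [normalizer_eq_top]; exact le_top, by simp⟩
  obtain ⟨hMF, hMn, hMab⟩ := hM.1
  have hAM : A ≤ normalizer (M : Set G) := le_sup_left.trans hMn
  have hFM : F ≤ normalizer (M : Set G) := le_sup_right.trans hMn
  have hself : F ⊓ centralizer (M : Set G) ≤ M := by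
    by_contra hnot
    haveI : Group.IsNilpotent F := Group.nilpotent_of_surjective
      (F₀.equivMapOfInjective L.subtype L.subtype_injective).toMonoidHom (MulEquiv.surjective _)
    set C := F ⊓ centralizer (M : Set G) with hC
    have hCn : ∀ g ∈ normalizer (F : Set G), g ∈ normalizer (M : Set G) → ∀ c ∈ C, g * c * g⁻¹ ∈ C := by
      intro g hgF hgM c hc
      refine ⟨(mem_normalizer_iff.1 hgF c).1 hc.1, mem_centralizer_iff.2 fun w hw => ?_⟩
      have hw' : g⁻¹ * w * g ∈ M := by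
        simpa using (mem_normalizer_iff.1 (inv_mem hgM) w).1 hw
      have := mem_centralizer_iff.1 hc.2 _ hw'
      calc w * (g * c * g⁻¹) = g * ((g⁻¹ * w * g) * c) * g⁻¹ := by group
        _ = g * c * g⁻¹ * w := by rw [this]; group
    haveI : (C.subgroupOf F).Normal :=
      ⟨fun c hc g => hCn g (le_normalizer g.2) (hFM g.2) c hc⟩
    obtain ⟨c₀, hc₀C, hc₀M, hc₀⟩ := exists_central_mod (C := C.subgroupOf F) (M := M.subgroupOf F)
      (fun h => hnot fun w hw => h (show (⟨w, hw.1⟩ : F) ∈ C.subgroupOf F from hw))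
    -- elements of `C` central modulo `M`
    let P : G → Prop := fun c => c ∈ C ∧ ∀ f ∈ F, ⁅c, f⁆ ∈ M
    have hPconj : ∀ a ∈ A, ∀ c, P c → P (a * c * a⁻¹) := by
      rintro a ha c ⟨hc, hcc⟩
      refine ⟨hCn a (hAF ha) (hAM ha) c hc, fun f hf => ?_⟩
      have hf' : a⁻¹ * f * a ∈ F := by
        simpa using conj_mem_of_le_normalizer hAF (inv_mem ha) hf
      have e : ⁅a * c * a⁻¹, f⁆ = a * ⁅c, a⁻¹ * f * a⁆ * a⁻¹ := by
        simp only [commutatorElement_def]; group
      rw [e]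
      exact conj_mem_of_le_normalizer hAM ha (hcc _ hf')
    -- congruence modulo `M` on `F`
    have hcong : ∀ u v, u ∈ F → v ∈ F → (u * v⁻¹ ∈ M ↔ v⁻¹ * u ∈ M) := by
      intro u v _ hv
      constructor
      · intro h
        have := (mem_normalizer_iff.1 (inv_mem (hFM hv)) _).1 h
        simpa [mul_assoc] using this
      · intro h
        have := (mem_normalizer_iff.1 (hFM hv) _).1 h
        simpa [mul_assoc] using this
    have hcl : ∀ l : List G, (∀ a ∈ l, a ∈ A) → ∃ c, P c ∧ c ∉ M ∧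
        ∀ a ∈ l, a * c * a⁻¹ * c⁻¹ ∈ M ∨ a * c * a⁻¹ * c ∈ M := by
      intro l
      induction l with
      | nil =>
        exact fun _ => ⟨c₀, ⟨hc₀C, fun f hf => hc₀ ⟨f, hf⟩⟩, hc₀M, by simp⟩
      | cons a l ihl =>
        intro hl
        obtain ⟨c, hcP, hcM, hcl⟩ := ihl fun x hx => hl x (List.mem_cons_of_mem _ hx)
        have ha : a ∈ A := hl a List.mem_cons_self
        by_cases hfix : a * c * a⁻¹ * c⁻¹ ∈ M
        · refine ⟨c, hcP, hcM, fun x hx => ?_⟩
          rcases List.mem_cons.1 hx with rfl | hx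
          exacts [Or.inl hfix, hcl x hx]
        set z := a * c * a⁻¹ with hz
        have hzP : P z := hPconj a ha c hcP
        have hcF : c ∈ F := hcP.1.1
        have hzF : z ∈ F := hzP.1.1
        have hyP : P (z * c⁻¹) := by
          refine ⟨mul_mem hzP.1 (inv_mem hcP.1), fun f hf => ?_⟩
          have e : ⁅z * c⁻¹, f⁆ = z * (c⁻¹ * ⁅c, f⁆⁻¹ * c) * z⁻¹ * ⁅z, f⁆ := by
            simp only [commutatorElement_def]; group
          rw [e]
          have h1 : c⁻¹ * ⁅c, f⁆⁻¹ * c ∈ M := by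
            simpa using (mem_normalizer_iff.1 (inv_mem (hFM hcF)) _).1 (inv_mem (hcP.2 f hf))
          exact mul_mem ((mem_normalizer_iff.1 (hFM hzF) _).1 h1) (hzP.2 f hf)
        have haz : a * z * a⁻¹ = c := by
          rw [hz]
          calc a * (a * c * a⁻¹) * a⁻¹ = (a * a) * c * (a * a)⁻¹ := by group
            _ = c := by rw [mul_self_of_mem_elab hA ha]; simp
        refine ⟨z * c⁻¹, hyP, hfix, fun x hx => ?_⟩
        rcases List.mem_cons.1 hx with rfl | hx
        · refine Or.inr ?_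
          have e : x * (z * c⁻¹) * x⁻¹ * (z * c⁻¹) = 1 := by
            calc x * (z * c⁻¹) * x⁻¹ * (z * c⁻¹)
                = (x * z * x⁻¹) * (x * c * x⁻¹)⁻¹ * (z * c⁻¹) := by group
              _ = 1 := by rw [← hz, haz]; group
          rw [e]; exact one_mem M
        · have hxA : x ∈ A := hl x (List.mem_cons_of_mem _ hx)
          have hxz : x * z * x⁻¹ = a * (x * c * x⁻¹) * a⁻¹ := by
            rw [hz]
            calc x * (a * c * a⁻¹) * x⁻¹ = (x * a) * c * (x * a)⁻¹ := by group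
              _ = (a * x) * c * (a * x)⁻¹ := by rw [comm_of_mem_elab hA hxA ha]
              _ = _ := by group
          have hsplit : x * (z * c⁻¹) * x⁻¹ = a * (x * c * x⁻¹) * a⁻¹ * (x * c * x⁻¹)⁻¹ := by
            rw [← hxz]; group
          rcases hcl x hx with h | h
          · -- `x` fixes `c` modulo `M`
            refine Or.inl ?_
            set m := x * c * x⁻¹ * c⁻¹ with hm
            have e : x * c * x⁻¹ = m * c := by rw [hm]; group
            rw [hsplit, e]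
            have e2 : a * (m * c) * a⁻¹ * (m * c)⁻¹ * (z * c⁻¹)⁻¹ =
                (a * m * a⁻¹) * ((z * c⁻¹) * m⁻¹ * (z * c⁻¹)⁻¹) := by rw [hz]; group
            rw [e2]
            exact mul_mem (conj_mem_of_le_normalizer hAM ha h)
              ((mem_normalizer_iff.1 (hFM hyP.1.1) _).1 (inv_mem h))
          · -- `x` inverts `c` modulo `M`
            refine Or.inr ?_
            set m := x * c * x⁻¹ * c with hm
            have e : x * c * x⁻¹ = m * c⁻¹ := by rw [hm]; group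
            rw [hsplit, e]
            have e2 : a * (m * c⁻¹) * a⁻¹ * (m * c⁻¹)⁻¹ * (z * c⁻¹) =
                (a * m * a⁻¹) * (z⁻¹ * (c * m⁻¹ * c⁻¹) * z) * ⁅z⁻¹, c⁆ := by
              rw [hz]; simp only [commutatorElement_def]; group
            rw [e2]
            refine mul_mem (mul_mem (conj_mem_of_le_normalizer hAM ha h) ?_) ?_
            · simpa using (mem_normalizer_iff.1 (inv_mem (hFM hzF)) _).1
                ((mem_normalizer_iff.1 (hFM hcF) _).1 (inv_mem h))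
            · have e3 : ⁅z⁻¹, c⁆ = z⁻¹ * ⁅z, c⁆⁻¹ * z := by
                simp only [commutatorElement_def]; group
              rw [e3]
              simpa using (mem_normalizer_iff.1 (inv_mem (hFM hzF)) _).1 (inv_mem (hzP.2 c hcF))
    set l := (Set.toFinite (A : Set G)).toFinset.toList with hldef
    have hl : ∀ a, a ∈ l ↔ a ∈ A := fun a => by
      rw [hldef, Finset.mem_toList, Set.Finite.mem_toFinset, SetLike.mem_coe]
    obtain ⟨c, hcP, hcM, hcA⟩ := hcl l fun a ha => (hl a).1 ha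
    -- adjoining `c` contradicts maximality
    set M' := Subgroup.closure (insert c (M : Set G)) with hM'
    have hMle : M ≤ M' := fun w hw => subset_closure (Set.mem_insert_of_mem _ hw)
    have hcM' : c ∈ M' := subset_closure (Set.mem_insert _ _)
    refine hcM ((hM.2 ⟨?_, ?_, ?_⟩ hMle) hcM')
    · exact (closure_le F).2 (Set.insert_subset hcP.1.1 hMF)
    · have hgen : ∀ g, g ∈ normalizer (M : Set G) → g * c * g⁻¹ ∈ M' →
          ∀ w ∈ M', g * w * g⁻¹ ∈ M' := by
        intro g hg hgc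
        have hsub : M' ≤ M'.comap (MulAut.conj g).toMonoidHom := by
          refine (closure_le _).2 (Set.insert_subset hgc fun w hw => ?_)
          exact hMle ((mem_normalizer_iff.1 hg w).1 hw)
        exact fun w hw => hsub hw
      have hbase : ∀ g ∈ (A : Set G) ∪ (F : Set G), g ∈ normalizer (M : Set G) ∧
          g⁻¹ ∈ normalizer (M : Set G) ∧ g * c * g⁻¹ ∈ M' := by
        rintro g (hg | hg)
        · refine ⟨hAM hg, inv_mem (hAM hg), ?_⟩
          rcases hcA g ((hl g).2 hg) with h | h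
          · simpa using mul_mem (hMle h) hcM'
          · simpa using mul_mem (hMle h) (inv_mem hcM')
        · refine ⟨hFM hg, inv_mem (hFM hg), ?_⟩
          have := mul_mem (hMle (inv_mem (hcP.2 g hg))) hcM'
          simpa [commutatorElement_def, mul_assoc] using this
      rw [Subgroup.sup_eq_closure, closure_le]
      intro g hg
      have hg' : g⁻¹ ∈ (A : Set G) ∪ (F : Set G) := hg.imp (inv_mem ·) (inv_mem ·)
      rw [SetLike.mem_coe, mem_normalizer_iff]
      intro w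
      refine ⟨hgen g (hbase g hg).1 (hbase g hg).2.2 w, fun hw => ?_⟩
      have := hgen g⁻¹ (hbase g hg).2.1 (hbase g⁻¹ hg').2.2 _ hw
      simpa [mul_assoc] using this
    · have hcc : ∀ w ∈ M, w * c = c * w := mem_centralizer_iff.1 hcP.1.2
      have : IsMulCommutative M' := by
        refine Subgroup.isMulCommutative_closure ?_
        rintro x (rfl | hx) y (rfl | hy)
        · rfl
        · exact (hcc y hy).symm
        · exact hcc x hx
        · exact hMab x hx y hy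
      exact fun x hx y hy => congrArg Subtype.val (this.is_comm.comm (⟨x, hx⟩ : M') ⟨y, hy⟩)
  refine ⟨M, hMF.trans hFL, hAM, hMab, ?_⟩
  rw [eq_bot_iff]
  rintro a ⟨ha, haM⟩
  rw [← hfaithF]
  refine ⟨ha, mem_centralizer_iff.2 fun f hf => ?_⟩
  have hcF : f * a * f⁻¹ * a⁻¹ ∈ F := by
    have := mul_mem hf (conj_mem_of_le_normalizer hAF ha (inv_mem hf))
    simpa [mul_assoc] using this
  have hcM : f * a * f⁻¹ * a⁻¹ ∈ M := by
    refine hself ⟨hcF, mem_centralizer_iff.2 fun w hw => ?_⟩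
    have h1 : ∀ u ∈ M, u * a = a * u := mem_centralizer_iff.1 haM
    have hw' : f⁻¹ * w * f ∈ M := by
      simpa using (mem_normalizer_iff.1 (inv_mem (hFM hf)) w).1 hw
    calc w * (f * a * f⁻¹ * a⁻¹) = f * ((f⁻¹ * w * f) * a) * f⁻¹ * a⁻¹ := by group
      _ = f * a * f⁻¹ * (w * a⁻¹) := by rw [h1 _ hw']; group
      _ = f * a * f⁻¹ * (a⁻¹ * w) := by rw [(Commute.inv_right (h1 w hw) : Commute w a⁻¹).eq]
      _ = _ := by group
  exact commute_of_fixed_commutator hoddF (mul_self_of_mem_elab hA ha) hcF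
    (by rw [← mem_centralizer_iff.1 haM _ hcM, mul_inv_cancel_right])

/-- **Thompson's dihedral lemma**: `A` is generated by involutions `aᵢ`, each inverting a nontrivial
element `xᵢ` of `L`, such that `⟨aᵢ, xᵢ⟩` and `⟨aⱼ, xⱼ⟩` commute for `i ≠ j`. -/
theorem exists_dihedral_decomposition [Finite G] {A L : Subgroup G}
    (hA : Cfsg.IsElementaryAbelian 2 A) (hLs : Group.IsSolvable L) (hLodd : Odd (Nat.card L))
    (hAL : A ≤ normalizer (L : Set G)) (hfaith : A ⊓ centralizer (L : Set G) = ⊥) :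
    ∃ (k : ℕ) (a x : Fin k → G), Nat.card A = 2 ^ k ∧ Subgroup.closure (Set.range a) = A ∧
      (∀ i, a i ∈ A ∧ orderOf (a i) = 2 ∧ x i ∈ L ∧ x i ≠ 1 ∧ a i * x i * (a i)⁻¹ = (x i)⁻¹) ∧
      ∀ i j, i ≠ j → Commute (a i) (a j) ∧ Commute (a i) (x j) ∧ Commute (x i) (x j) := by
  obtain ⟨M, hML, hAM, hMc, hMf⟩ := exists_abelian_faithful hA hLs hLodd hAL hfaith
  have hModd : Odd (Nat.card M) := hLodd.of_dvd_nat (card_dvd_of_le hML)
  obtain ⟨k, a, x, hk, hgen, hpair, hoff⟩ :=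
    exists_dual_pairs hA hAM hMc hMf hModd _ A le_rfl rfl
  refine ⟨k, a, x, hk, hgen, fun i => ⟨(hpair i).1, ?_, hML (hpair i).2.1, (hpair i).2.2.1,
    (hpair i).2.2.2.1⟩, fun i j hij => ⟨comm_of_mem_elab hA (hpair i).1 (hpair j).1, ?_,
      hMc _ (hpair i).2.1 _ (hpair j).2.1⟩⟩
  · refine orderOf_eq_prime (hA.2 _ (hpair i).1) fun h => ?_
    have h2 := (hpair i).2.2.2.1
    rw [h] at h2
    exact (hpair i).2.2.1 (eq_one_of_eq_inv_of_mem hModd (hpair i).2.1 (by simpa using h2.symm))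
  · exact mul_inv_eq_iff_eq_mul.1 (hoff i j hij)

end CfsgLib.Signalizer
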