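/-
The action of the core of `C_H(t)` on the components of a core-free group `H`, for an involution `t`
normalizing `H`.
-/
import Cfsg.Agent.Components.FStar
import Cfsg.Agent.Components.PComponents
import Cfsg.Agent.Coprime.PTimesQ
import Cfsg.Agent.Solvable.Fitting
import Cfsg.Agent.Signalizer.DihedralLemma
import Cfsg.Agent.S1314
import Cfsg.Agent.PLocal.Cores
import Cfsg.Prelude.Def_Local

set_option autoImplicit false

open Subgroup
open scoped commutatorElement Pointwise

namespace CfsgLib.Signalizer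

variable {G : Type*} [Group G]

/-- The core `O(K)` of a subgroup as a subgroup of the ambient group. -/
abbrev coreOf (K : Subgroup G) : Subgroup G := (Cfsg.oddCore ↥K).map K.subtype

theorem coreOf_le (K : Subgroup G) : coreOf K ≤ K := map_subtype_le _

theorem normalizer_le_normalizer_coreOf (K : Subgroup G) :
    normalizer (K : Set G) ≤ normalizer ((coreOf K : Subgroup G) : Set G) :=
  Components.normalizer_le_normalizer_map_subtype K (Cfsg.oddCore ↥K)

theorem le_normalizer_coreOf (K : Subgroup G) : K ≤ normalizer ((coreOf K : Subgroup G) : Set G) :=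
  le_normalizer.trans (normalizer_le_normalizer_coreOf K)

theorem coprime_card_coreOf [Finite G] (K : Subgroup G) : (Nat.card (coreOf K)).Coprime 2 :=
  Nat.Coprime.coprime_dvd_left (card_map_dvd _ _) (PLocal.coprime_card_pPrimeCore 2 _)

theorem le_coreOf [Finite G] {N K : Subgroup G} (hN : N ≤ K) (hn : K ≤ normalizer (N : Set G))
    (hodd : (Nat.card N).Coprime 2) : N ≤ coreOf K := by
  haveI : (N.subgroupOf K).Normal := normal_subgroupOf_of_le_normalizer hn
  have h := map_mono (f := K.subtype) (PLocal.le_pPrimeCore (p := 2) (N := N.subgroupOf K) (by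
    rwa [Nat.card_congr (subgroupOfEquivOfLe hN).toEquiv]))
  rwa [subgroupOf_map_subtype, inf_eq_left.2 hN] at h

theorem coreOf_inf_le [Finite G] {C₀ C : Subgroup G} (h : C₀ ≤ C) :
    coreOf C ⊓ C₀ ≤ coreOf C₀ :=
  le_coreOf inf_le_right
    ((le_inf (h.trans (le_normalizer_coreOf C)) le_normalizer).trans
      inf_normalizer_le_normalizer_inf)
    ((coprime_card_coreOf C).coprime_dvd_left (card_dvd_of_le inf_le_left))

/-- An element of 2-power order in a subgroup of odd order is trivial. -/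
theorem eq_one_of_pow_two_pow {N : Subgroup G} (hN : (Nat.card N).Coprime 2) {w : G} (hw : w ∈ N)
    {k : ℕ} (h : w ^ 2 ^ k = 1) : w = 1 := by
  have hd : orderOf w ∣ Nat.card N := by
    rw [← Subgroup.orderOf_mk w hw]; exact orderOf_dvd_natCard _
  exact orderOf_eq_one_iff.1
    (Nat.eq_one_of_dvd_coprimes (hN.pow_right k) hd (orderOf_dvd_of_pow_eq_one h))

/-- `K` is a component of the subgroup `H`. -/
def IsCompIn (H K : Subgroup G) : Prop := K ≤ H ∧ Cfsg.IsComponent (K.subgroupOf H)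

theorem isCompIn_map {H : Subgroup G} {E : Subgroup ↥H} (hE : Cfsg.IsComponent E) :
    IsCompIn H (E.map H.subtype) :=
  ⟨map_subtype_le E, by rwa [subgroupOf, comap_map_eq_self_of_injective H.subtype_injective]⟩

theorem IsCompIn.quasisimple {H K : Subgroup G} (h : IsCompIn H K) : Cfsg.IsQuasisimple K :=
  Components.isQuasisimple_congr (subgroupOfEquivOfLe h.1) h.2.2

theorem IsCompIn.not_commute {H K : Subgroup G} (h : IsCompIn H K) : ⁅K, K⁆ ≠ ⊥ := fun he =>
  Components.IsQuasisimple.not_isMulCommutative h.quasisimple (commutator_self_eq_bot_iff.mp he)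

theorem IsCompIn.conj {H K : Subgroup G} (h : IsCompIn H K) {g : G}
    (hg : g ∈ normalizer (H : Set G)) : IsCompIn H (K.map (MulAut.conj g).toMonoidHom) := by
  have hle : K.map (MulAut.conj g).toMonoidHom ≤ H := by
    rintro _ ⟨k, hk, rfl⟩
    exact (mem_normalizer_iff.1 hg k).1 (h.1 hk)
  refine ⟨hle, ?_⟩
  let σ : MulAut ↥H := H.normalizerMonoidHom ⟨g, hg⟩
  have hσ := Components.IsComponent.map_equiv h.2 σ
  have heq : (K.subgroupOf H).map σ.toMonoidHom =
      (K.map (MulAut.conj g).toMonoidHom).subgroupOf H := by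
    ext z
    constructor
    · rintro ⟨w, hw, rfl⟩
      exact ⟨(w : G), hw, rfl⟩
    · rintro ⟨k, hk, hkz⟩
      exact ⟨⟨k, h.1 hk⟩, hk, Subtype.ext hkz⟩
  rwa [heq] at hσ

theorem IsCompIn.commute_of_ne {H K L : Subgroup G} (hK : IsCompIn H K) (hL : IsCompIn H L)
    (hne : K ≠ L) {a b : G} (ha : a ∈ K) (hb : b ∈ L) : Commute a b := by
  have hne' : K.subgroupOf H ≠ L.subgroupOf H := fun h => hne (by
    have := congrArg (Subgroup.map H.subtype) h
    rwa [map_subgroupOf_eq_of_le hK.1, map_subgroupOf_eq_of_le hL.1] at this)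
  have h := congrArg (Subgroup.map H.subtype)
    (Components.IsComponent.commutator_eq_bot_of_ne hK.2 hL.2 hne')
  rw [map_commutator, map_subgroupOf_eq_of_le hK.1, map_subgroupOf_eq_of_le hL.1,
    Subgroup.map_bot] at h
  exact commutatorElement_eq_one_iff_mul_comm.1 (mem_bot.1 (h ▸ commutator_mem_commutator ha hb))

theorem IsCompIn.isComponent_subgroupOf {H K C : Subgroup G} (hK : IsCompIn H K) (hKC : K ≤ C)
    (hCH : C ≤ H) : Cfsg.IsComponent (K.subgroupOf C) :=
  ⟨hK.2.1.comap (Subgroup.inclusion hCH),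
    Components.isQuasisimple_congr (subgroupOfEquivOfLe hKC).symm hK.quasisimple⟩

variable [Finite G]

/-- A component of a core-free group has even order. -/
theorem IsCompIn.even {H K : Subgroup G} (h : IsCompIn H K) (hO : Cfsg.oddCore ↥H = ⊥) :
    2 ∣ Nat.card K := by
  by_contra hc
  haveI : Fact (Nat.Prime 2) := ⟨Nat.prime_two⟩
  apply Components.IsComponent.ne_bot h.2
  rw [eq_bot_iff, ← hO]
  refine PLocal.le_pPrimeCore_of_isSubnormal h.2.1 ?_
  rw [Nat.card_congr (subgroupOfEquivOfLe h.1).toEquiv]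
  exact ((Nat.Prime.coprime_iff_not_dvd Nat.prime_two).2 hc).symm

/-- A quasisimple subgroup of even order has a noncentral element of 2-power order. -/
theorem exists_two_elem {K : Subgroup G} (hK : Cfsg.IsQuasisimple K) (h2 : 2 ∣ Nat.card K) :
    ∃ c ∈ K, (∃ k : ℕ, c ^ 2 ^ k = 1) ∧ c ∉ centralizer (K : Set G) := by
  haveI : Fact (Nat.Prime 2) := ⟨Nat.prime_two⟩
  by_contra hall
  push_neg at hall
  apply Components.IsQuasisimple.not_isMulCommutative hK
  apply commutator_self_eq_bot_iff.mp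
  rw [commutator_eq_bot_iff_le_centralizer]
  calc K = Components.pElems 2 K := (Components.pElems_eq_self_of_isQuasisimple hK h2).symm
    _ ≤ _ := (closure_le _).2 fun c hc => hall c hc.1 hc.2

/-- A component of even order of `C` centralizes the core of `C`. -/
theorem le_centralizer_coreOf {C D : Subgroup G} (hDC : D ≤ C)
    (hD : Cfsg.IsComponent (D.subgroupOf C)) (h2 : 2 ∣ Nat.card D) :
    D ≤ centralizer (coreOf C : Set G) := by
  rcases Components.IsComponent.le_or_commutator_eq_bot_of_normal hD (Cfsg.oddCore ↥C) with h | h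
  · exfalso
    have hd : Nat.card D ∣ Nat.card (coreOf C) := card_dvd_of_le (by
      have := map_mono (f := C.subtype) h
      rwa [map_subgroupOf_eq_of_le hDC] at this)
    exact (by norm_num : ¬ (2 = 1))
      (Nat.eq_one_of_dvd_coprimes (coprime_card_coreOf C) (h2.trans hd) dvd_rfl)
  · have := congrArg (Subgroup.map C.subtype) h
    rwa [map_commutator, map_subgroupOf_eq_of_le hDC, Subgroup.map_bot,
      commutator_eq_bot_iff_le_centralizer] at this

/-- A 2-subgroup of `C` normalized by `C` centralizes the core of `C`. -/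
theorem commute_of_isPGroup {C P : Subgroup G} (hPC : P ≤ C) (hP : IsPGroup 2 P)
    (hn : C ≤ normalizer (P : Set G)) {y p : G} (hy : y ∈ coreOf C) (hp : p ∈ P) :
    Commute y p := by
  refine commutatorElement_eq_one_iff_mul_comm.1 ?_
  have h1 : ⁅y, p⁆ ∈ P := by
    have := mul_mem ((mem_normalizer_iff.1 (hn (coreOf_le C hy)) p).1 hp) (inv_mem hp)
    simpa [commutatorElement_def] using this
  have h2 : ⁅y, p⁆ ∈ coreOf C := by
    have := mul_mem hy ((mem_normalizer_iff.1 (le_normalizer_coreOf C (hPC hp)) y⁻¹).1 (inv_mem hy))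
    simpa [commutatorElement_def, mul_assoc] using this
  obtain ⟨k, hk⟩ := hP ⟨_, h1⟩
  exact eq_one_of_pow_two_pow (coprime_card_coreOf C) h2 (congrArg Subtype.val hk)

variable {H : Subgroup G} {t : G}

theorem mul_self_eq_one_of_orderOf (ht : orderOf t = 2) : t * t = 1 := by
  rw [← pow_two, ← ht]; exact pow_orderOf_eq_one t

theorem oddCore_fitting (hO : Cfsg.oddCore ↥H = ⊥) :
    Cfsg.fittingSubgroup ↥H ≤ Cfsg.pCore 2 ↥H := by
  rw [Solvable.fittingSubgroup_eq_iSup]
  refine iSup_le fun q => ?_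
  by_cases hq : (q : ℕ) = 2
  · rw [hq]
  · refine le_trans ?_ bot_le (b := (⊥ : Subgroup ↥H))
    rw [← hO]
    haveI := Fact.mk q.2
    obtain ⟨n, hn⟩ := IsPGroup.iff_card.mp (Solvable.isPGroup_pCore (G := ↥H) (q : ℕ))
    refine PLocal.le_pPrimeCore (hN := Solvable.pCore_normal (q : ℕ)) ?_
    rw [hn]
    exact ((Nat.coprime_primes q.2 Nat.prime_two).2 hq).pow_left n

/-- `O(C_H(t))` centralizes `O_2(H)`. -/
theorem coreOf_commute_pCore (ht : orderOf t = 2) (htH : t ∈ normalizer (H : Set G)) {y u : G}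
    (hy : y ∈ coreOf (H ⊓ centralizer ({t} : Set G))) (hu : u ∈ (Cfsg.pCore 2 ↥H).map H.subtype) :
    Commute y u := by
  haveI : Fact (Nat.Prime 2) := ⟨Nat.prime_two⟩
  set C := H ⊓ centralizer ({t} : Set G) with hC
  set U := (Cfsg.pCore 2 ↥H).map H.subtype with hU
  have hUH : U ≤ H := map_subtype_le _
  have hUp : IsPGroup 2 U := (PLocal.isPGroup_pCore 2 ↥H).map _
  haveI : (Cfsg.pCore 2 ↥H).Characteristic := Solvable.pCore_characteristic 2
  have hUn : normalizer (H : Set G) ≤ normalizer (U : Set G) :=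
    Components.normalizer_le_normalizer_map_subtype H (Cfsg.pCore 2 ↥H)
  have hP : IsPGroup 2 (zpowers t) := IsPGroup.of_card (n := 1) (by rw [Nat.card_zpowers, ht, pow_one])
  have hQle : zpowers y ≤ coreOf C := zpowers_le.2 hy
  have key : zpowers y ≤ centralizer (U : Set G) := by
    refine Coprime.le_centralizer_of_inf_centralizer_le hP
      ((coprime_card_coreOf C).coprime_dvd_left (card_dvd_of_le hQle)) hUp ?_
      ((zpowers_le.2 htH).trans hUn) ?_ ?_
    · rw [zpowers_le, mem_centralizer_iff]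
      rintro z ⟨i, rfl⟩
      have hyt : Commute y t := mem_centralizer_singleton_iff.1 (coreOf_le C hy).2
      exact (hyt.zpow_left i).eq
    · exact (zpowers_le.2 (le_normalizer (coreOf_le C hy).1)).trans hUn
    · rw [le_centralizer_iff, zpowers_le, mem_centralizer_iff]
      rintro w ⟨hwU, hwc⟩
      have hwC : w ∈ U ⊓ C := ⟨hwU, hUH hwU, mem_centralizer_singleton_iff.2
        (mem_centralizer_iff.1 hwc t (mem_zpowers t)).symm⟩
      exact (commute_of_isPGroup inf_le_right (hUp.to_le inf_le_left)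
        ((le_inf ((inf_le_left.trans le_normalizer).trans hUn) le_normalizer).trans
          inf_normalizer_le_normalizer_inf) hy hwC).symm
  exact (mem_centralizer_iff.1 (key (mem_zpowers y)) u hu).symm

/-- Conjugation by `t` preserves being in a `t`-stable subgroup. -/
theorem map_conj_conj (ht : orderOf t = 2) (K : Subgroup G) :
    (K.map (MulAut.conj t).toMonoidHom).map (MulAut.conj t).toMonoidHom = K := by
  have h := mul_self_eq_one_of_orderOf ht
  have e : (MulAut.conj t).toMonoidHom.comp (MulAut.conj t).toMonoidHom = MonoidHom.id G :=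
    MonoidHom.ext fun x => by
      change t * (t * x * t⁻¹) * t⁻¹ = x
      calc t * (t * x * t⁻¹) * t⁻¹ = (t * t) * x * (t * t)⁻¹ := by group
        _ = x := by rw [h]; simp
  rw [Subgroup.map_map, e, Subgroup.map_id]

/-- If `K ≠ Kᵗ`, the diagonal is centralized by the core of `C_H(t)`. -/
theorem commute_diagonal (hO : Cfsg.oddCore ↥H = ⊥) (ht : orderOf t = 2)
    (htH : t ∈ normalizer (H : Set G)) {K : Subgroup G} (hK : IsCompIn H K)
    (hne : K.map (MulAut.conj t).toMonoidHom ≠ K) {y k : G}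
    (hy : y ∈ coreOf (H ⊓ centralizer ({t} : Set G))) (hk : k ∈ K) :
    Commute y (k * (t * k * t⁻¹)) := by
  set C := H ⊓ centralizer ({t} : Set G) with hC
  set L := K.map (MulAut.conj t).toMonoidHom with hL
  have hLc : IsCompIn H L := hK.conj htH
  have hKL0 : ⁅K, L⁆ = ⊥ := by
    rw [eq_bot_iff, commutator_le]
    intro a ha b hb
    rw [mem_bot, commutatorElement_eq_one_iff_mul_comm]
    exact (hK.commute_of_ne hLc (Ne.symm hne) ha hb).eq
  obtain ⟨π, hπ, hker, hrC, hDS⟩ := Cfsg.Agent.S1314.result t ht K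
    (Subgroup.isPerfect_iff.mp hK.quasisimple.1) hKL0
  set D := π.range with hD
  have hLmem : ∀ a ∈ K, t * a * t⁻¹ ∈ L := fun a ha => ⟨a, ha, rfl⟩
  have hDC : D ≤ C := by
    refine le_inf ?_ hrC
    rintro _ ⟨l, rfl⟩
    rw [hπ]
    exact mul_mem (hK.1 l.2) (hLc.1 (hLmem l l.2))
  -- quasisimplicity of the diagonal
  obtain ⟨c, hcK, ⟨j, hcj⟩, hcc⟩ := exists_two_elem hK.quasisimple (hK.even hO)
  have hcker : (⟨c, hcK⟩ : ↥K) ∉ π.ker := fun h => hcc (mem_centralizer_iff.2 fun a ha =>
    congrArg Subtype.val (mem_center_iff.1 (hker h) ⟨a, ha⟩))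
  have hqs : Cfsg.IsQuasisimple D := by
    haveI := hK.quasisimple.1
    have hsurj := π.rangeRestrict_surjective
    have hperf : ⁅(⊤ : Subgroup ↥D), (⊤ : Subgroup ↥D)⁆ = ⊤ :=
      (Group.IsPerfect.ofSurjective hsurj).commutator_eq_top
    haveI : Nontrivial ↥D :=
      ⟨⟨π.rangeRestrict ⟨c, hcK⟩, 1, fun h => hcker (congrArg Subtype.val h :)⟩⟩
    refine Components.isQuasisimple_of_normal_le_center hperf fun N hN hne => ?_
    haveI := hN
    rcases Components.IsQuasisimple.normal_eq_top_or_le_center hK.quasisimple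
      (N.comap π.rangeRestrict) with h | h
    · exact absurd (by rw [← map_comap_eq_self_of_surjective hsurj N, h,
        map_top_of_surjective _ hsurj]) hne
    · rw [← map_comap_eq_self_of_surjective hsurj N]
      rintro _ ⟨a, ha, rfl⟩
      refine mem_center_iff.2 fun d => ?_
      obtain ⟨b, rfl⟩ := hsurj d
      rw [← map_mul, ← map_mul, mem_center_iff.1 (h ha) b]
  have h2D : 2 ∣ Nat.card D := by
    by_contra hodd
    exact hcker (eq_one_of_pow_two_pow
      (((Nat.Prime.coprime_iff_not_dvd Nat.prime_two).2 hodd).symm) ⟨_, rfl⟩ (k := j)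
      (by rw [← map_pow]; exact (congrArg π (Subtype.ext hcj)).trans π.map_one))
  -- subnormality of the diagonal
  have hDsn : (D.subgroupOf C).IsSubnormal := by
    have hKL : ((K ⊔ L).subgroupOf H).IsSubnormal := by
      rw [subgroupOf_sup hK.1 hLc.1]
      refine IsSubnormal.step _ (Cfsg.layer ↥H) (sup_le (Components.IsComponent.le_layer hK.2)
        (Components.IsComponent.le_layer hLc.2))
        (Subgroup.Normal.isSubnormal inferInstance) (normal_subgroupOf_of_le_normalizer ?_)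
      have := Components.layer_le_normalizer_sSup
        (S := {K.subgroupOf H, L.subgroupOf H}) (by
          rintro _ (rfl | rfl)
          exacts [hK.2, hLc.2])
      rwa [sSup_pair] at this
    set S := (K ⊔ L) ⊓ centralizer ({t} : Set G) with hS
    have hSC : S ≤ C := inf_le_inf_right _ (sup_le hK.1 hLc.1)
    have hSsn : (S.subgroupOf C).IsSubnormal := by
      have h := hKL.comap (Subgroup.inclusion (inf_le_left : C ≤ H))
      have e : ((K ⊔ L).subgroupOf H).comap (Subgroup.inclusion (inf_le_left : C ≤ H)) =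
          S.subgroupOf C := by
        ext z
        exact ⟨fun hz => ⟨hz, z.2.2⟩, fun hz => hz.1⟩
      rwa [e] at h
    have hDle : D ≤ S := hDS ▸ (commutator_le_sup S S).trans (sup_idem S).le
    refine IsSubnormal.step _ _ (comap_mono hDle) hSsn
      (normal_subgroupOf_of_le_normalizer ?_)
    refine le_trans ?_ ((le_normalizer_comap (C.subtype) :) )
    exact comap_mono (hDS ▸ normalizer_commutator_ge_left S S)
  have hfin := mem_centralizer_iff.1 (le_centralizer_coreOf hDC ⟨hDsn, Components.isQuasisimple_congr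
    (subgroupOfEquivOfLe hDC).symm hqs⟩ h2D ⟨⟨k, hk⟩, rfl⟩) y hy
  rwa [hπ] at hfin

/-- A group of odd order fixes a subgroup that it maps to one of two subgroups swapped by `t`. -/
theorem map_conj_ne_of_coprime (ht : orderOf t = 2) {K : Subgroup G}
    (hne : K.map (MulAut.conj t).toMonoidHom ≠ K) {y : G} (hyt : Commute y t)
    {N : Subgroup G} (hN : (Nat.card N).Coprime 2) (hy : y ∈ N) :
    K.map (MulAut.conj y).toMonoidHom ≠ K.map (MulAut.conj t).toMonoidHom := by
  intro h
  have hcomp : ∀ a b : G, (K.map (MulAut.conj b).toMonoidHom).map (MulAut.conj a).toMonoidHom =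
      K.map (MulAut.conj (a * b)).toMonoidHom := by
    intro a b
    rw [Subgroup.map_map]
    congr 1
    ext x; simp [mul_assoc]
  have h2 : K.map (MulAut.conj (y * y)).toMonoidHom = K := by
    rw [← hcomp, h, hcomp, hyt.eq, ← hcomp, h, map_conj_conj ht]
  have hodd : ∀ n : ℕ, K.map (MulAut.conj (y ^ (2 * n + 1))).toMonoidHom =
      K.map (MulAut.conj t).toMonoidHom := by
    intro n
    induction n with
    | zero => simpa using h
    | succ n ih =>
      have e : 2 * (n + 1) + 1 = (2 * n + 1) + 2 := by ring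
      rw [e, pow_add, pow_two, ← hcomp, h2, ih]
  obtain ⟨n, hn⟩ := Nat.coprime_two_right.1 hN
  apply hne
  rw [← hodd n, ← hn]
  have h1 : y ^ Nat.card N = 1 := congrArg Subtype.val (pow_card_eq_one' (x := (⟨y, hy⟩ : ↥N)))
  rw [h1, map_one]
  exact Subgroup.map_id K

/-- For `K ≠ Kᵗ`, an element of `O(C_H(t))` centralizes `K`. -/
theorem coreOf_centralizes_of_moved (hO : Cfsg.oddCore ↥H = ⊥) (ht : orderOf t = 2)
    (htH : t ∈ normalizer (H : Set G)) {K : Subgroup G} (hK : IsCompIn H K)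
    (hne : K.map (MulAut.conj t).toMonoidHom ≠ K) {y : G}
    (hy : y ∈ coreOf (H ⊓ centralizer ({t} : Set G))) :
    y ∈ centralizer (K : Set G) := by
  have hyC := coreOf_le _ hy
  have hyt : Commute y t := mem_centralizer_singleton_iff.1 hyC.2
  have hyH : y ∈ normalizer (H : Set G) := le_normalizer hyC.1
  set L := K.map (MulAut.conj t).toMonoidHom with hL
  set K₁ := K.map (MulAut.conj y).toMonoidHom with hK1
  have hLc : IsCompIn H L := hK.conj htH
  have hK₁c : IsCompIn H K₁ := hK.conj hyH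
  have hdiag : ∀ k ∈ K, y * k * y⁻¹ * (t * (y * k * y⁻¹) * t⁻¹) = k * (t * k * t⁻¹) := by
    intro k hk
    have h := commute_diagonal hO ht htH hK hne hy hk
    calc y * k * y⁻¹ * (t * (y * k * y⁻¹) * t⁻¹)
        = y * k * y⁻¹ * ((t * y) * k * (t * y)⁻¹) := by group
      _ = y * k * y⁻¹ * ((y * t) * k * (y * t)⁻¹) := by rw [hyt.eq]
      _ = y * (k * (t * k * t⁻¹)) * y⁻¹ := by group
      _ = _ := by rw [h.eq, mul_inv_cancel_right]
  have hfix : K₁ = K := by
    by_contra hne₁
    have hne₂ : K₁.map (MulAut.conj t).toMonoidHom ≠ K := fun h => by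
      have h2 := congrArg (Subgroup.map (MulAut.conj t).toMonoidHom) h
      rw [map_conj_conj ht] at h2
      exact map_conj_ne_of_coprime ht hne hyt (coprime_card_coreOf _) hy h2
    apply hK.not_commute
    rw [eq_bot_iff, commutator_le]
    intro k hk l hl
    rw [mem_bot, commutatorElement_eq_one_iff_mul_comm]
    have h1 : Commute (y * k * y⁻¹) l := hK₁c.commute_of_ne hK hne₁ ⟨k, hk, rfl⟩ hl
    have h2 : Commute (t * (y * k * y⁻¹) * t⁻¹) l :=
      (hK₁c.conj htH).commute_of_ne hK hne₂ ⟨_, ⟨k, hk, rfl⟩, rfl⟩ hl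
    have h3 : Commute (t * k * t⁻¹) l := hLc.commute_of_ne hK hne ⟨k, hk, rfl⟩ hl
    have h5 : Commute k l := by
      have h4 : Commute (k * (t * k * t⁻¹)) l := hdiag k hk ▸ h1.mul_left h2
      simpa [mul_assoc] using h4.mul_left h3.inv_left
    exact h5.eq
  have hconj : ∀ k ∈ K, y * k * y⁻¹ ∈ K := fun k hk => hfix ▸ ⟨k, hk, rfl⟩
  have hcentral : ∀ k ∈ K, k⁻¹ * (y * k * y⁻¹) ∈ centralizer (K : Set G) := by
    intro k hk
    rw [mem_centralizer_iff]
    intro l hl
    have hd := hdiag k hk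
    have e : k⁻¹ * (y * k * y⁻¹) = (t * k * t⁻¹) * (t * (y * k * y⁻¹) * t⁻¹)⁻¹ := by
      calc k⁻¹ * (y * k * y⁻¹)
          = k⁻¹ * (y * k * y⁻¹ * (t * (y * k * y⁻¹) * t⁻¹)) * (t * (y * k * y⁻¹) * t⁻¹)⁻¹ := by
            group
        _ = _ := by rw [hd]; group
    rw [e]
    exact ((hLc.commute_of_ne hK hne ⟨k, hk, rfl⟩ hl).mul_left
      (hLc.commute_of_ne hK hne ⟨_, hconj k hk, rfl⟩ hl).inv_left).eq.symm
  let f : ↥K →* G :=
    { toFun := fun k => (k : G)⁻¹ * (y * k * y⁻¹)
      map_one' := by simp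
      map_mul' := fun a b => by
        simp only [Subgroup.coe_mul]
        calc ((a : G) * b)⁻¹ * (y * (a * b) * y⁻¹)
            = ((b : G)⁻¹ * ((a : G)⁻¹ * (y * a * y⁻¹))) * (y * b * y⁻¹) := by group
          _ = (((a : G)⁻¹ * (y * a * y⁻¹)) * (b : G)⁻¹) * (y * b * y⁻¹) := by
              rw [mem_centralizer_iff.1 (hcentral a a.2) _ (inv_mem b.2)]
          _ = _ := by group }
  have hkill : commutator ↥K ≤ f.ker := by
    rw [commutator_def, commutator_le]
    intro a _ b _
    rw [MonoidHom.mem_ker, map_commutatorElement, commutatorElement_eq_one_iff_mul_comm]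
    exact mem_centralizer_iff.1 (hcentral b b.2) _ (mul_mem (inv_mem a.2) (hconj a a.2))
  rw [hK.quasisimple.1.commutator_eq_top] at hkill
  rw [mem_centralizer_iff]
  intro k hk
  have h1 : k⁻¹ * (y * k * y⁻¹) = 1 := hkill (mem_top (⟨k, hk⟩ : ↥K))
  have h2 := inv_mul_eq_one.1 h1
  calc k * y = y * k * y⁻¹ * y := by rw [← h2]
    _ = y * k := by group

/-- For `K` centralized by `t`, an element of `O(C_H(t))` centralizes `K`. -/
theorem coreOf_centralizes_of_centralized (hO : Cfsg.oddCore ↥H = ⊥) {K : Subgroup G}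
    (hK : IsCompIn H K) (htK : t ∈ centralizer (K : Set G)) {y : G}
    (hy : y ∈ coreOf (H ⊓ centralizer ({t} : Set G))) :
    y ∈ centralizer (K : Set G) := by
  set C := H ⊓ centralizer ({t} : Set G) with hC
  have hKC : K ≤ C := le_inf hK.1 fun k hk =>
    mem_centralizer_singleton_iff.2 (mem_centralizer_iff.1 htK k hk)
  exact le_centralizer_iff.1
    (le_centralizer_coreOf hKC (hK.isComponent_subgroupOf hKC inf_le_left) (hK.even hO)) hy

/-- `O(C_H(t))` normalizes every component of a core-free `H`. -/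
theorem coreOf_normalizes (hO : Cfsg.oddCore ↥H = ⊥) (ht : orderOf t = 2)
    (htH : t ∈ normalizer (H : Set G)) {K : Subgroup G} (hK : IsCompIn H K) {y : G}
    (hy : y ∈ coreOf (H ⊓ centralizer ({t} : Set G))) :
    K.map (MulAut.conj y).toMonoidHom = K := by
  haveI : Fact (Nat.Prime 2) := ⟨Nat.prime_two⟩
  by_contra hne₁
  have hcen : y ∉ centralizer (K : Set G) := fun h => hne₁ (by
    refine le_antisymm ?_ ?_
    · rintro _ ⟨k, hk, rfl⟩
      change y * k * y⁻¹ ∈ K
      rwa [← mem_centralizer_iff.1 h k hk, mul_inv_cancel_right]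
    · intro k hk
      exact ⟨k, hk, mul_inv_eq_iff_eq_mul.2 (mem_centralizer_iff.1 h k hk).symm⟩)
  by_cases hne : K.map (MulAut.conj t).toMonoidHom = K
  swap
  · exact hcen (coreOf_centralizes_of_moved hO ht htH hK hne hy)
  set C := H ⊓ centralizer ({t} : Set G) with hC
  have hyC := coreOf_le _ hy
  set K₁ := K.map (MulAut.conj y).toMonoidHom with hK1
  have hK₁c : IsCompIn H K₁ := hK.conj (le_normalizer hyC.1)
  have htK : t ∈ normalizer (K : Set G) := mem_normalizer_iff_map_conj_eq.2 hne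
  -- a Sylow subgroup of `K ⟨t⟩` through `t`
  set J := K ⊔ zpowers t with hJ
  have hJK : J ≤ normalizer (K : Set G) := sup_le le_normalizer (zpowers_le.2 htK)
  have htJ : t ∈ J := mem_sup_right (mem_zpowers t)
  have hp : IsPGroup 2 (zpowers (⟨t, htJ⟩ : ↥J)) :=
    IsPGroup.of_card (n := 1) (by rw [Nat.card_zpowers, Subgroup.orderOf_mk, ht, pow_one])
  obtain ⟨T, hT⟩ := hp.exists_le_sylow
  set T' := (T : Subgroup ↥J).map J.subtype with hT'
  have hT'p : IsPGroup 2 T' := T.isPGroup'.map _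
  haveI : Group.IsNilpotent ↥T' := hT'p.isNilpotent
  have hT'J : T' ≤ J := map_subtype_le _
  have htT' : t ∈ T' := ⟨⟨t, htJ⟩, hT (mem_zpowers _), rfl⟩
  haveI : (K.subgroupOf T').Normal := normal_subgroupOf_of_le_normalizer (hT'J.trans hJK)
  have hnc : ¬ K.subgroupOf T' ≤ (centralizer (K : Set G)).subgroupOf T' := by
    intro hall
    obtain ⟨c, hcK, ⟨j, hcj⟩, hcc⟩ := exists_two_elem hK.quasisimple (hK.even hO)
    have hcJ : c ∈ J := mem_sup_left hcK
    have hdvd : orderOf (⟨c, hcJ⟩ : ↥J) ∣ 2 ^ j := orderOf_dvd_of_pow_eq_one (Subtype.ext hcj)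
    obtain ⟨i, -, hi⟩ := (Nat.dvd_prime_pow Nat.prime_two).1 hdvd
    obtain ⟨T₁, hT₁⟩ := (IsPGroup.of_card (p := 2) (G := ↥(zpowers (⟨c, hcJ⟩ : ↥J))) (n := i)
      (by rw [Nat.card_zpowers, hi])).exists_le_sylow
    obtain ⟨g, rfl⟩ := MulAction.exists_smul_eq ↥J T T₁
    have hc1 := hT₁ (mem_zpowers _)
    rw [Sylow.coe_subgroup_smul, mem_pointwise_smul_iff_inv_smul_mem] at hc1
    have hg : (g : G) ∈ normalizer (K : Set G) := hJK g.2
    have hc2 : (g : G)⁻¹ * c * g ∈ T' := ⟨_, hc1, by simp [mul_assoc]⟩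
    have hc3 : (g : G)⁻¹ * c * g ∈ K := by
      simpa using (mem_normalizer_iff.1 (inv_mem hg) c).1 hcK
    have hc4 : (g : G)⁻¹ * c * g ∈ centralizer (K : Set G) :=
      hall (show (⟨_, hc2⟩ : ↥T') ∈ K.subgroupOf T' from hc3)
    apply hcc
    rw [mem_centralizer_iff]
    intro l hl
    have hl' : (g : G)⁻¹ * l * g ∈ K := by
      simpa using (mem_normalizer_iff.1 (inv_mem hg) l).1 hl
    have h := mem_centralizer_iff.1 hc4 _ hl'
    calc l * c = (g : G) * (((g : G)⁻¹ * l * g) * ((g : G)⁻¹ * c * g)) * (g : G)⁻¹ := by group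
      _ = _ := by rw [h]; group
  obtain ⟨c', hcK, hcc, hcentralmod⟩ := exists_central_mod hnc
  set c : G := (c' : G) with hc
  set m : G := ⁅c, t⁆ with hm
  have hmT : m ∈ T' := (⁅c', (⟨t, htT'⟩ : ↥T')⁆).2
  have hmc : m ∈ centralizer (K : Set G) := hcentralmod ⟨t, htT'⟩
  have hmK : m ∈ K := by
    have h := mul_mem (show c ∈ K from hcK) ((mem_normalizer_iff.1 htK c⁻¹).1 (inv_mem hcK))
    simpa [hm, commutatorElement_def, mul_assoc] using h
  -- `m` lies in `O_2(H)`
  have hmU : m ∈ (Cfsg.pCore 2 ↥H).map H.subtype := by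
    have hle : zpowers m ≤ K := zpowers_le.2 hmK
    have hsn : ((zpowers m).subgroupOf H).IsSubnormal := by
      refine IsSubnormal.step _ _ (comap_mono hle) hK.2.1 (normal_subgroupOf_of_le_normalizer ?_)
      intro k hk
      refine le_normalizer_comap H.subtype ?_
      change (k : G) ∈ normalizer ((zpowers m : Subgroup G) : Set G)
      refine centralizer_le_normalizer _ (mem_centralizer_iff.2 ?_)
      rintro _ ⟨i, rfl⟩
      exact ((mem_centralizer_iff.1 (zpow_mem hmc i) k hk)).symm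
    have hpg : IsPGroup 2 ↥((zpowers m).subgroupOf H) :=
      (hT'p.to_le (zpowers_le.2 hmT)).of_equiv (subgroupOfEquivOfLe (hle.trans hK.1)).symm
    exact ⟨⟨m, hK.1 hmK⟩, PLocal.le_pCore_of_isSubnormal hsn hpg (mem_zpowers m), rfl⟩
  have hym : Commute y m := coreOf_commute_pCore ht htH hy hmU
  have htt := mul_self_eq_one_of_orderOf ht
  have hti : t⁻¹ = t := inv_eq_of_mul_eq_one_right htt
  have hcm : Commute c m := mem_centralizer_iff.1 hmc c hcK
  have htct : t * c * t⁻¹ = c * m⁻¹ := by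
    calc t * c * t⁻¹ = (c * ((c⁻¹ * m) * c)⁻¹) := by
          rw [hm, commutatorElement_def]; group
      _ = c * m⁻¹ := by rw [mul_assoc c⁻¹ m c, ← hcm.eq]; group
  -- `c` normalizes `C ∩ C(m)`
  set C₀ := C ⊓ centralizer ({m} : Set G) with hC0
  have hstep : ∀ d : G, d ∈ H → Commute d m → t * d * t⁻¹ * d⁻¹ ∈ zpowers m →
      ∀ x ∈ C₀, d * x * d⁻¹ ∈ C₀ := by
    rintro d hdH hdm ⟨i, hi⟩ x ⟨⟨hxH, hxt⟩, hxm⟩
    have hxt' : Commute x t := mem_centralizer_singleton_iff.1 hxt
    have hxm' : Commute x m := mem_centralizer_singleton_iff.1 hxm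
    have hi' : t * d * t⁻¹ = m ^ i * d := by
      have hi0 : m ^ i = t * d * t⁻¹ * d⁻¹ := hi
      rw [hi0]; group
    have hdxm : Commute (d * x * d⁻¹) m := (hdm.mul_left hxm').mul_left hdm.inv_left
    refine ⟨⟨H.mul_mem (H.mul_mem hdH hxH) (H.inv_mem hdH), mem_centralizer_singleton_iff.2 ?_⟩,
      mem_centralizer_singleton_iff.2 hdxm⟩
    have e : t * (d * x * d⁻¹) * t⁻¹ = d * x * d⁻¹ := by
      calc t * (d * x * d⁻¹) * t⁻¹ = (t * d * t⁻¹) * (t * x * t⁻¹) * (t * d * t⁻¹)⁻¹ := by group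
        _ = m ^ i * d * x * (m ^ i * d)⁻¹ := by rw [hi', ← hxt'.eq, mul_inv_cancel_right]
        _ = m ^ i * (d * x * d⁻¹) * (m ^ i)⁻¹ := by group
        _ = d * x * d⁻¹ := by rw [← (hdxm.zpow_right i).eq, mul_inv_cancel_right]
    exact (mul_inv_eq_iff_eq_mul.1 e).symm
  have hcH : c ∈ H := hK.1 hcK
  have hcC₀ : c ∈ normalizer (C₀ : Set G) := by
    rw [mem_normalizer_iff]
    intro x
    refine ⟨hstep c hcH hcm ⟨-1, ?_⟩ x, fun hx => ?_⟩
    · rw [htct]
      change m ^ (-1 : ℤ) = c * m⁻¹ * c⁻¹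
      rw [zpow_neg_one, hcm.inv_right.eq, mul_inv_cancel_right]
    · have := hstep c⁻¹ (inv_mem hcH) hcm.inv_left ⟨1, ?_⟩ _ hx
      · simpa [mul_assoc] using this
      · change m ^ (1 : ℤ) = t * c⁻¹ * t⁻¹ * c⁻¹⁻¹
        have e : t * c⁻¹ * t⁻¹ = (t * c * t⁻¹)⁻¹ := by group
        rw [zpow_one, e, htct]; group
  have hyO : y ∈ coreOf C₀ :=
    coreOf_inf_le inf_le_left ⟨hy, hyC, mem_centralizer_singleton_iff.2 hym⟩
  have hw : y * c * y⁻¹ * c⁻¹ ∈ coreOf C₀ := by
    have := mul_mem hyO ((mem_normalizer_iff.1 (normalizer_le_normalizer_coreOf C₀ hcC₀) y⁻¹).1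
      (inv_mem hyO))
    simpa [mul_assoc] using this
  obtain ⟨j, hj⟩ := hT'p c'
  have hcj : c ^ 2 ^ j = 1 := congrArg Subtype.val hj
  have hcomm : Commute (y * c * y⁻¹) c⁻¹ := hK₁c.commute_of_ne hK hne₁ ⟨c, hcK, rfl⟩ (inv_mem hcK)
  have hone : y * c * y⁻¹ * c⁻¹ = 1 := by
    refine eq_one_of_pow_two_pow (coprime_card_coreOf C₀) hw (k := j) ?_
    rw [hcomm.mul_pow, conj_pow, inv_pow, hcj]; group
  apply hcc
  rw [mem_subgroupOf, mem_centralizer_iff]
  intro l hl
  have hc1 : c ∈ K₁ := by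
    rw [← mul_inv_eq_one.1 hone]; exact ⟨c, hcK, rfl⟩
  exact (hK₁c.commute_of_ne hK hne₁ hc1 hl).eq.symm

/-- The core of `C_H(t)` acts faithfully on the components it is not known to centralize. -/
theorem exists_component_moved (hO : Cfsg.oddCore ↥H = ⊥) (ht : orderOf t = 2)
    (htH : t ∈ normalizer (H : Set G)) {Y : Subgroup G} (hY1 : Y ≠ ⊥)
    (hY : Y ≤ coreOf (H ⊓ centralizer ({t} : Set G))) :
    ∃ E : Subgroup ↥H, Cfsg.IsComponent E ∧
      (E.map H.subtype).map (MulAut.conj t).toMonoidHom = E.map H.subtype ∧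
      Y ≤ normalizer ((E.map H.subtype : Subgroup G) : Set G) ∧
      ¬ t ∈ centralizer ((E.map H.subtype : Subgroup G) : Set G) ∧
      ¬ Y ≤ centralizer ((E.map H.subtype : Subgroup G) : Set G) := by
  haveI : Fact (Nat.Prime 2) := ⟨Nat.prime_two⟩
  by_contra hno
  push_neg at hno
  apply hY1
  rw [eq_bot_iff]
  intro y hy
  have hyO := hY hy
  have hyH : y ∈ H := (coreOf_le _ hyO).1
  have hcent : (⟨y, hyH⟩ : ↥H) ∈
      centralizer (Cfsg.generalizedFittingSubgroup ↥H : Set ↥H) := by
    rw [Cfsg.generalizedFittingSubgroup, Cfsg.layer]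
    refine le_centralizer_iff.1 ?_ (mem_zpowers (⟨y, hyH⟩ : ↥H))
    refine sup_le (sSup_le fun E hE => ?_) ((oddCore_fitting hO).trans ?_) <;>
      rw [le_centralizer_iff, zpowers_le, mem_centralizer_iff] <;> intro u hu <;> apply Subtype.ext
    · have hEc := isCompIn_map hE
      have hyE : y ∈ centralizer ((E.map H.subtype : Subgroup G) : Set G) := by
        by_cases hne : (E.map H.subtype).map (MulAut.conj t).toMonoidHom = E.map H.subtype
        swap
        · exact coreOf_centralizes_of_moved hO ht htH hEc hne hyO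
        by_cases htc : t ∈ centralizer ((E.map H.subtype : Subgroup G) : Set G)
        · exact coreOf_centralizes_of_centralized hO hEc htc hyO
        refine hno E hE hne ?_ htc hy
        exact fun z hz => mem_normalizer_iff_map_conj_eq.2
          (coreOf_normalizes hO ht htH hEc (hY hz))
      exact mem_centralizer_iff.1 hyE _ (mem_map_of_mem _ hu)
    · exact (coreOf_commute_pCore ht htH hyO (mem_map_of_mem _ hu)).symm.eq
  obtain ⟨k, hk⟩ := PLocal.isPGroup_pCore 2 ↥H
    ⟨_, oddCore_fitting hO (Components.centralizer_generalizedFitting_le hcent)⟩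
  exact mem_bot.2 (eq_one_of_pow_two_pow (coprime_card_coreOf _) hyO (k := k)
    (by simpa using congrArg (fun z : ↥(Cfsg.pCore 2 ↥H) => ((z : ↥H) : G)) hk))

end CfsgLib.Signalizer
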