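/-
Fixed points of a coprime abelian operator group `A` on a solvable group `Y = [Y,A]`: they are
generated by the fixed points of the `[C_Y(B),A]`, `A/B` cyclic.
-/
import Cfsg.Agent.Coprime.Action
import Cfsg.Agent.Coprime.Abelian
import Cfsg.Agent.Coprime.Generation
import Cfsg.Agent.Components.FStar

set_option autoImplicit false

open Subgroup
open scoped commutatorElement

namespace CfsgLib.Signalizer

/-- `B` is a subgroup of `A` with cyclic quotient. -/
def CoCyc {X : Type*} [Group X] (B A : Subgroup X) : Prop :=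
  B ≤ A ∧ ∃ a ∈ A, A ≤ B ⊔ zpowers a

/-- The subgroup generated by the fixed points of `A` in the `[C_Y(B),A]`. -/
def fixGen {X : Type*} [Group X] (A Y : Subgroup X) : Subgroup X :=
  ⨆ B : {B : Subgroup X // CoCyc B A},
    Y ⊓ centralizer (A : Set X) ⊓ ⁅Y ⊓ centralizer ((B : Subgroup X) : Set X), A⁆

variable {X : Type*} [Group X] [Finite X] {A Y : Subgroup X}

omit [Finite X] in
theorem coCyc_self : CoCyc A A := ⟨le_rfl, 1, one_mem _, le_sup_left⟩

omit [Finite X] in
theorem comm_of_le (hA : IsMulCommutative A) {B : Subgroup X} (hB : B ≤ A) :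
    A ≤ centralizer (B : Set X) := fun a ha => mem_centralizer_iff.mpr fun b hb =>
  congrArg Subtype.val (hA.is_comm.comm (⟨b, hB hb⟩ : A) ⟨a, ha⟩)

omit [Finite X] in
theorem isMulCommutative_of_le (hA : IsMulCommutative A) {B : Subgroup X} (hB : B ≤ A) :
    IsMulCommutative B :=
  ⟨⟨fun a b => Subtype.ext (congrArg Subtype.val
    (hA.is_comm.comm (⟨a, hB a.2⟩ : A) ⟨b, hB b.2⟩) :)⟩⟩

omit [Finite X] in
theorem isSolvable_of_comm' (hA : IsMulCommutative A) : Group.IsSolvable A :=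
  Group.isSolvable_of_comm fun a b => hA.is_comm.comm a b

omit [Finite X] in
theorem inv_centralizer (hA : IsMulCommutative A) {U B : Subgroup X}
    (hU : A ≤ normalizer (U : Set X)) (hB : B ≤ A) :
    A ≤ normalizer ((U ⊓ centralizer (B : Set X) : Subgroup X) : Set X) :=
  (le_inf hU ((comm_of_le hA hB).trans le_normalizer)).trans inf_normalizer_le_normalizer_inf

omit [Finite X] in
theorem le_normalizer_of_conj_mem {H U : Subgroup X}
    (h : ∀ x ∈ H, ∀ u ∈ U, x * u * x⁻¹ ∈ U) : H ≤ normalizer (U : Set X) := by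
  intro x hx
  refine mem_normalizer_iff.mpr fun u => ⟨h x hx u, fun hu => ?_⟩
  simpa [mul_assoc] using h x⁻¹ (inv_mem hx) _ hu

omit [Finite X] in
theorem commute_of_commutator_eq_bot {U V : Subgroup X} (h : ⁅U, V⁆ = ⊥) {u v : X} (hu : u ∈ U)
    (hv : v ∈ V) : Commute u v :=
  commutatorElement_eq_one_iff_mul_comm.mp (Subgroup.mem_bot.mp (h ▸ commutator_mem_commutator hu hv))

/-- Generation by the centralizers of subgroups with cyclic quotient. -/
theorem le_of_forall_coCyc (hA : IsMulCommutative A) (hAY : A ≤ normalizer (Y : Set X))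
    (hcop : (Nat.card A).Coprime (Nat.card Y)) {W : Subgroup X}
    (hW : ∀ B : Subgroup X, CoCyc B A → Y ⊓ centralizer (B : Set X) ≤ W) : Y ≤ W := by
  suffices key : ∀ (n : ℕ) (B : Subgroup X), B ≤ A → Nat.card A - Nat.card B = n →
      Y ⊓ centralizer (B : Set X) ≤ W by
    refine le_trans (le_inf le_rfl ?_) (key _ ⊥ bot_le rfl)
    exact fun x _ => mem_centralizer_iff.mpr fun y hy => by
      rw [Subgroup.mem_bot.mp hy, one_mul, mul_one]
  intro n
  induction n using Nat.strong_induction_on with | _ n ih =>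
  intro B hB hn
  by_cases hc : CoCyc B A
  · exact hW B hc
  set Z := centralizer (B : Set X) with hZ
  have hAZ : A ≤ Z := comm_of_le hA hB
  have hBZ : B ≤ Z := hB.trans hAZ
  haveI : (B.subgroupOf Z).Normal := normal_subgroupOf_of_le_normalizer (centralizer_le_normalizer _)
  set f := QuotientGroup.mk' (B.subgroupOf Z) with hf
  set YZ := (Y ⊓ Z).subgroupOf Z with hYZ
  set AZ := A.subgroupOf Z with hAZd
  haveI : IsMulCommutative (AZ.map f) := ⟨⟨by
    rintro ⟨_, x, hx, rfl⟩ ⟨_, y, hy, rfl⟩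
    apply Subtype.ext
    show f x * f y = f y * f x
    rw [← map_mul, ← map_mul]
    exact congrArg f (Subtype.ext (congrArg Subtype.val (hA.is_comm.comm (⟨x, hx⟩ : A) ⟨y, hy⟩) :))⟩⟩
  have hncyc : ¬ IsCyclic (AZ.map f) := by
    intro hcy
    obtain ⟨⟨g, a, ha, hag⟩, hg⟩ := hcy.exists_generator
    apply hc
    refine ⟨hB, a, ha, fun x hx => ?_⟩
    obtain ⟨i, hi⟩ := mem_zpowers_iff.mp (hg ⟨f ⟨x, hAZ hx⟩, ⟨_, hx, rfl⟩⟩)
    have hi' : f (a ^ i) = f ⟨x, hAZ hx⟩ := by
      rw [map_zpow, hag]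
      simpa using congrArg Subtype.val hi
    have hmem : ((a ^ i)⁻¹ * ⟨x, hAZ hx⟩ : Z) ∈ B.subgroupOf Z := QuotientGroup.eq.mp hi'
    have hmem' : ((a : X) ^ i)⁻¹ * x ∈ B := by simpa [mem_subgroupOf] using hmem
    have hx' : x = ((a : X) ^ i) * (((a : X) ^ i)⁻¹ * x) := by group
    rw [hx']
    exact mul_mem (mem_sup_right (zpow_mem (mem_zpowers _) i)) (mem_sup_left hmem')
  have hnorm : AZ ≤ normalizer ((YZ : Subgroup Z) : Set Z) := fun z hz =>
    mem_normalizer_iff.mpr fun w => mem_normalizer_iff.mp (inv_centralizer hA hAY hB hz) w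
  have hcardYZ : Nat.card YZ = Nat.card (Y ⊓ Z : Subgroup X) :=
    Nat.card_congr (subgroupOfEquivOfLe inf_le_right).toEquiv
  have hcardAZ : Nat.card AZ = Nat.card A := Nat.card_congr (subgroupOfEquivOfLe hAZ).toEquiv
  have hcop' : (Nat.card A).Coprime (Nat.card (Y ⊓ Z : Subgroup X)) :=
    hcop.coprime_dvd_right (card_dvd_of_le inf_le_left)
  have hker : YZ ⊓ f.ker = ⊥ := by
    rw [QuotientGroup.ker_mk']
    refine eq_bot_iff.mpr fun z hz => ?_
    have h : (z : X) ∈ (Y ⊓ Z) ⊓ A := ⟨hz.1, hB hz.2⟩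
    rw [Coprime.inf_eq_bot_of_coprime hcop'.symm, Subgroup.mem_bot] at h
    exact Subgroup.mem_bot.mpr (Subtype.ext h)
  have hle : YZ.map f ≤ (W.subgroupOf Z).map f := by
    refine Coprime.le_of_forall_inf_centralizer_le (A := AZ.map f) hncyc
      ((map_mono hnorm).trans (le_normalizer_map f))
      ((hcop'.coprime_dvd_left (hcardAZ ▸ card_map_dvd _ _)).coprime_dvd_right
        (hcardYZ ▸ card_map_dvd _ _)) ?_
    rintro _ ⟨a, ha, rfl⟩ ha1
    rintro _ ⟨⟨y, hy, rfl⟩, hfix⟩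
    refine ⟨y, ?_, rfl⟩
    have hfy : Commute (f y) (f a) := mem_centralizer_singleton_iff.mp hfix
    have hya : (y : X) * a = a * y := by
      have h1 : a * y * a⁻¹ * y⁻¹ ∈ YZ ⊓ f.ker := by
        refine Subgroup.mem_inf.mpr ⟨mul_mem ((mem_normalizer_iff.mp (hnorm ha) y).mp hy) (inv_mem hy), ?_⟩
        rw [MonoidHom.mem_ker, map_mul, map_mul, map_mul, map_inv, map_inv, hfy.symm.eq]
        group
      rw [hker, Subgroup.mem_bot] at h1
      have h2 : y * a = a * y := by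
        calc y * a = (a * y * a⁻¹ * y⁻¹) * (y * a) := by rw [h1, one_mul]
          _ = a * y := by group
      exact congrArg Subtype.val h2
    have haB : (a : X) ∉ B := fun h => ha1 ((QuotientGroup.eq_one_iff a).mpr h)
    have hB' : B ⊔ zpowers (a : X) ≤ A := sup_le hB (zpowers_le.mpr ha)
    have hlt : Nat.card A - Nat.card (B ⊔ zpowers (a : X) : Subgroup X) < n := by
      have h1 := card_le_of_le hB'
      have h2 : Nat.card B < Nat.card (B ⊔ zpowers (a : X) : Subgroup X) := by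
        refine lt_of_le_of_ne (card_le_of_le le_sup_left) fun h => haB ?_
        rw [eq_of_le_of_card_ge le_sup_left h.ge]
        exact mem_sup_right (mem_zpowers _)
      omega
    refine ih _ hlt _ hB' rfl (Subgroup.mem_inf.mpr ⟨hy.1, ?_⟩)
    have hle' : B ⊔ zpowers (a : X) ≤ centralizer {(y : X)} := by
      refine sup_le (fun b hb => mem_centralizer_singleton_iff.mpr
        (mem_centralizer_iff.mp hy.2 b hb)) (zpowers_le.mpr ?_)
      exact mem_centralizer_singleton_iff.mpr hya.symm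
    exact mem_centralizer_iff.mpr fun b hb => mem_centralizer_singleton_iff.mp (hle' hb)
  intro y hy
  obtain ⟨w, hw, hwy⟩ := hle ⟨⟨y, hy.2⟩, hy, rfl⟩
  have hwy' : (w⁻¹ * ⟨y, hy.2⟩ : Z) ∈ B.subgroupOf Z := QuotientGroup.eq.mp hwy
  have hmem : (w : X)⁻¹ * y ∈ B := by simpa [mem_subgroupOf] using hwy'
  have hwB : Commute (w : X) ((w : X)⁻¹ * y) := (mem_centralizer_iff.mp w.2 _ hmem).symm
  obtain ⟨m, hm⟩ : ∃ m, y ^ Nat.card B = m ∧ m ∈ W := ⟨_, rfl, by
    conv => rw [show y = (w : X) * ((w : X)⁻¹ * y) by group]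
    rw [hwB.mul_pow, show ((w : X)⁻¹ * y) ^ Nat.card B = 1 from ?_, mul_one]
    · exact pow_mem hw _
    · exact congrArg Subtype.val (pow_card_eq_one' (x := (⟨_, hmem⟩ : B)))⟩
  have hco : (Nat.card B).Coprime (orderOf y) :=
    ((hcop.coprime_dvd_left (card_dvd_of_le hB)).coprime_dvd_right
      (orderOf_mk y hy.1 ▸ orderOf_dvd_natCard (⟨y, hy.1⟩ : Y)))
  obtain ⟨k, hk⟩ := exists_pow_eq_self_of_coprime hco
  rw [← hk, hm.1]
  exact pow_mem hm.2 k

/-- The split `U = [U,B] C_U(B)` in elementwise form. -/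
theorem exists_split (hA : IsMulCommutative A) {U B : Subgroup X}
    (hU : A ≤ normalizer (U : Set X)) (hcop : (Nat.card A).Coprime (Nat.card U)) (hB : B ≤ A)
    {u : X} (hu : u ∈ U) :
    ∃ v ∈ ⁅U, B⁆, ∃ w ∈ U ⊓ centralizer (B : Set X), v * w = u := by
  have h := Coprime.commutator_sup_centralizer (hB.trans hU)
    (hcop.coprime_dvd_left (card_dvd_of_le hB)) (Or.inl (isSolvable_of_comm' (isMulCommutative_of_le hA hB)))
  have hn : U ⊓ centralizer (B : Set X) ≤ normalizer ((⁅U, B⁆ : Subgroup X) : Set X) :=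
    inf_le_left.trans (normalizer_commutator_ge_left U B)
  rw [← h] at hu
  exact Coprime.exists_mul_of_mem_sup hn hu

/-- Fixed points in an invariant abelian subgroup of `[C_Y(B),A]` lie in `fixGen`. -/
theorem abelian_le_sup_fixGen (hA : IsMulCommutative A) (hcop : (Nat.card A).Coprime (Nat.card Y))
    {K : Subgroup X} [IsMulCommutative K] (hKY : K ≤ Y) (hAK : A ≤ normalizer (K : Set X))
    {B : Subgroup X} (hB : CoCyc B A) :
    K ⊓ ⁅Y ⊓ centralizer (B : Set X), A⁆ ≤
      ⁅K, A⁆ ⊔ (K ⊓ centralizer (A : Set X) ⊓ fixGen A Y) := by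
  set U := K ⊓ ⁅Y ⊓ centralizer (B : Set X), A⁆ with hU
  intro u hu
  have hAU : A ≤ normalizer (U : Set X) := (le_inf hAK
    (normalizer_commutator_ge_right _ A)).trans inf_normalizer_le_normalizer_inf
  obtain ⟨v, hv, w, hw, rfl⟩ := exists_split hA hAU
    (hcop.coprime_dvd_right (card_dvd_of_le (inf_le_left.trans hKY))) le_rfl hu
  refine mul_mem_sup (commutator_mono inf_le_left le_rfl hv) ⟨⟨hw.1.1, hw.2⟩, ?_⟩
  exact le_iSup (fun B : {B : Subgroup X // CoCyc B A} =>
    Y ⊓ centralizer (A : Set X) ⊓ ⁅Y ⊓ centralizer ((B : Subgroup X) : Set X), A⁆) ⟨B, hB⟩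
    ⟨⟨hKY hw.1.1, hw.2⟩, hw.1.2⟩

/-- The generators of `Y = [Y,A]`. -/
theorem le_of_forall_commutator (hA : IsMulCommutative A) (hAY : A ≤ normalizer (Y : Set X))
    (hcop : (Nat.card A).Coprime (Nat.card Y)) (hYA : ⁅Y, A⁆ = Y) {S : Subgroup X}
    (hS : ∀ B : Subgroup X, CoCyc B A → ⁅Y ⊓ centralizer (B : Set X), A⁆ ≤ S) : Y ≤ S := by
  set T : Subgroup X := ⨆ B : {B : Subgroup X // CoCyc B A},
    ⁅Y ⊓ centralizer ((B : Subgroup X) : Set X), A⁆ with hT
  refine le_trans ?_ (iSup_le fun B => hS B.1 B.2 : T ≤ S)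
  have hnA : A ≤ normalizer (T : Set X) := by
    refine le_normalizer_of_conj_mem fun a ha t ht => ?_
    have : T.map (MulAut.conj a).toMonoidHom ≤ T := by
      rw [hT, Subgroup.map_iSup]
      refine iSup_mono fun B => ?_
      rintro _ ⟨x, hx, rfl⟩
      exact (mem_normalizer_iff.mp (normalizer_commutator_ge_right _ A ha) x).mp hx
    exact this ⟨t, ht, rfl⟩
  have hnC : Y ⊓ centralizer (A : Set X) ≤ normalizer (T : Set X) := by
    refine le_normalizer_of_conj_mem fun c hc t ht => ?_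
    have : T.map (MulAut.conj c).toMonoidHom ≤ T := by
      rw [hT, Subgroup.map_iSup]
      refine iSup_mono fun B => ?_
      rintro _ ⟨x, hx, rfl⟩
      refine (mem_normalizer_iff.mp (normalizer_commutator_ge_left _ A ?_) x).mp hx
      exact ⟨hc.1, centralizer_le (SetLike.coe_subset_coe.mpr B.2.1) hc.2⟩
    exact this ⟨t, ht, rfl⟩
  have hsup : Y ≤ T ⊔ (Y ⊓ centralizer (A : Set X)) := by
    refine le_of_forall_coCyc hA hAY hcop fun B hB y hy => ?_
    obtain ⟨v, hv, w, hw, rfl⟩ := exists_split hA (inv_centralizer hA hAY hB.1)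
      (hcop.coprime_dvd_right (card_dvd_of_le inf_le_left)) le_rfl hy
    exact mul_mem_sup (le_iSup (fun B : {B : Subgroup X // CoCyc B A} =>
      ⁅Y ⊓ centralizer ((B : Subgroup X) : Set X), A⁆) ⟨B, hB⟩ hv) ⟨hw.1.1, hw.2⟩
  conv_lhs => rw [← hYA]
  refine commutator_le.mpr fun y hy a ha => ?_
  obtain ⟨t, ht, c, hc, rfl⟩ := Coprime.exists_mul_of_mem_sup hnC (hsup hy)
  have h0 : ⁅c, a⁆ = 1 :=
    commutatorElement_eq_one_iff_mul_comm.mpr (mem_centralizer_iff.mp hc.2 a ha).symm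
  rw [commutatorElement_mul_left_eq_conj_mul, h0]
  simp only [mul_one, mul_inv_cancel, one_mul]
  exact le_normalizer_iff_commutator_le_left.mp hnA (commutator_mem_commutator ht ha)

/-- For an invariant abelian normal `K`, the subgroup `[K,A] (C_K(A) ∩ fixGen)` is normal. -/
theorem le_normalizer_abelian (hA : IsMulCommutative A) (hAY : A ≤ normalizer (Y : Set X))
    (hcop : (Nat.card A).Coprime (Nat.card Y)) (hYA : ⁅Y, A⁆ = Y)
    {K : Subgroup X} [IsMulCommutative K] (hKY : K ≤ Y) (hAK : A ≤ normalizer (K : Set X))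
    (hYK : Y ≤ normalizer (K : Set X)) :
    Y ≤ normalizer ((⁅K, A⁆ ⊔ (K ⊓ centralizer (A : Set X) ⊓ fixGen A Y) : Subgroup X) : Set X) ∧
      A ≤ normalizer ((⁅K, A⁆ ⊔ (K ⊓ centralizer (A : Set X) ⊓ fixGen A Y) : Subgroup X) : Set X) := by
  set M := ⁅K, A⁆ ⊔ (K ⊓ centralizer (A : Set X) ⊓ fixGen A Y) with hM
  have hKA : ⁅K, A⁆ ≤ K := le_normalizer_iff_commutator_le_left.mp hAK
  have hcopK := hcop.coprime_dvd_right (card_dvd_of_le hKY)
  refine ⟨le_of_forall_commutator hA hAY hcop hYA fun B hB => le_normalizer_of_conj_mem ?_, ?_⟩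
  · intro y hy
    have hyB : y ∈ Y ⊓ centralizer (B : Set X) :=
      le_normalizer_iff_commutator_le_left.mp (inv_centralizer hA hAY hB.1) hy
    have hyY : y ∈ Y := hyB.1
    have hyC : y ∈ centralizer (B : Set X) := hyB.2
    have hsub := abelian_le_sup_fixGen hA hcop hKY hAK hB
    have hfixed : ∀ n ∈ K ⊓ centralizer (A : Set X), y * n * y⁻¹ * n⁻¹ ∈ M := by
      intro n hn
      refine hsub (Subgroup.mem_inf.mpr ⟨mul_mem ((mem_normalizer_iff.mp (hYK hyY) n).mp hn.1) (inv_mem hn.1), ?_⟩)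
      rw [show y * n * y⁻¹ * n⁻¹ = y * (n * y⁻¹ * n⁻¹) by group]
      refine mul_mem hy ((mem_normalizer_iff.mp (normalizer_commutator_ge_left _ A ?_) _).mp
        (inv_mem hy))
      exact ⟨hKY hn.1, centralizer_le (SetLike.coe_subset_coe.mpr hB.1) hn.2⟩
    have hKAy : ∀ n ∈ ⁅K, A⁆, y * n * y⁻¹ ∈ M := by
      intro n hn
      obtain ⟨v, hv, z, hz, rfl⟩ := exists_split hA hAK hcopK hB.1 (hKA hn)
      rw [show y * (v * z) * y⁻¹ = (y * v * y⁻¹) * (y * z * y⁻¹) by group]
      refine mul_mem ?_ ?_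
      · have hy' : y ∈ normalizer ((⁅K, B⁆ : Subgroup X) : Set X) := by
          refine mem_normalizer_iff_map_conj_eq.mpr ?_
          show Subgroup.map (MulAut.conj y).toMonoidHom ⁅K, B⁆ = ⁅K, B⁆
          have hK' : K.map (MulAut.conj y).toMonoidHom = K := mem_normalizer_iff_map_conj_eq.mp (hYK hyY)
          have hB' : B.map (MulAut.conj y).toMonoidHom = B :=
            mem_normalizer_iff_map_conj_eq.mp (centralizer_le_normalizer _ hyC)
          rw [map_commutator, hK', hB']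
        exact mem_sup_left (commutator_mono le_rfl hB.1 ((mem_normalizer_iff.mp hy' v).mp hv))
      · have hzKA : z ∈ ⁅K, A⁆ := by
          have := mul_mem (inv_mem (commutator_mono le_rfl hB.1 hv)) hn
          simpa using this
        obtain ⟨v', hv', c, hc, rfl⟩ := exists_split hA (inv_centralizer hA hAK hB.1)
          (hcopK.coprime_dvd_right (card_dvd_of_le inf_le_left)) le_rfl hz
        have hc1 : c = 1 := by
          have hcKA : c ∈ ⁅K, A⁆ := by
            have := mul_mem (inv_mem (commutator_mono inf_le_left le_rfl hv')) hzKA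
            simpa using this
          have h1 : c ∈ (K ⊓ centralizer (A : Set X)) ⊓ ⁅K, A⁆ := ⟨⟨hc.1.1, hc.2⟩, hcKA⟩
          rwa [Coprime.inf_centralizer_inf_commutator_eq_bot hAK hcopK, Subgroup.mem_bot] at h1
        subst hc1
        rw [mul_one]
        have hv'B : v' ∈ ⁅Y ⊓ centralizer (B : Set X), A⁆ :=
          commutator_mono (inf_le_inf_right _ hKY) le_rfl hv'
        have hv'K : v' ∈ K := hKA (commutator_mono inf_le_left le_rfl hv')
        exact hsub (Subgroup.mem_inf.mpr ⟨(mem_normalizer_iff.mp (hYK hyY) v').mp hv'K,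
          mul_mem (mul_mem hy hv'B) (inv_mem hy)⟩)
    intro m hm
    have hle : M ≤ M.comap (MulAut.conj y).toMonoidHom := by
      refine sup_le (fun n hn => hKAy n hn) fun n hn => ?_
      show y * n * y⁻¹ ∈ M
      rw [show y * n * y⁻¹ = (y * n * y⁻¹ * n⁻¹) * n by group]
      exact mul_mem (hfixed n hn.1) (mem_sup_right hn)
    exact hle hm
  · refine le_trans (le_inf (normalizer_commutator_ge_right K A) ?_)
      (normalizer_inf_normalizer_le_normalizer_sup _ _)
    refine le_normalizer_of_conj_mem fun a ha n hn => ?_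
    rwa [mem_centralizer_iff.mp hn.1.2 a ha, mul_inv_cancel_right]

/-- A class two `K` with `K' ≤ N` is abelian when `N` is fixed and avoids `fixGen`. -/
theorem commutator_eq_bot_of_class_two (hA : IsMulCommutative A)
    (hcop : (Nat.card A).Coprime (Nat.card Y))
    {K N : Subgroup X} (hKY : K ≤ Y) (hAK : A ≤ normalizer (K : Set X))
    (hNY : N ≤ Y) (hNA : N ≤ centralizer (A : Set X)) (hNc : Y ≤ centralizer (N : Set X))
    (hKK : ⁅K, K⁆ ≤ N) (hNW : N ⊓ fixGen A Y = ⊥)
    (hfix : Y ⊓ centralizer (A : Set X) ≤ fixGen A Y ⊔ N) : ⁅K, K⁆ = ⊥ := by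
  have hzero : ∀ B : Subgroup X, CoCyc B A → ∀ z ∈ N, z ∈ ⁅Y ⊓ centralizer (B : Set X), A⁆ →
      z = 1 := fun B hB z hz hzB => Subgroup.mem_bot.mp (hNW ▸ (⟨hz,
    le_iSup (fun B : {B : Subgroup X // CoCyc B A} =>
      Y ⊓ centralizer (A : Set X) ⊓ ⁅Y ⊓ centralizer ((B : Subgroup X) : Set X), A⁆) ⟨B, hB⟩
      ⟨⟨hNY hz, hNA hz⟩, hzB⟩⟩ : z ∈ N ⊓ fixGen A Y))
  have hNn : fixGen A Y ≤ normalizer (N : Set X) := by
    refine le_trans ?_ (centralizer_le_normalizer _)
    exact (iSup_le fun B => inf_le_left.trans inf_le_left).trans hNc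
  have hbb : ∀ c ∈ K ⊓ centralizer (A : Set X), ∀ d ∈ K ⊓ centralizer (A : Set X), Commute c d := by
    intro c hc d hd
    obtain ⟨n, hn, w, hw, rfl⟩ := Coprime.exists_mul_of_mem_sup hNn
      (sup_comm (fixGen A Y) N ▸ hfix ⟨hKY hc.1, hc.2⟩)
    obtain ⟨n', hn', w', hw', rfl⟩ := Coprime.exists_mul_of_mem_sup hNn
      (sup_comm (fixGen A Y) N ▸ hfix ⟨hKY hd.1, hd.2⟩)
    have hcen : ∀ z ∈ N, ∀ x ∈ Y, Commute z x := fun z hz x hx =>
      mem_centralizer_iff.mp (hNc hx) z hz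
    have hwY : ∀ x ∈ fixGen A Y, x ∈ Y := fun x hx =>
      (iSup_le fun B => inf_le_left.trans inf_le_left : fixGen A Y ≤ Y) hx
    have hww : ⁅w, w'⁆ ∈ N ⊓ fixGen A Y := by
      refine Subgroup.mem_inf.mpr ⟨?_, ?_⟩
      · have h1 := hKK (commutator_mem_commutator hc.1 hd.1)
        have e : ⁅n * w, n' * w'⁆ = ⁅w, w'⁆ := by
          simp only [commutatorElement_def, mul_inv_rev]
          calc n * w * (n' * w') * (w⁻¹ * n⁻¹) * (w'⁻¹ * n'⁻¹)
              = n * (w * n') * (w' * w⁻¹ * n⁻¹) * (w'⁻¹ * n'⁻¹) := by group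
            _ = n * n' * w * ((w' * w⁻¹) * n⁻¹) * (w'⁻¹ * n'⁻¹) := by
                rw [← (hcen n' hn' w (hwY w hw)).eq]; group
            _ = n * n' * (w * n⁻¹) * w' * w⁻¹ * (w'⁻¹ * n'⁻¹) := by
                rw [← ((hcen n hn _ (mul_mem (hwY _ hw') (inv_mem (hwY _ hw)))).inv_left).eq]; group
            _ = n * (n' * n⁻¹) * w * w' * w⁻¹ * (w'⁻¹ * n'⁻¹) := by
                rw [← ((hcen n hn _ (hwY w hw)).inv_left).eq]; group
            _ = n' * ((w * w' * w⁻¹ * w'⁻¹) * n'⁻¹) := by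
                rw [← ((hcen n hn n' (hNY hn')).inv_left).eq]; group
            _ = _ := by
                rw [← ((hcen n' hn' _ (mul_mem (mul_mem (mul_mem (hwY _ hw) (hwY _ hw'))
                  (inv_mem (hwY _ hw))) (inv_mem (hwY _ hw')))).inv_left).eq]; group
        rwa [e] at h1
      · rw [commutatorElement_def]
        exact mul_mem (mul_mem (mul_mem hw hw') (inv_mem hw)) (inv_mem hw')
    rw [hNW, Subgroup.mem_bot, commutatorElement_eq_one_iff_mul_comm] at hww
    exact ((hcen n hn _ (mul_mem (hNY hn') (hwY _ hw'))).mul_left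
      (((hcen n' hn' _ (hwY _ hw)).symm).mul_right hww))
  -- the centralizers of the `B` in `K` are abelian
  have hab : ∀ B : Subgroup X, CoCyc B A → ∀ x ∈ K ⊓ centralizer (B : Set X),
      ∀ y ∈ K ⊓ centralizer (B : Set X), Commute x y := by
    intro B hB x hx y hy
    have hfirst : ∀ u ∈ ⁅K ⊓ centralizer (B : Set X), A⁆, ∀ c ∈ K ⊓ centralizer (B : Set X),
        Commute u c := by
      intro u hu c hc
      have huY : u ∈ ⁅Y ⊓ centralizer (B : Set X), A⁆ := commutator_mono (inf_le_inf_right _ hKY) le_rfl hu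
      refine commutatorElement_eq_one_iff_mul_comm.mp (hzero B hB _
        (hKK (commutator_mem_commutator
          ((le_normalizer_iff_commutator_le_left.mp hAK) (commutator_mono inf_le_left le_rfl hu))
          hc.1)) ?_)
      rw [commutatorElement_def, show u * c * u⁻¹ * c⁻¹ = u * (c * u⁻¹ * c⁻¹) by group]
      exact mul_mem huY ((mem_normalizer_iff.mp (normalizer_commutator_ge_left _ A
        (show c ∈ Y ⊓ centralizer (B : Set X) from ⟨hKY hc.1, hc.2⟩)) _).mp (inv_mem huY))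
    have hcop' : (Nat.card A).Coprime (Nat.card (K ⊓ centralizer (B : Set X) : Subgroup X)) :=
      hcop.coprime_dvd_right (card_dvd_of_le (inf_le_left.trans hKY))
    obtain ⟨u, hu, c, hc, rfl⟩ := exists_split hA (inv_centralizer hA hAK hB.1) hcop' le_rfl hx
    refine (hfirst u hu y hy).mul_left ?_
    obtain ⟨u', hu', c', hc', rfl⟩ := exists_split hA (inv_centralizer hA hAK hB.1) hcop' le_rfl hy
    exact ((hfirst u' hu' c hc.1).symm).mul_right (hbb c ⟨hc.1.1, hc.2⟩ c' ⟨hc'.1.1, hc'.2⟩)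
  rw [commutator_eq_bot_iff_le_centralizer]
  refine le_of_forall_coCyc hA hAK (hcop.coprime_dvd_right (card_dvd_of_le hKY)) fun B hB x hx => ?_
  have hle : K ≤ centralizer {x} := by
    refine le_of_forall_coCyc hA hAK (hcop.coprime_dvd_right (card_dvd_of_le hKY))
      fun B' hB' y hy => ?_
    obtain ⟨v, hv, w, hw, rfl⟩ := exists_split hA (inv_centralizer hA hAK hB'.1)
      (hcop.coprime_dvd_right (card_dvd_of_le (inf_le_left.trans hKY))) hB.1 hy
    refine mem_centralizer_singleton_iff.mpr ((Commute.mul_right ?_ (hab B hB x hx w ⟨hw.1.1, hw.2⟩)).eq.symm)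
    have hv' : ⁅K ⊓ centralizer (B' : Set X), B⁆ ≤ K ⊓ centralizer {x} := by
      refine commutator_le.mpr fun y' hy' b hb => Subgroup.mem_inf.mpr
        ⟨mul_mem hy'.1 ((mem_normalizer_iff.mp (hAK (hB.1 hb)) y'⁻¹).mp (inv_mem hy'.1)) |> fun h => by
          simpa [commutatorElement_def, mul_assoc] using h, ?_⟩
      refine mem_centralizer_singleton_iff.mpr ?_
      have hbx : b * x * b⁻¹ = x := by
        rw [mem_centralizer_iff.mp hx.2 b hb, mul_inv_cancel_right]
      set z := ⁅x, y'⁆ with hz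
      have hzN : z ∈ N := hKK (commutator_mem_commutator hx.1 hy'.1)
      have hbz : b * z * b⁻¹ = z := by
        rw [mem_centralizer_iff.mp (hNA hzN) b (hB.1 hb), mul_inv_cancel_right]
      have e1 : x * y' * x⁻¹ = z * y' := by rw [hz, commutatorElement_def]; group
      have hzc : ∀ u ∈ K, Commute z u := fun u hu =>
        mem_centralizer_iff.mp (hNc (hKY hu)) z hzN
      have e2 : x * (b * y'⁻¹ * b⁻¹) * x⁻¹ = z⁻¹ * (b * y'⁻¹ * b⁻¹) := by
        calc x * (b * y'⁻¹ * b⁻¹) * x⁻¹ = x * b * y'⁻¹ * b⁻¹ * x⁻¹ := by group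
          _ = (b * x * b⁻¹) * b * y'⁻¹ * b⁻¹ * (b * x * b⁻¹)⁻¹ := by rw [hbx]
          _ = b * (x * y' * x⁻¹)⁻¹ * b⁻¹ := by group
          _ = b * (y'⁻¹ * z⁻¹) * b⁻¹ := by rw [e1]; group
          _ = b * (z⁻¹ * y'⁻¹) * b⁻¹ := by rw [((hzc y'⁻¹ (inv_mem hy'.1)).inv_left).eq]
          _ = (b * z * b⁻¹)⁻¹ * (b * y'⁻¹ * b⁻¹) := by group
          _ = _ := by rw [hbz]
      rw [commutatorElement_def]
      have : x * (y' * b * y'⁻¹ * b⁻¹) * x⁻¹ = y' * b * y'⁻¹ * b⁻¹ := by
        calc x * (y' * b * y'⁻¹ * b⁻¹) * x⁻¹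
            = (x * y' * x⁻¹) * (x * (b * y'⁻¹ * b⁻¹) * x⁻¹) := by group
          _ = z * y' * (z⁻¹ * (b * y'⁻¹ * b⁻¹)) := by rw [e1, e2]
          _ = z * (y' * z⁻¹) * (b * y'⁻¹ * b⁻¹) := by group
          _ = _ := by rw [← ((hzc y' hy'.1).inv_left).eq]; group
      exact (mul_inv_eq_iff_eq_mul.mp this).symm
    exact (mem_centralizer_singleton_iff.mp (hv' hv).2).symm
  exact mem_centralizer_iff.mpr fun y hy => mem_centralizer_singleton_iff.mp (hle hy)

end CfsgLib.Signalizer
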