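/-
Fixed points of a coprime abelian operator group on a solvable `Y = [Y,A]`, main induction.
-/
import Cfsg.Agent.Signalizer.FixedPointGeneration
import Cfsg.Agent.FT.Basic

set_option autoImplicit false

open Subgroup
open scoped commutatorElement

namespace CfsgLib.Signalizer

universe u

section Step

variable {X : Type u} [Group X] [Finite X] {A Y : Subgroup X}

/-- Passage to a quotient by an invariant normal subgroup of `Y`. -/
theorem fix_le_sup_of_quotient (hA : IsMulCommutative A) (hAY : A ≤ normalizer (Y : Set X))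
    (htop : Y ⊔ A = ⊤) (hcop : (Nat.card A).Coprime (Nat.card Y)) (hs : Group.IsSolvable Y)
    (hYA : ⁅Y, A⁆ = Y) {N : Subgroup X} [N.Normal] (hNY : N ≤ Y) (hN : N ≠ ⊥)
    (ih : ∀ (Z : Type u) [Group Z] [Finite Z] (A' Y' : Subgroup Z), Nat.card Y' < Nat.card Y →
      IsMulCommutative A' → A' ≤ normalizer (Y' : Set Z) → Y' ⊔ A' = ⊤ →
      (Nat.card A').Coprime (Nat.card Y') → Group.IsSolvable Y' → ⁅Y', A'⁆ = Y' →
        Y' ⊓ centralizer (A' : Set Z) ≤ fixGen A' Y') :
    Y ⊓ centralizer (A : Set X) ≤ fixGen A Y ⊔ N := by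
  set f := QuotientGroup.mk' N with hf
  have hsA : Group.IsSolvable A := isSolvable_of_comm' hA
  have hlt : Nat.card (Y.map f) < Nat.card Y := by
    have h1 := index_mul_card (N.subgroupOf Y)
    have h2 : (N.subgroupOf Y).index = Nat.card (Y.map f) := by
      have := relIndex_ker Y f
      rwa [QuotientGroup.ker_mk'] at this
    rw [h2, Nat.card_congr (subgroupOfEquivOfLe hNY).toEquiv] at h1
    have : 1 < Nat.card N := by
      haveI : Nontrivial N := (nontrivial_iff_ne_bot N).mpr hN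
      exact Finite.one_lt_card
    rw [← h1]
    exact lt_mul_of_one_lt_right Nat.card_pos this
  have hAcomm : IsMulCommutative (A.map f) := ⟨⟨by
    rintro ⟨_, x, hx, rfl⟩ ⟨_, y, hy, rfl⟩
    apply Subtype.ext
    show f x * f y = f y * f x
    rw [← map_mul, ← map_mul]
    exact congrArg f (congrArg Subtype.val (hA.is_comm.comm (⟨x, hx⟩ : A) ⟨y, hy⟩))⟩⟩
  have hinj : A ⊓ N = ⊥ :=
    Coprime.inf_eq_bot_of_coprime (hcop.coprime_dvd_right (card_dvd_of_le hNY))
  have hW : fixGen (A.map f) (Y.map f) ≤ (fixGen A Y).map f := by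
    refine iSup_le fun ⟨Bb, hBb, ab, hab, hgen⟩ => ?_
    set B := A ⊓ Bb.comap f with hB
    obtain ⟨a, ha, rfl⟩ := hab
    have hBmap : B.map f = Bb := by
      refine le_antisymm (map_le_iff_le_comap.mpr inf_le_right) fun z hz => ?_
      obtain ⟨x, hx, rfl⟩ := hBb hz
      exact ⟨x, ⟨hx, hz⟩, rfl⟩
    have hco : CoCyc B A := by
      refine ⟨inf_le_left, a, ha, fun x hx => ?_⟩
      have h := hgen ⟨x, hx, rfl⟩
      rw [← hBmap, ← MonoidHom.map_zpowers, ← Subgroup.map_sup] at h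
      obtain ⟨z, hz, hzx⟩ := h
      have hzA : z ∈ A := (sup_le inf_le_left (zpowers_le.mpr ha) : B ⊔ zpowers a ≤ A) hz
      have h1 : z⁻¹ * x ∈ A ⊓ N :=
        Subgroup.mem_inf.mpr ⟨mul_mem (inv_mem hzA) hx, QuotientGroup.eq.mp hzx⟩
      rw [hinj, Subgroup.mem_bot, inv_mul_eq_one] at h1
      exact h1 ▸ hz
    have hcY : ∀ U : Subgroup X, U ≤ Y → (Nat.card A).Coprime (Nat.card ↥(U ⊓ f.ker)) :=
      fun U hU => hcop.coprime_dvd_right (card_dvd_of_le (inf_le_left.trans hU))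
    have h1 : (Y ⊓ centralizer (B : Set X)).map f = Y.map f ⊓ centralizer (Bb : Set (X ⧸ N)) := by
      rw [← hBmap]
      exact Coprime.map_inf_centralizer f (hco.1.trans hAY)
        ((hcY Y le_rfl).coprime_dvd_left (card_dvd_of_le hco.1))
        (Or.inl (isSolvable_of_comm' (isMulCommutative_of_le hA hco.1)))
    set YB := ⁅Y ⊓ centralizer (B : Set X), A⁆ with hYB
    have hYBY : YB ≤ Y :=
      (le_normalizer_iff_commutator_le_left.mp (inv_centralizer hA hAY hco.1)).trans inf_le_left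
    have h2 : (YB ⊓ centralizer (A : Set X)).map f =
        YB.map f ⊓ centralizer ((A.map f : Subgroup (X ⧸ N)) : Set (X ⧸ N)) :=
      Coprime.map_inf_centralizer f (normalizer_commutator_ge_right _ A) (hcY YB hYBY) (Or.inl hsA)
    have h3 : (YB ⊓ centralizer (A : Set X)).map f ≤ (fixGen A Y).map f :=
      map_mono (le_trans (le_inf (le_inf (inf_le_left.trans hYBY) inf_le_right) inf_le_left)
        (le_iSup (fun B : {B : Subgroup X // CoCyc B A} =>
          Y ⊓ centralizer (A : Set X) ⊓ ⁅Y ⊓ centralizer ((B : Subgroup X) : Set X), A⁆) ⟨B, hco⟩))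
    refine le_trans ?_ h3
    rw [h2, hYB, map_commutator, h1]
    exact le_inf inf_le_right (inf_le_left.trans inf_le_right)
  intro c hc
  have hfc : f c ∈ Y.map f ⊓ centralizer ((A.map f : Subgroup (X ⧸ N)) : Set (X ⧸ N)) := by
    refine Subgroup.mem_inf.mpr ⟨⟨c, hc.1, rfl⟩, mem_centralizer_iff.mpr ?_⟩
    rintro _ ⟨a, ha, rfl⟩
    rw [← map_mul, ← map_mul, mem_centralizer_iff.mp hc.2 a ha]
  have h := hW (ih (X ⧸ N) (A.map f) (Y.map f) hlt hAcomm
    ((map_mono hAY).trans (le_normalizer_map f))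
    (by rw [← Subgroup.map_sup, htop, map_top_of_surjective f (QuotientGroup.mk'_surjective N)])
    ((hcop.coprime_dvd_left (card_map_dvd _ _)).coprime_dvd_right (card_map_dvd _ _))
    (Components.isSolvable_map f hs) (by rw [← map_commutator, hYA]) hfc)
  have h' : c ∈ ((fixGen A Y).map f).comap f := h
  rwa [comap_map_eq, QuotientGroup.ker_mk'] at h'

/-- Fixed points in `[K,A] (C_K(A) ∩ fixGen)` lie in `fixGen`. -/
theorem inf_centralizer_abelian_le (hcop : (Nat.card A).Coprime (Nat.card Y)) {K : Subgroup X}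
    [IsMulCommutative K] (hKY : K ≤ Y) (hAK : A ≤ normalizer (K : Set X)) :
    (⁅K, A⁆ ⊔ (K ⊓ centralizer (A : Set X) ⊓ fixGen A Y)) ⊓ centralizer (A : Set X) ≤
      fixGen A Y := by
  rintro m ⟨hm, hmC⟩
  obtain ⟨u, hu, w, hw, rfl⟩ := Coprime.exists_mul_of_mem_sup
    ((inf_le_left.trans inf_le_left).trans (normalizer_commutator_ge_left K A)) hm
  have hu' : u ∈ (K ⊓ centralizer (A : Set X)) ⊓ ⁅K, A⁆ := by
    refine Subgroup.mem_inf.mpr ⟨Subgroup.mem_inf.mpr ⟨le_normalizer_iff_commutator_le_left.mp hAK hu, ?_⟩, hu⟩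
    have hmC' : u * w ∈ centralizer (A : Set X) := hmC
    have hwC : w ∈ centralizer (A : Set X) := hw.1.2
    have := mul_mem hmC' (inv_mem hwC)
    simpa using this
  rw [Coprime.inf_centralizer_inf_commutator_eq_bot hAK
    (hcop.coprime_dvd_right (card_dvd_of_le hKY)), Subgroup.mem_bot] at hu'
  rw [hu', one_mul]
  exact hw.2

theorem isMulCommutative_of_commutator_eq_bot {K : Subgroup X} (h : ⁅K, K⁆ = ⊥) :
    IsMulCommutative K :=
  ⟨⟨fun a b => Subtype.ext (commute_of_commutator_eq_bot h a.2 b.2).eq⟩⟩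

end Step

theorem fix_le_fixGen_aux (n : ℕ) : ∀ (X : Type u) [Group X] [Finite X] (A Y : Subgroup X),
    Nat.card Y = n → IsMulCommutative A → A ≤ normalizer (Y : Set X) → Y ⊔ A = ⊤ →
    (Nat.card A).Coprime (Nat.card Y) → Group.IsSolvable Y → ⁅Y, A⁆ = Y →
      Y ⊓ centralizer (A : Set X) ≤ fixGen A Y := by
  induction n using Nat.strong_induction_on with | _ n ih => ?_
  intro X _ _ A Y hn hA hAY htop hcop hs hYA
  rcases eq_or_ne Y ⊥ with rfl | hY
  · exact inf_le_left.trans bot_le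
  have ih' := fun (Z : Type u) [Group Z] [Finite Z] (A' Y' : Subgroup Z)
    (h : Nat.card Y' < Nat.card Y) => ih _ (hn ▸ h) Z A' Y' rfl
  haveI hYn : Y.Normal := normalizer_eq_top_iff.mp (top_unique (htop ▸ sup_le le_normalizer hAY))
  -- derived series of `Y` in `X`
  set D : ℕ → Subgroup X := fun i => (derivedSeries Y i).map Y.subtype with hDdef
  have hDn : ∀ i, (D i).Normal := fun i => by
    refine normalizer_eq_top_iff.mp (top_unique ?_)
    rw [← normalizer_eq_top Y]
    exact Components.normalizer_le_normalizer_map_subtype Y _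
  have hD0 : D 0 = Y := by simp [hDdef, ← MonoidHom.range_eq_map]
  have hDsucc : ∀ i, ⁅D i, D i⁆ = D (i + 1) := fun i => by
    simp [hDdef, ← map_commutator]
  have hDY : ∀ i, D i ≤ Y := fun i => map_subtype_le _
  obtain ⟨l, hl⟩ := hs.solvable
  have hex : ∃ i, D i = ⊥ := ⟨l, by simp [hDdef, hl]⟩
  classical
  have hk0 : Nat.find hex ≠ 0 := fun h => hY (hD0 ▸ h ▸ Nat.find_spec hex)
  set N := D (Nat.find hex - 1) with hN
  haveI : N.Normal := hDn _
  have hNne : N ≠ ⊥ := Nat.find_min hex (by omega)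
  have hNN : ⁅N, N⁆ = ⊥ := by
    rw [hN, hDsucc, Nat.sub_add_cancel (Nat.pos_of_ne_zero hk0)]
    exact Nat.find_spec hex
  haveI := isMulCommutative_of_commutator_eq_bot hNN
  have hNY : N ≤ Y := hDY _
  -- a good normal subgroup finishes the induction
  have hclose : ∀ M : Subgroup X, M.Normal → M ≤ Y → M ≠ ⊥ →
      M ⊓ centralizer (A : Set X) ≤ fixGen A Y → Y ⊓ centralizer (A : Set X) ≤ fixGen A Y := by
    intro M hMn hMY hM hMC c hc
    haveI := hMn
    obtain ⟨w, hw, m, hm, rfl⟩ :=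
      mem_sup_of_normal_right.mp (fix_le_sup_of_quotient hA hAY htop hcop hs hYA hMY hM ih' hc)
    have hwC : w ∈ centralizer (A : Set X) :=
      (iSup_le fun B => inf_le_left.trans inf_le_right : fixGen A Y ≤ centralizer (A : Set X)) hw
    refine mul_mem hw (hMC ⟨hm, ?_⟩)
    have := mul_mem (inv_mem hwC) hc.2
    simpa using this
  have habel : ∀ K : Subgroup X, K.Normal → K ≤ Y → IsMulCommutative K →
      Y ⊓ centralizer (A : Set X) ≤ fixGen A Y ∨
        ⁅K, A⁆ = ⊥ ∧ K ⊓ centralizer (A : Set X) ⊓ fixGen A Y = ⊥ := by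
    intro K hKn hKY hKc
    haveI := hKc
    haveI := hKn
    obtain ⟨h1, h2⟩ := le_normalizer_abelian hA hAY hcop hYA hKY le_normalizer_of_normal
      le_normalizer_of_normal
    set M := ⁅K, A⁆ ⊔ (K ⊓ centralizer (A : Set X) ⊓ fixGen A Y) with hM
    rcases eq_or_ne M ⊥ with h | h
    · exact Or.inr (sup_eq_bot_iff.mp h)
    · refine Or.inl (hclose M (normalizer_eq_top_iff.mp (top_unique (htop ▸ sup_le h1 h2))) ?_ h
        (inf_centralizer_abelian_le hcop hKY le_normalizer_of_normal))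
      exact sup_le ((le_normalizer_iff_commutator_le_left.mp le_normalizer_of_normal).trans hKY)
        (inf_le_left.trans inf_le_left |>.trans hKY)
  rcases habel N inferInstance hNY inferInstance with h | ⟨hNA0, hNW0⟩
  · exact h
  have hNA : N ≤ centralizer (A : Set X) := commutator_eq_bot_iff_le_centralizer.mp hNA0
  have hNW : N ⊓ fixGen A Y = ⊥ := le_bot_iff.mp (hNW0 ▸ inf_le_inf_right _ (le_inf le_rfl hNA))
  have hNc : Y ≤ centralizer (N : Set X) := by
    rw [← commutator_eq_bot_iff_le_centralizer, ← hYA]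
    refine commutator_commutator_eq_bot_of_rotate ?_ ?_
    · rw [commutator_comm A N, hNA0, commutator_bot_left]
    · exact le_bot_iff.mp (hNA0 ▸ commutator_mono
        (le_normalizer_iff_commutator_le_left.mp le_normalizer_of_normal) le_rfl)
  have hfix := fix_le_sup_of_quotient hA hAY htop hcop hs hYA hNY hNne ih'
  have hex' : ∃ i, D i ≤ N := ⟨Nat.find hex - 1, le_rfl⟩
  have hj0 : Nat.find hex' ≠ 0 := by
    intro h
    have hle : Y ≤ N := hD0 ▸ h ▸ Nat.find_spec hex'
    exact hY (hYA ▸ le_bot_iff.mp ((commutator_mono hle le_rfl).trans hNA0.le))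
  set j := Nat.find hex' - 1 with hj
  have hjN : ¬ D j ≤ N := Nat.find_min hex' (by omega)
  haveI := hDn j
  set K := D j ⊔ N with hK
  have hKY : K ≤ Y := sup_le (hDY j) hNY
  have hKK : ⁅K, K⁆ ≤ N := by
    rw [← QuotientGroup.ker_mk' N, ← Subgroup.map_eq_bot_iff, map_commutator, hK, Subgroup.map_sup,
      (Subgroup.map_eq_bot_iff (f := QuotientGroup.mk' N) N).mpr (QuotientGroup.ker_mk' N).ge,
      sup_bot_eq, ← map_commutator, Subgroup.map_eq_bot_iff, QuotientGroup.ker_mk', hDsucc, hj,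
      Nat.sub_add_cancel (Nat.pos_of_ne_zero hj0)]
    exact Nat.find_spec hex'
  haveI hKn : K.Normal := Subgroup.sup_normal _ _
  have hK0 := commutator_eq_bot_of_class_two hA hcop hKY le_normalizer_of_normal hNY hNA hNc hKK
    hNW hfix
  rcases habel K hKn hKY (isMulCommutative_of_commutator_eq_bot hK0) with h | ⟨hKA0, hKW⟩
  · exact h
  exfalso
  apply hjN
  intro k hk
  have hkK : k ∈ K := mem_sup_left hk
  have hkC : k ∈ centralizer (A : Set X) := commutator_eq_bot_iff_le_centralizer.mp hKA0 hkK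
  obtain ⟨w, hw, z, hz, rfl⟩ := mem_sup_of_normal_right.mp (hfix ⟨hKY hkK, hkC⟩)
  have hw1 : w ∈ K ⊓ centralizer (A : Set X) ⊓ fixGen A Y := by
    refine ⟨⟨?_, ?_⟩, hw⟩
    · simpa using mul_mem hkK (inv_mem (mem_sup_right (S := D j) hz))
    · simpa using mul_mem hkC (inv_mem (hNA hz))
  rw [hKW, Subgroup.mem_bot] at hw1
  rwa [hw1, one_mul]

/-- **Fixed point generation**: if a coprime abelian `A` acts on the solvable `Y = [Y,A]`, then
`C_Y(A)` is generated by the `C(A) ∩ [C_Y(B),A]`, `A/B` cyclic. -/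
theorem inf_centralizer_le_fixGen {X : Type u} [Group X] [Finite X] {A Y : Subgroup X}
    (hA : IsMulCommutative A) (hAY : A ≤ normalizer (Y : Set X))
    (hcop : (Nat.card A).Coprime (Nat.card Y)) (hs : Group.IsSolvable Y) (hYA : ⁅Y, A⁆ = Y) :
    Y ⊓ centralizer (A : Set X) ≤ fixGen A Y := by
  set H := Y ⊔ A with hH
  have hY : Y ≤ H := le_sup_left
  have hA' : A ≤ H := le_sup_right
  set Y' := Y.subgroupOf H
  set A'' := A.subgroupOf H
  have hmY : Y'.map H.subtype = Y := map_subgroupOf_eq_of_le hY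
  have hmA : A''.map H.subtype = A := map_subgroupOf_eq_of_le hA'
  have hcard : ∀ {U : Subgroup X}, U ≤ H → Nat.card (U.subgroupOf H) = Nat.card U := fun h =>
    Nat.card_congr (subgroupOfEquivOfLe h).toEquiv
  have key := fix_le_fixGen_aux _ H A'' Y' rfl
    ⟨⟨fun a b => Subtype.ext (Subtype.ext (congrArg Subtype.val
      (hA.is_comm.comm (⟨a.1.1, a.2⟩ : A) ⟨b.1.1, b.2⟩) :))⟩⟩
    (fun a ha => mem_normalizer_iff.mpr fun y => mem_normalizer_iff.mp (hAY ha) y)
    (by rw [← subgroupOf_sup hY hA', subgroupOf_self])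
    (by rwa [hcard hA', hcard hY])
    (Group.isSolvable_of_surjective (f := (subgroupOfEquivOfLe hY).symm.toMonoidHom)
      (MulEquiv.surjective _))
    (by
      apply Subgroup.map_injective H.subtype_injective
      rw [map_commutator, hmY, hmA, hYA])
  intro c hc
  have hcH : (⟨c, hY hc.1⟩ : H) ∈ fixGen A'' Y' := key ⟨hc.1, mem_centralizer_iff.mpr fun a ha =>
    Subtype.ext (mem_centralizer_iff.mp hc.2 a ha)⟩
  have hle : (fixGen A'' Y').map H.subtype ≤ fixGen A Y := by
    rw [fixGen, Subgroup.map_iSup]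
    refine iSup_le fun ⟨B, hB, a, ha, hgen⟩ => ?_
    have hco : CoCyc (B.map H.subtype) A := by
      refine ⟨hmA ▸ map_mono hB, a, ha, ?_⟩
      rw [← hmA]
      refine (map_mono hgen).trans ?_
      rw [Subgroup.map_sup, MonoidHom.map_zpowers]
      rfl
    have hcen : ∀ U : Subgroup H, (centralizer (U : Set H)).map H.subtype ≤
        centralizer ((U.map H.subtype : Subgroup X) : Set X) := by
      rintro U _ ⟨x, hx, rfl⟩
      refine mem_centralizer_iff.mpr ?_
      rintro _ ⟨u, hu, rfl⟩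
      exact congrArg H.subtype (mem_centralizer_iff.mp hx u hu)
    refine le_trans ?_ (le_iSup (fun B : {B : Subgroup X // CoCyc B A} =>
      Y ⊓ centralizer (A : Set X) ⊓ ⁅Y ⊓ centralizer ((B : Subgroup X) : Set X), A⁆) ⟨_, hco⟩)
    refine le_inf ((map_mono inf_le_left).trans (le_inf ?_ ?_)) ((map_mono inf_le_right).trans ?_)
    · exact (map_mono inf_le_left).trans hmY.le
    · exact (map_mono inf_le_right).trans ((hcen A'').trans (by rw [hmA]))
    · rw [map_commutator, hmA]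
      exact commutator_mono (le_inf ((map_mono inf_le_left).trans hmY.le)
        ((map_mono inf_le_right).trans (hcen B))) le_rfl
  exact hle ⟨_, hcH, rfl⟩

/-- The statement of S1329 for solvable `Y`. -/
theorem inf_centralizer_eq_iSup_of_isSolvable {G : Type u} [Group G] [Finite G] (A B Y : Subgroup G)
    (hA : IsMulCommutative A) (hB : B ≤ A) (hcop : (Nat.card A).Coprime (Nat.card Y))
    (hAY : A ≤ normalizer (Y : Set G)) (hs : Group.IsSolvable Y) (hYA : ⁅Y, A⁆ = Y) :
    Y ⊓ centralizer (B : Set G) =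
      ⨆ B₀ : {B₀ : Subgroup G // B₀ ≤ B ∧ ∀ [(B₀.subgroupOf B).Normal],
          IsCyclic (↥B ⧸ B₀.subgroupOf B)},
        Y ⊓ centralizer (B : Set G) ⊓
          ⁅Y ⊓ centralizer ((B₀ : Subgroup G) : Set G), A⁆ := by
  refine le_antisymm (fun q hq => ?_) (iSup_le fun _ => inf_le_left)
  set R := ⨆ B₀ : {B₀ : Subgroup G // B₀ ≤ B ∧ ∀ [(B₀.subgroupOf B).Normal],
    IsCyclic (↥B ⧸ B₀.subgroupOf B)},
      Y ⊓ centralizer (B : Set G) ⊓ ⁅Y ⊓ centralizer ((B₀ : Subgroup G) : Set G), A⁆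
  have hterm : ∀ B₀ : Subgroup G, CoCyc B₀ B →
      Y ⊓ centralizer (B : Set G) ⊓ ⁅Y ⊓ centralizer (B₀ : Set G), A⁆ ≤ R := by
    intro B₀ hB₀
    refine le_iSup (fun B₀ : {B₀ : Subgroup G // B₀ ≤ B ∧ ∀ [(B₀.subgroupOf B).Normal],
      IsCyclic (↥B ⧸ B₀.subgroupOf B)} => Y ⊓ centralizer (B : Set G) ⊓
        ⁅Y ⊓ centralizer ((B₀ : Subgroup G) : Set G), A⁆) ⟨B₀, hB₀.1, ?_⟩
    intro hn
    obtain ⟨b, hb, hgen⟩ := hB₀.2
    refine isCyclic_of_surjective ((QuotientGroup.mk' (B₀.subgroupOf B)).comp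
      (Subgroup.inclusion (zpowers_le.mpr hb : zpowers b ≤ B))) fun z => ?_
    obtain ⟨⟨x, hx⟩, rfl⟩ := QuotientGroup.mk'_surjective _ z
    have hzn : zpowers b ≤ normalizer (B₀ : Set G) :=
      ((zpowers_le.mpr (hB hb)).trans (comm_of_le hA (hB₀.1.trans hB))).trans
        (centralizer_le_normalizer _)
    obtain ⟨u, hu, v, hv, rfl⟩ := Coprime.exists_mul_of_mem_sup hzn (hgen hx)
    refine ⟨⟨v, hv⟩, ?_⟩
    refine QuotientGroup.eq.mpr ?_
    show v⁻¹ * (u * v) ∈ B₀
    have := (mem_normalizer_iff.mp (hzn (inv_mem hv)) u).mp hu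
    simpa [mul_assoc] using this
  obtain ⟨v, hv, c, hc, rfl⟩ := exists_split hA (inv_centralizer hA hAY hB)
    (hcop.coprime_dvd_right (card_dvd_of_le inf_le_left)) le_rfl hq
  refine mul_mem (hterm B coCyc_self ⟨le_normalizer_iff_commutator_le_left.mp
    (inv_centralizer hA hAY hB) hv, hv⟩) ?_
  have hle : fixGen A Y ≤ R := by
    refine iSup_le fun ⟨A₀, hA₀, a, ha, hgen⟩ => ?_
    have hco : CoCyc (A₀ ⊓ B) B := by
      refine ⟨inf_le_right, ?_⟩
      haveI : (A₀.subgroupOf A).Normal := normal_subgroupOf_of_le_normalizer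
        ((comm_of_le hA hA₀).trans (centralizer_le_normalizer _))
      have hcyc : IsCyclic (A ⧸ A₀.subgroupOf A) := by
        refine isCyclic_of_surjective ((QuotientGroup.mk' (A₀.subgroupOf A)).comp
          (Subgroup.inclusion (zpowers_le.mpr ha : zpowers a ≤ A))) fun z => ?_
        obtain ⟨⟨x, hx⟩, rfl⟩ := QuotientGroup.mk'_surjective _ z
        obtain ⟨u, hu, v, hv, rfl⟩ := Coprime.exists_mul_of_mem_sup
          (((zpowers_le.mpr ha).trans (comm_of_le hA hA₀)).trans (centralizer_le_normalizer _))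
          (hgen hx)
        refine ⟨⟨v, hv⟩, QuotientGroup.eq.mpr ?_⟩
        show v⁻¹ * (u * v) ∈ A₀
        rw [mem_centralizer_iff.mp ((zpowers_le.mpr ha).trans (comm_of_le hA hA₀) hv) u hu,
          inv_mul_cancel_left]
        exact hu
      haveI := hcyc
      set g := (QuotientGroup.mk' (A₀.subgroupOf A)).comp (Subgroup.inclusion hB)
      haveI : IsCyclic g.range := inferInstance
      obtain ⟨⟨_, b, rfl⟩, hb⟩ := IsCyclic.exists_generator (α := g.range)
      refine ⟨b, b.2, fun x hx => ?_⟩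
      obtain ⟨i, hi⟩ := mem_zpowers_iff.mp (hb ⟨g ⟨x, hx⟩, ⟨⟨x, hx⟩, rfl⟩⟩)
      have hi' : g (b ^ i) = g ⟨x, hx⟩ := by
        rw [map_zpow]
        simpa using congrArg Subtype.val hi
      have h1' : (Subgroup.inclusion hB (b ^ i))⁻¹ * Subgroup.inclusion hB ⟨x, hx⟩ ∈
          A₀.subgroupOf A := QuotientGroup.eq.mp hi'
      have h1 : ((b ^ i : B) : G)⁻¹ * x ∈ A₀ := h1'
      have e : x = ((b : G) ^ i) * (((b : G) ^ i)⁻¹ * x) := by group
      rw [e]
      refine mul_mem (mem_sup_right (zpow_mem (mem_zpowers _) i)) (mem_sup_left (Subgroup.mem_inf.mpr ⟨?_, ?_⟩))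
      · simpa using h1
      · exact mul_mem (inv_mem (zpow_mem b.2 i)) hx
    refine le_trans ?_ (hterm (A₀ ⊓ B) hco)
    exact inf_le_inf (inf_le_inf_left _ (centralizer_le (SetLike.coe_subset_coe.mpr hB)))
      (commutator_mono (inf_le_inf_left _ (centralizer_le (SetLike.coe_subset_coe.mpr inf_le_left)))
        le_rfl)
  exact hle (inf_centralizer_le_fixGen hA hAY hcop hs hYA ⟨hc.1.1, hc.2⟩)

/-- The statement of S1329, given that groups of odd order are solvable. -/
theorem inf_centralizer_eq_iSup_of_oddSolvable {G : Type u} [Group G] [Finite G]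
    (hodd : FT.OddSolvable.{u}) (A B Y : Subgroup G) (hA2 : IsPGroup 2 ↥A)
    (hAc : IsMulCommutative ↥A) (hB : B ≤ A) (hYodd : Odd (Nat.card ↥Y))
    (hAY : A ≤ normalizer (Y : Set G)) (hYA : ⁅Y, A⁆ = Y) :
    Y ⊓ centralizer (B : Set G) =
      ⨆ B₀ : {B₀ : Subgroup G // B₀ ≤ B ∧ ∀ [(B₀.subgroupOf B).Normal],
          IsCyclic (↥B ⧸ B₀.subgroupOf B)},
        Y ⊓ centralizer (B : Set G) ⊓
          ⁅Y ⊓ centralizer ((B₀ : Subgroup G) : Set G), A⁆ := by
  haveI : Fact (Nat.Prime 2) := ⟨Nat.prime_two⟩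
  obtain ⟨n, hn⟩ := IsPGroup.iff_card.mp hA2
  exact inf_centralizer_eq_iSup_of_isSolvable A B Y hAc hB
    (hn ▸ (hYodd.coprime_two_left).pow_left n) hAY (hodd Y hYodd) hYA

end CfsgLib.Signalizer
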