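/-
Core-separated four-subgroups give a signalizer functor.
-/
import Cfsg.Agent.Signalizer.CoreComponents
import Cfsg.Agent.Signalizer.FixedPointMain
import Cfsg.Prelude.Def_Balance

set_option autoImplicit false

open Subgroup
open scoped commutatorElement

namespace CfsgLib.Signalizer

universe u

variable {G : Type u} [Group G] [Finite G]

omit [Finite G] in
/-- Conjugating an element centralizing `E` by one normalizing `E`. -/
theorem conj_mem_centralizer {X : Type*} [Group X] {E : Subgroup X} {q c : X}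
    (hq : q ∈ normalizer (E : Set X)) (hc : c ∈ centralizer (E : Set X)) :
    q * c * q⁻¹ ∈ centralizer (E : Set X) := by
  refine mem_centralizer_iff.2 fun e he => ?_
  have h1 : q⁻¹ * e * q ∈ E := by
    simpa using (mem_normalizer_iff.1 (inv_mem hq) e).1 he
  have h2 := mem_centralizer_iff.1 hc _ h1
  calc e * (q * c * q⁻¹) = q * ((q⁻¹ * e * q) * c) * q⁻¹ := by group
    _ = q * (c * (q⁻¹ * e * q)) * q⁻¹ := by rw [h2]
    _ = q * c * q⁻¹ * e := by group

section Quotient

variable {C : Subgroup G}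

/-- The map of `C` onto `C/O(C)`. -/
abbrev modCore (C : Subgroup G) : ↥C →* ↥C ⧸ Cfsg.pPrimeCore 2 ↥C :=
  QuotientGroup.mk' (Cfsg.pPrimeCore 2 ↥C)

/-- The image in `C/O(C)` of the part of `S` in `C`. -/
abbrev barOf (C S : Subgroup G) : Subgroup (↥C ⧸ Cfsg.pPrimeCore 2 ↥C) :=
  (S.subgroupOf C).map (modCore C)

theorem mem_barOf {S : Subgroup G} {s : G} (hs : s ∈ S) (hC : s ∈ C) :
    modCore C ⟨s, hC⟩ ∈ barOf C S :=
  mem_map_of_mem (modCore C) (show (⟨s, hC⟩ : ↥C) ∈ S.subgroupOf C from hs)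

/-- A coprime solvable operator group: fixed points map onto fixed points. -/
theorem map_centralizer_modCore (B : Subgroup ↥C) (hB : IsPGroup 2 B) :
    (centralizer (B : Set ↥C)).map (modCore C) =
      centralizer ((B.map (modCore C) : Subgroup _) : Set (↥C ⧸ Cfsg.pPrimeCore 2 ↥C)) := by
  haveI : Fact (Nat.Prime 2) := ⟨Nat.prime_two⟩
  obtain ⟨n, hn⟩ := IsPGroup.iff_card.mp hB
  have h := Coprime.map_inf_centralizer (G := (⊤ : Subgroup ↥C)) (A := B) (modCore C)
    (fun x _ => le_normalizer (Subgroup.mem_top x)) (by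
      rw [hn, top_inf_eq, QuotientGroup.ker_mk']
      exact ((PLocal.coprime_card_pPrimeCore 2 ↥C).symm).pow_left n)
    (Or.inl (by
      haveI := hB.isNilpotent
      infer_instance))
  rwa [top_inf_eq, map_top_of_surjective _ (QuotientGroup.mk'_surjective _), top_inf_eq] at h

theorem oddCore_top (C : Subgroup G) :
    Cfsg.oddCore ↥(⊤ : Subgroup (↥C ⧸ Cfsg.pPrimeCore 2 ↥C)) = ⊥ := by
  have h := PLocal.map_pPrimeCore_equiv (p := 2)
    (topEquiv : ↥(⊤ : Subgroup (↥C ⧸ Cfsg.pPrimeCore 2 ↥C)) ≃* _)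
  rw [PLocal.pPrimeCore_quotient_pPrimeCore_eq_bot 2 ↥C] at h
  exact (map_eq_bot_iff_of_injective _ (MulEquiv.injective _)).1 h

theorem eq_one_or_not_mem {t : G} (ht : orderOf t = 2) (htC : t ∈ C) :
    orderOf (modCore C ⟨t, htC⟩) = 2 := by
  refine orderOf_eq_prime_iff.2 ⟨?_, fun h => ?_⟩
  · rw [← map_pow]
    have : (⟨t, htC⟩ : ↥C) ^ 2 = 1 := Subtype.ext (by
      simpa [ht] using pow_orderOf_eq_one t)
    rw [this, map_one]
  · have hmem : (⟨t, htC⟩ : ↥C) ∈ Cfsg.pPrimeCore 2 ↥C := (QuotientGroup.eq_one_iff _).1 h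
    have h1 := eq_one_of_pow_two_pow (PLocal.coprime_card_pPrimeCore 2 ↥C) hmem (k := 1)
      (Subtype.ext (by simpa [ht] using pow_orderOf_eq_one t))
    have h2 : t = 1 := congrArg Subtype.val h1
    rw [h2, orderOf_one] at ht
    exact absurd ht (by norm_num)

/-- The odd core of `C(t)` maps into the core of the centralizer of the image of `t`. -/
theorem barOf_le_coreOf {t : G} (ht : orderOf t = 2) (htC : t ∈ C) :
    barOf C (coreOf (centralizer ({t} : Set G))) ≤
      coreOf ((⊤ : Subgroup (↥C ⧸ Cfsg.pPrimeCore 2 ↥C)) ⊓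
        centralizer ({modCore C ⟨t, htC⟩} : Set _)) := by
  haveI : Fact (Nat.Prime 2) := ⟨Nat.prime_two⟩
  set Ct := centralizer ({t} : Set G) with hCt
  set D := Ct ⊓ C with hD
  have hcen : centralizer (zpowers (⟨t, htC⟩ : ↥C) : Set ↥C) = D.subgroupOf C := by
    rw [zpowers_eq_closure, centralizer_closure]
    ext x
    rw [mem_centralizer_singleton_iff, mem_subgroupOf, mem_inf, hCt,
      mem_centralizer_singleton_iff, ← Subtype.coe_inj]
    exact ⟨fun h => ⟨h, x.2⟩, fun h => h.1⟩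
  have hbar : barOf C D =
      (⊤ : Subgroup (↥C ⧸ Cfsg.pPrimeCore 2 ↥C)) ⊓
        centralizer ({modCore C ⟨t, htC⟩} : Set _) := by
    rw [barOf, ← hcen, map_centralizer_modCore _ (IsPGroup.of_card (n := 1)
      (by rw [Nat.card_zpowers, Subgroup.orderOf_mk, ht, pow_one])), MonoidHom.map_zpowers,
      top_inf_eq, zpowers_eq_closure, centralizer_closure]
  rw [← hbar]
  have hsub : barOf C (coreOf Ct) ≤ barOf C (coreOf Ct ⊓ D) := by
    rintro _ ⟨x, hx, rfl⟩
    exact mem_map_of_mem _ (show x ∈ (coreOf Ct ⊓ D).subgroupOf C from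
      ⟨hx, coreOf_le _ hx, x.2⟩)
  refine hsub.trans (le_coreOf (map_mono (comap_mono inf_le_right)) ?_ ?_)
  · refine le_trans (map_mono ?_) (le_normalizer_map (modCore C))
    refine le_trans (comap_mono ?_) (le_normalizer_comap C.subtype)
    exact (le_inf ((inf_le_left : D ≤ Ct).trans (le_normalizer_coreOf Ct)) le_normalizer).trans
      inf_normalizer_le_normalizer_inf
  · refine Nat.Coprime.coprime_dvd_left (card_map_dvd _ _) ?_
    refine Nat.Coprime.coprime_dvd_left ?_ (coprime_card_coreOf Ct)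
    exact (card_comap_dvd_of_injective _ _ C.subtype_injective).trans (card_dvd_of_le inf_le_left)

/-- The odd core of `C(t)` normalizes every component of `C/O(C)`. -/
theorem normalizes_component {t : G} (ht : orderOf t = 2) (htC : t ∈ C)
    {E : Subgroup (↥C ⧸ Cfsg.pPrimeCore 2 ↥C)} (hE : Cfsg.IsComponent E) {q : G}
    (hq : q ∈ coreOf (centralizer ({t} : Set G))) (hqC : q ∈ C) :
    modCore C ⟨q, hqC⟩ ∈ normalizer (E : Set _) :=
  mem_normalizer_iff_map_conj_eq.2 (coreOf_normalizes (oddCore_top C) (eq_one_or_not_mem ht htC)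
    (le_normalizer (Subgroup.mem_top _)) ⟨le_top, Components.IsComponent.subgroupOf hE le_top⟩
    (barOf_le_coreOf ht htC (mem_barOf hq hqC)))

/-- A part of the core of `C(t)` centralizing the components of `C/O(C)` moved by `t` lies in
`O(C)`. -/
theorem le_coreOf_of_forall_component {t : G} (ht : orderOf t = 2) (htC : t ∈ C) {W : Subgroup G}
    (hW : W ≤ coreOf (centralizer ({t} : Set G))) (hWC : W ≤ C)
    (h : ∀ E : Subgroup (↥C ⧸ Cfsg.pPrimeCore 2 ↥C), Cfsg.IsComponent E →
      modCore C ⟨t, htC⟩ ∈ normalizer (E : Set _) →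
      ¬ modCore C ⟨t, htC⟩ ∈ centralizer (E : Set _) → barOf C W ≤ centralizer (E : Set _)) :
    W ≤ coreOf C := by
  have hbot : barOf C W = ⊥ := by
    by_contra hne
    obtain ⟨E, hE, hmap, -, hnc, hnot⟩ := exists_component_moved (oddCore_top C)
      (eq_one_or_not_mem ht htC) (le_normalizer (Subgroup.mem_top _)) hne
      ((map_mono (comap_mono hW)).trans (barOf_le_coreOf ht htC))
    exact hnot (h _ ((Components.isComponent_map_subtype (IsSubnormal.top) E).1 hE)
      (mem_normalizer_iff_map_conj_eq.2 hmap) hnc)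
  intro w hw
  have h1 : modCore C ⟨w, hWC hw⟩ = 1 := Subgroup.mem_bot.1 (hbot ▸ mem_barOf hw (hWC hw))
  exact ⟨⟨w, hWC hw⟩, (QuotientGroup.eq_one_iff _).1 h1, rfl⟩

end Quotient

section Main

variable {A₁ A₂ : Subgroup G}

omit [Finite G] in
theorem IsCoreSeparated.symm (h : Cfsg.IsCoreSeparated A₁ A₂) : Cfsg.IsCoreSeparated A₂ A₁ := by
  obtain ⟨h1, h2, h3, h4, h5, h6, h7, h8⟩ := h
  refine ⟨h2, h1, h4, h3, h5.symm, by rwa [inf_comm], fun x hx y hy => (h7 y hy x hx).symm,
    fun a ha hne E hE => (h8 a (by rwa [sup_comm]) hne E hE).symm⟩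

omit [Finite G] in
theorem IsCoreSeparated.isMulCommutative (h : Cfsg.IsCoreSeparated A₁ A₂) :
    IsMulCommutative (A₁ ⊔ A₂ : Subgroup G) := by
  obtain ⟨h1, h2, -, -, -, -, hc, -⟩ := h
  refine le_centralizer_iff_isMulCommutative.1 (sup_le ?_ ?_) <;> rw [le_centralizer_iff] <;>
    refine sup_le ?_ ?_
  · exact fun x hx => mem_centralizer_iff.2 fun y hy => comm_of_mem_elab h1 hy hx
  · exact fun x hx => mem_centralizer_iff.2 fun y hy => hc y hy x hx
  · exact fun x hx => mem_centralizer_iff.2 fun y hy => (hc x hx y hy).symm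
  · exact fun x hx => mem_centralizer_iff.2 fun y hy => comm_of_mem_elab h2 hy hx

omit [Finite G] in
theorem IsCoreSeparated.commute (h : Cfsg.IsCoreSeparated A₁ A₂) {x y : G} (hx : x ∈ A₁ ⊔ A₂)
    (hy : y ∈ A₁ ⊔ A₂) : Commute x y :=
  congrArg Subtype.val ((IsCoreSeparated.isMulCommutative h).is_comm.comm
    (⟨x, hx⟩ : ↥(A₁ ⊔ A₂)) ⟨y, hy⟩)

omit [Finite G] in
theorem IsCoreSeparated.le_centralizer (h : Cfsg.IsCoreSeparated A₁ A₂) {a : G}
    (ha : a ∈ A₁ ⊔ A₂) : A₁ ⊔ A₂ ≤ centralizer ({a} : Set G) := fun _ hx =>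
  mem_centralizer_singleton_iff.2 (IsCoreSeparated.commute h hx ha)

omit [Finite G] in
theorem IsCoreSeparated.orderOf_eq (h : Cfsg.IsCoreSeparated A₁ A₂) {a : G}
    (ha : a ∈ A₁ ⊔ A₂) (ha1 : a ≠ 1) : orderOf a = 2 := by
  refine orderOf_eq_prime_iff.2 ⟨?_, ha1⟩
  obtain ⟨x, hx, y, hy, rfl⟩ := Coprime.exists_mul_of_mem_sup (G := G) (N := A₁) (H := A₂)
    (fun y hy => mem_normalizer_iff.2 fun x => by
      constructor
      · intro hx; rwa [← h.2.2.2.2.2.2.1 x hx y hy, mul_inv_cancel_right]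
      · intro hx
        have := h.2.2.2.2.2.2.1 _ hx y hy
        have e : x = y * x * y⁻¹ := by
          calc x = y⁻¹ * ((y * x * y⁻¹) * y) := by group
            _ = y⁻¹ * (y * (y * x * y⁻¹)) := by rw [this]
            _ = _ := by group
        rwa [e]) ha
  have hxy : Commute x y := h.2.2.2.2.2.2.1 x hx y hy
  rw [hxy.mul_pow, pow_two, pow_two, mul_self_of_mem_elab h.1 hx, mul_self_of_mem_elab h.2.1 hy,
    one_mul]

/-- For every component of `C(b)/O(C(b))`, one of the four-groups centralizes it. -/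
theorem IsCoreSeparated.centralizes (h : Cfsg.IsCoreSeparated A₁ A₂) {b : G}
    (hb : b ∈ A₁ ⊔ A₂) (hb1 : b ≠ 1)
    {E : Subgroup (↥(centralizer ({b} : Set G)) ⧸ Cfsg.pPrimeCore 2 ↥(centralizer ({b} : Set G)))}
    (hE : Cfsg.IsComponent E) :
    barOf (centralizer ({b} : Set G)) A₁ ≤ centralizer (E : Set _) ∨
      barOf (centralizer ({b} : Set G)) A₂ ≤ centralizer (E : Set _) := by
  haveI : Fact (Nat.Prime 2) := ⟨Nat.prime_two⟩
  revert E
  set C := centralizer ({b} : Set G) with hC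
  intro E hE
  have key : ∀ B : Subgroup G,
      ⁅(Components.pComponentOver 2 E).map C.subtype, B⁆ ≤ Cfsg.centralizerPPrimeCore 2 b →
        barOf C B ≤ centralizer (E : Set _) := by
    rintro B hB _ ⟨x, hx, rfl⟩
    refine mem_centralizer_iff.2 fun e he => ?_
    rw [← Components.map_pComponentOver hE] at he
    obtain ⟨k, hk, rfl⟩ := he
    obtain ⟨z, hz, hzeq⟩ := hB (commutator_mem_commutator (mem_map_of_mem C.subtype hk) hx)
    have hzeq' : z = ⁅k, x⁆ := Subtype.ext (by simpa [commutatorElement_def] using hzeq)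
    have h1 : modCore C ⁅k, x⁆ = 1 := (QuotientGroup.eq_one_iff _).2 (hzeq' ▸ hz)
    rw [map_commutatorElement, commutatorElement_eq_one_iff_mul_comm] at h1
    exact h1
  exact (h.2.2.2.2.2.2.2 b hb hb1 _ (Components.isPComponent_pComponentOver hE)).imp
    (key A₁) (key A₂)

/-- `[C_{O_a}(e), A₁] ≤ O_e` for `e ∈ A₁`. -/
theorem commutator_le_core (h : Cfsg.IsCoreSeparated A₁ A₂) {a e : G} (ha : a ∈ A₁ ⊔ A₂)
    (ha1 : a ≠ 1) (he : e ∈ A₁) (he1 : e ≠ 1) :
    ⁅coreOf (centralizer ({a} : Set G)) ⊓ centralizer ({e} : Set G), A₁⁆ ≤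
      coreOf (centralizer ({e} : Set G)) := by
  set C := centralizer ({e} : Set G) with hC
  set Q := coreOf (centralizer ({a} : Set G)) ⊓ C with hQ
  have heA : e ∈ A₁ ⊔ A₂ := mem_sup_left he
  have hA1C : A₁ ≤ C := le_sup_left.trans (IsCoreSeparated.le_centralizer h heA)
  have haC : a ∈ C := IsCoreSeparated.le_centralizer h heA ha
  have hA1n : A₁ ≤ normalizer (Q : Set G) := by
    refine le_trans (le_inf ?_ (hA1C.trans le_normalizer)) inf_normalizer_le_normalizer_inf
    exact (le_sup_left.trans (IsCoreSeparated.le_centralizer h ha)).trans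
      (le_normalizer_coreOf _)
  have hle : ⁅Q, A₁⁆ ≤ Q := Coprime.commutator_le_of_le_normalizer hA1n
  refine le_coreOf_of_forall_component (IsCoreSeparated.orderOf_eq h ha ha1) haC
    (hle.trans inf_le_left) (hle.trans inf_le_right) fun E hE hnE hcE => ?_
  have e1 : (⁅Q, A₁⁆).subgroupOf C = ⁅Q.subgroupOf C, A₁.subgroupOf C⁆ := by
    apply Subgroup.map_injective C.subtype_injective
    rw [map_commutator, map_subgroupOf_eq_of_le (hle.trans inf_le_right),
      map_subgroupOf_eq_of_le inf_le_right, map_subgroupOf_eq_of_le hA1C]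
  rw [barOf, e1, map_commutator, commutator_le]
  rintro _ ⟨q, hq, rfl⟩ _ ⟨α, hα, rfl⟩
  have hqn : modCore C q ∈ normalizer (E : Set _) :=
    normalizes_component (IsCoreSeparated.orderOf_eq h ha ha1) haC hE (q := (q : G))
      (show (q : G) ∈ Q from hq).1 q.2
  rcases IsCoreSeparated.centralizes h heA he1 hE with hc | hc
  · rw [commutatorElement_def]
    exact mul_mem (conj_mem_centralizer hqn (hc (mem_map_of_mem _ hα)))
      (inv_mem (hc (mem_map_of_mem _ hα)))
  -- the other four-group centralizes `E`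
  obtain ⟨a₁, ha₁, a₂, ha₂, haeq⟩ := Coprime.exists_mul_of_mem_sup (N := A₁) (H := A₂)
    (fun y hy => centralizer_le_normalizer _ (mem_centralizer_iff.2 fun x hx =>
      h.2.2.2.2.2.2.1 x hx y hy)) ha
  have ha₂C : a₂ ∈ C := IsCoreSeparated.le_centralizer h heA (mem_sup_right ha₂)
  have ha₁C : a₁ ∈ C := hA1C ha₁
  have ha₂E : modCore C ⟨a₂, ha₂C⟩ ∈ centralizer (E : Set _) := hc (mem_barOf ha₂ ha₂C)
  have heE : modCore C ⟨e, hA1C he⟩ ∈ centralizer (E : Set _) := by
    refine mem_centralizer_iff.2 fun x _ => ?_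
    obtain ⟨y, rfl⟩ := QuotientGroup.mk'_surjective _ x
    rw [← map_mul, ← map_mul]
    exact congrArg _ (Subtype.ext (mem_centralizer_singleton_iff.1 y.2))
  have hnotin : a₁ ∉ zpowers e := by
    rintro ⟨i, hi⟩
    apply hcE
    have e2 : (⟨a, haC⟩ : ↥C) = ⟨e, hA1C he⟩ ^ i * ⟨a₂, ha₂C⟩ := Subtype.ext (by
      simp only [Subgroup.coe_mul, SubgroupClass.coe_zpow]
      rw [← haeq, ← hi])
    rw [e2, map_mul, map_zpow]
    exact mul_mem (zpow_mem heE i) ha₂E
  have hgen : A₁ ≤ zpowers e ⊔ zpowers a₁ := by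
    have hle4 : zpowers e ⊔ zpowers a₁ ≤ A₁ := sup_le (zpowers_le.2 he) (zpowers_le.2 ha₁)
    refine (eq_of_le_of_card_ge hle4 ?_).ge
    have hd1 : Nat.card (zpowers e) ∣ Nat.card (zpowers e ⊔ zpowers a₁ : Subgroup G) :=
      card_dvd_of_le le_sup_left
    have hd2 := card_dvd_of_le hle4
    rw [Nat.card_zpowers, IsCoreSeparated.orderOf_eq h heA he1] at hd1
    rw [h.2.2.1] at hd2 ⊢
    have hmem : Nat.card (zpowers e ⊔ zpowers a₁ : Subgroup G) ≠ 2 := fun h2 => hnotin (by
      have := eq_of_le_of_card_ge (le_sup_left : zpowers e ≤ zpowers e ⊔ zpowers a₁)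
        (by rw [h2, Nat.card_zpowers, IsCoreSeparated.orderOf_eq h heA he1])
      rw [this]
      exact mem_sup_right (mem_zpowers a₁))
    rcases (Nat.dvd_prime_pow Nat.prime_two (m := 2)).1 (by simpa using hd2) with ⟨i, hi, hieq⟩
    interval_cases i <;> simp_all
  obtain ⟨x, ⟨i, rfl⟩, y, ⟨j, rfl⟩, hxy⟩ := Coprime.exists_mul_of_mem_sup
    (N := zpowers e) (H := zpowers a₁)
    (zpowers_le.2 (centralizer_le_normalizer _ (mem_centralizer_iff.2 (by
      rintro _ ⟨i, rfl⟩
      exact ((IsCoreSeparated.commute h heA (mem_sup_left ha₁)).zpow_left i).eq))))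
    (hgen (show (α : G) ∈ A₁ from hα))
  set k : ↥C := ⟨e, hA1C he⟩ ^ i * ⟨a, haC⟩ ^ j with hk
  set c : ↥C := (⟨a₂, ha₂C⟩ ^ j)⁻¹ with hcdef
  have hαeq : α = k * c := Subtype.ext (by
    simp only [hk, hcdef, Subgroup.coe_mul, SubgroupClass.coe_zpow, InvMemClass.coe_inv]
    rw [← haeq, (IsCoreSeparated.commute h (mem_sup_left ha₁) (mem_sup_right ha₂)).mul_zpow]
    simp only at hxy
    rw [← hxy]; group)
  have hkq : Commute q k := by
    refine (Commute.zpow_right ?_ i).mul_right (Commute.zpow_right ?_ j) <;> refine Subtype.ext ?_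
    · exact mem_centralizer_singleton_iff.1 q.2
    · exact mem_centralizer_singleton_iff.1 (coreOf_le _ (show (q : G) ∈ Q from hq).1)
  have hkn : modCore C k ∈ normalizer (E : Set _) := by
    rw [hk, map_mul, map_zpow, map_zpow]
    exact mul_mem (centralizer_le_normalizer _ (zpow_mem heE i)) (zpow_mem hnE j)
  have hcc : modCore C c ∈ centralizer (E : Set _) := by
    rw [hcdef, map_inv, map_zpow]
    exact inv_mem (zpow_mem ha₂E j)
  have e3 : ⁅q, α⁆ = k * (q * c * q⁻¹ * c⁻¹) * k⁻¹ := by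
    rw [hαeq, commutatorElement_def]
    calc q * (k * c) * q⁻¹ * (k * c)⁻¹ = (q * k) * c * q⁻¹ * c⁻¹ * k⁻¹ := by group
      _ = (k * q) * c * q⁻¹ * c⁻¹ * k⁻¹ := by rw [hkq.eq]
      _ = _ := by group
  rw [← map_commutatorElement, e3, map_mul, map_mul, map_inv, map_mul, map_mul, map_mul, map_inv,
    map_inv]
  exact conj_mem_centralizer hkn (mul_mem (conj_mem_centralizer hqn hcc) (inv_mem hcc))

/-- `[O_a, B] · (O_a ∩ O(C(B)))`. -/
abbrev sepPart (B : Subgroup G) (a : G) : Subgroup G :=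
  ⁅Cfsg.centralizerPPrimeCore 2 a, B⁆ ⊔
    (Cfsg.centralizerPPrimeCore 2 a ⊓ coreOf (centralizer (B : Set G)))

theorem sepPart_le (h : Cfsg.IsCoreSeparated A₁ A₂) {a : G} (ha : a ∈ A₁ ⊔ A₂) :
    sepPart A₁ a ≤ Cfsg.centralizerPPrimeCore 2 a :=
  sup_le (Coprime.commutator_le_of_le_normalizer
    ((le_sup_left.trans (IsCoreSeparated.le_centralizer h ha)).trans (le_normalizer_coreOf _)))
    inf_le_left

theorem le_normalizer_sepPart (h : Cfsg.IsCoreSeparated A₁ A₂) {a : G} (ha : a ∈ A₁ ⊔ A₂) :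
    A₁ ⊔ A₂ ≤ normalizer (sepPart A₁ a : Set G) := by
  have hO : A₁ ⊔ A₂ ≤ normalizer ((Cfsg.centralizerPPrimeCore 2 a : Subgroup G) : Set G) :=
    (IsCoreSeparated.le_centralizer h ha).trans (le_normalizer_coreOf _)
  have hcA : A₁ ⊔ A₂ ≤ centralizer (A₁ : Set G) := fun x hx => mem_centralizer_iff.2 fun y hy =>
    IsCoreSeparated.commute h (mem_sup_left hy) hx
  refine le_trans (le_inf ?_ ?_) (normalizer_inf_normalizer_le_normalizer_sup _ _)
  · refine le_normalizer_of_conj_mem fun x hx u hu => ?_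
    have h1 : (⁅Cfsg.centralizerPPrimeCore 2 a, A₁⁆).map (MulAut.conj x).toMonoidHom =
        ⁅Cfsg.centralizerPPrimeCore 2 a, A₁⁆ := by
      rw [map_commutator]
      exact congrArg₂ _ (mem_normalizer_iff_map_conj_eq.1 (hO hx))
        (mem_normalizer_iff_map_conj_eq.1 (centralizer_le_normalizer _ (hcA hx)))
    rw [← h1]
    exact ⟨u, hu, rfl⟩
  · exact (le_inf hO (hcA.trans (le_normalizer_coreOf _))).trans inf_normalizer_le_normalizer_inf

/-- The fixed points of `A₁` in `sepPart A₁ a` lie in the core of `C(A₁)`. -/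
theorem sepPart_inf_centralizer_le (hodd : FT.OddSolvable.{u})
    (h : Cfsg.IsCoreSeparated A₁ A₂) {a : G} (ha : a ∈ A₁ ⊔ A₂) (ha1 : a ≠ 1) :
    sepPart A₁ a ⊓ centralizer (A₁ : Set G) ≤
      Cfsg.centralizerPPrimeCore 2 a ⊓ coreOf (centralizer (A₁ : Set G)) := by
  set O := Cfsg.centralizerPPrimeCore 2 a with hO
  set Y := ⁅O, A₁⁆ with hY
  have hA1O : A₁ ≤ normalizer (O : Set G) :=
    (le_sup_left.trans (IsCoreSeparated.le_centralizer h ha)).trans (le_normalizer_coreOf _)
  have hYO : Y ≤ O := Coprime.commutator_le_of_le_normalizer hA1O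
  have hA1 : IsMulCommutative A₁ :=
    isMulCommutative_of_le (IsCoreSeparated.isMulCommutative h) le_sup_left
  have hcopO : (Nat.card A₁).Coprime (Nat.card O) := by
    rw [h.2.2.1]
    exact ((coprime_card_coreOf (centralizer ({a} : Set G))).symm).pow_left 2
  have hYs : Group.IsSolvable Y := hodd Y (Nat.coprime_two_right.1
    ((coprime_card_coreOf (centralizer ({a} : Set G))).coprime_dvd_left (card_dvd_of_le hYO)))
  have hfix : Y ⊓ centralizer (A₁ : Set G) ≤ coreOf (centralizer (A₁ : Set G)) := by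
    refine (inf_centralizer_le_fixGen hA1 (normalizer_commutator_ge_right O A₁)
      (hcopO.coprime_dvd_right (card_dvd_of_le hYO)) hYs
      (Coprime.commutator_commutator_eq hA1O hcopO)).trans (iSup_le fun ⟨B, hB, g, hg, hgen⟩ => ?_)
    have hne : B ≠ ⊥ := by
      rintro rfl
      rw [bot_sup_eq] at hgen
      have h1 := card_dvd_of_le hgen
      rw [h.2.2.1, Nat.card_zpowers] at h1
      rcases eq_or_ne g 1 with rfl | hg1
      · rw [orderOf_one] at h1; norm_num at h1
      · rw [IsCoreSeparated.orderOf_eq h (mem_sup_left hg) hg1] at h1; norm_num at h1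
    obtain ⟨e, heB, he1⟩ := B.bot_or_exists_ne_one.resolve_left hne
    have hle : ⁅Y ⊓ centralizer (B : Set G), A₁⁆ ≤ coreOf (centralizer ({e} : Set G)) := by
      refine le_trans (commutator_mono ?_ le_rfl) (commutator_le_core h ha ha1 (hB heB) he1)
      exact inf_le_inf hYO (Subgroup.centralizer_le (Set.singleton_subset_iff.2 heB))
    calc _ ≤ coreOf (centralizer ({e} : Set G)) ⊓ centralizer (A₁ : Set G) :=
          le_inf (inf_le_right.trans hle) (inf_le_left.trans inf_le_right)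
      _ ≤ _ := coreOf_inf_le (Subgroup.centralizer_le (Set.singleton_subset_iff.2 (hB heB)))
  intro x hx
  have hn : O ⊓ coreOf (centralizer (A₁ : Set G)) ≤ normalizer (Y : Set G) :=
    inf_le_left.trans (normalizer_commutator_ge_left O A₁)
  obtain ⟨y, hy, c, hc, rfl⟩ := Coprime.exists_mul_of_mem_sup hn hx.1
  have hyA : y ∈ centralizer (A₁ : Set G) := by
    simpa using Subgroup.mul_mem _ hx.2 (Subgroup.inv_mem _ (coreOf_le _ hc.2))
  exact mul_mem ⟨hYO hy, hfix ⟨hy, hyA⟩⟩ hc

theorem inf_centralizer_le_core (hodd : FT.OddSolvable.{u}) (h : Cfsg.IsCoreSeparated A₁ A₂)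
    {a b : G} (ha : a ∈ A₁ ⊔ A₂) (ha1 : a ≠ 1) (hb : b ∈ A₁ ⊔ A₂)
    {E : Subgroup (↥(centralizer ({b} : Set G)) ⧸ Cfsg.pPrimeCore 2 ↥(centralizer ({b} : Set G)))}
    (hE : Cfsg.IsComponent E)
    (hc : barOf (centralizer ({b} : Set G)) A₁ ≤ centralizer (E : Set _)) :
    barOf (centralizer ({b} : Set G)) (sepPart A₁ a) ≤ centralizer (E : Set _) := by
  haveI : Fact (Nat.Prime 2) := ⟨Nat.prime_two⟩
  revert E
  set C := centralizer ({b} : Set G) with hC
  intro E hE hc
  set Q := sepPart A₁ a ⊓ C with hQ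
  have haC : a ∈ C := IsCoreSeparated.le_centralizer h hb ha
  have hA1C : A₁ ≤ C := le_sup_left.trans (IsCoreSeparated.le_centralizer h hb)
  have hA1Q : A₁ ≤ normalizer (Q : Set G) :=
    (le_inf (le_sup_left.trans (le_normalizer_sepPart h ha)) (hA1C.trans le_normalizer)).trans
      inf_normalizer_le_normalizer_inf
  have hA1 : IsMulCommutative A₁ :=
    isMulCommutative_of_le (IsCoreSeparated.isMulCommutative h) le_sup_left
  have hcop : (Nat.card A₁).Coprime (Nat.card Q) := by
    rw [h.2.2.1]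
    exact (((coprime_card_coreOf (centralizer ({a} : Set G))).coprime_dvd_left
      (card_dvd_of_le (inf_le_left.trans (sepPart_le h ha)))).symm).pow_left 2
  rintro _ ⟨x, hx, rfl⟩
  have hxQ : (x : G) ∈ Q := ⟨hx, x.2⟩
  obtain ⟨v, hv, c, hcc, hvc⟩ := exists_split hA1 hA1Q hcop le_rfl hxQ
  have hvQ : v ∈ Q := Coprime.commutator_le_of_le_normalizer hA1Q hv
  have hcC : c ∈ C := hcc.1.2
  have e1 : x = ⟨v, hvQ.2⟩ * ⟨c, hcC⟩ := Subtype.ext hvc.symm
  rw [e1, map_mul]
  refine mul_mem ?_ ?_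
  · have e2 : (⁅Q, A₁⁆).subgroupOf C = ⁅Q.subgroupOf C, A₁.subgroupOf C⁆ := by
      apply Subgroup.map_injective C.subtype_injective
      rw [map_commutator, map_subgroupOf_eq_of_le ((Coprime.commutator_le_of_le_normalizer
        hA1Q).trans inf_le_right), map_subgroupOf_eq_of_le inf_le_right,
        map_subgroupOf_eq_of_le hA1C]
    have hle : barOf C ⁅Q, A₁⁆ ≤ centralizer (E : Set _) := by
      rw [barOf, e2, map_commutator, commutator_le]
      rintro _ ⟨q, hq, rfl⟩ _ ⟨α, hα, rfl⟩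
      have hqn : modCore C q ∈ normalizer (E : Set _) :=
        normalizes_component (IsCoreSeparated.orderOf_eq h ha ha1) haC hE (q := (q : G))
          (sepPart_le h ha (show (q : G) ∈ Q from hq).1) q.2
      rw [commutatorElement_def]
      exact mul_mem (conj_mem_centralizer hqn (hc (mem_map_of_mem _ hα)))
        (inv_mem (hc (mem_map_of_mem _ hα)))
    exact hle (mem_barOf hv hvQ.2)
  · set Z := barOf C (coreOf (centralizer (A₁ : Set G))) with hZ
    have hcZ : modCore C ⟨c, hcC⟩ ∈ Z :=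
      mem_barOf (sepPart_inf_centralizer_le hodd h ha ha1 ⟨hcc.1.1, hcc.2⟩).2 hcC
    have hEZ : E ≤ normalizer (Z : Set _) := by
      have hB : IsPGroup 2 (A₁.subgroupOf C) := IsPGroup.of_card (n := 2) (by
        rw [Nat.card_congr (subgroupOfEquivOfLe hA1C).toEquiv, h.2.2.1]; norm_num)
      have h1 : E ≤ (centralizer ((A₁.subgroupOf C : Subgroup ↥C) : Set ↥C)).map (modCore C) := by
        rw [map_centralizer_modCore _ hB, le_centralizer_iff]
        exact hc
      refine h1.trans ((map_mono ?_).trans (le_normalizer_map (modCore C)))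
      refine le_trans (fun z hz => ?_) ((comap_mono (le_normalizer_coreOf
        (centralizer (A₁ : Set G)))).trans (le_normalizer_comap C.subtype))
      refine mem_centralizer_iff.2 fun u hu => ?_
      exact congrArg Subtype.val (mem_centralizer_iff.1 hz ⟨u, hA1C hu⟩ hu)
    have hZodd : (Nat.card Z).Coprime 2 :=
      ((coprime_card_coreOf (centralizer (A₁ : Set G))).coprime_dvd_left
        (card_comap_dvd_of_injective _ _ C.subtype_injective)).coprime_dvd_left (card_map_dvd _ _)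
    rcases Components.IsComponent.le_or_commutator_eq_bot_of_le_normalizer hE
      (le_sup_left : E ≤ E ⊔ Z) le_sup_right (sup_le hEZ le_normalizer) with h2 | h2
    · exact absurd (Nat.eq_one_of_dvd_coprimes hZodd
        ((Components.dvd_card_of_isComponent_quotient hE).trans (card_dvd_of_le h2)) dvd_rfl)
        (by norm_num)
    · exact mem_centralizer_iff.2 fun e he => (commute_of_commutator_eq_bot h2 he hcZ).eq

theorem inf_centralizer_le_sepPart (hodd : FT.OddSolvable.{u}) (h : Cfsg.IsCoreSeparated A₁ A₂)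
    {a b : G} (ha : a ∈ A₁ ⊔ A₂) (ha1 : a ≠ 1) (hb : b ∈ A₁ ⊔ A₂) (hb1 : b ≠ 1) :
    sepPart A₁ a ⊓ sepPart A₂ a ⊓ centralizer ({b} : Set G) ≤ sepPart A₁ b := by
  set C := centralizer ({b} : Set G) with hC
  set U := sepPart A₁ a ⊓ sepPart A₂ a ⊓ C with hU
  have h' := IsCoreSeparated.symm h
  have ha' : a ∈ A₂ ⊔ A₁ := by rwa [sup_comm]
  have hb' : b ∈ A₂ ⊔ A₁ := by rwa [sup_comm]
  have hUb : U ≤ Cfsg.centralizerPPrimeCore 2 b := by
    refine le_coreOf_of_forall_component (IsCoreSeparated.orderOf_eq h ha ha1)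
      (IsCoreSeparated.le_centralizer h hb ha)
      (inf_le_left.trans (inf_le_left.trans (sepPart_le h ha))) inf_le_right fun E hE _ _ => ?_
    rcases IsCoreSeparated.centralizes h hb hb1 hE with hc | hc
    · exact (map_mono (comap_mono (inf_le_left.trans inf_le_left))).trans
        (inf_centralizer_le_core hodd h ha ha1 hb hE hc)
    · exact (map_mono (comap_mono (inf_le_left.trans inf_le_right))).trans
        (inf_centralizer_le_core hodd h' ha' ha1 hb' hE hc)
  have hA1U : A₁ ≤ normalizer (U : Set G) := by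
    refine le_sup_left.trans ((le_inf ?_
      ((IsCoreSeparated.le_centralizer h hb).trans le_normalizer)).trans
      inf_normalizer_le_normalizer_inf)
    refine (le_inf (le_normalizer_sepPart h ha) ?_).trans inf_normalizer_le_normalizer_inf
    rw [sup_comm]
    exact le_normalizer_sepPart h' ha'
  have hA1 : IsMulCommutative A₁ :=
    isMulCommutative_of_le (IsCoreSeparated.isMulCommutative h) le_sup_left
  have hcop : (Nat.card A₁).Coprime (Nat.card U) := by
    rw [h.2.2.1]
    exact (((coprime_card_coreOf C).coprime_dvd_left (card_dvd_of_le hUb)).symm).pow_left 2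
  intro x hx
  obtain ⟨v, hv, c, hc, rfl⟩ := exists_split hA1 hA1U hcop le_rfl (show x ∈ U from hx)
  exact mul_mem_sup (commutator_mono hUb le_rfl hv)
    ⟨hUb hc.1, (sepPart_inf_centralizer_le hodd h ha ha1 ⟨hc.1.1.1, hc.2⟩).2⟩

/-- The statement of S1330, given the solvability of groups of odd order. -/
theorem core_separated_functor (hodd : FT.OddSolvable.{u}) (h : Cfsg.IsCoreSeparated A₁ A₂) :
    Cfsg.IsSignalizerFunctor 2 (A₁ ⊔ A₂) (fun a => sepPart A₁ a ⊓ sepPart A₂ a) := by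
  have h' := IsCoreSeparated.symm h
  refine ⟨fun a ha _ => inf_le_left.trans ((sepPart_le h ha).trans (coreOf_le _)),
    fun a ha _ hdvd => ?_, fun a ha _ b hb x hx => ?_, fun a ha ha1 b hb hb1 => le_inf ?_ ?_⟩
  · exact absurd (Nat.eq_one_of_dvd_coprimes (coprime_card_coreOf (centralizer ({a} : Set G)))
      (hdvd.trans (card_dvd_of_le (inf_le_left.trans (sepPart_le h ha)))) dvd_rfl) (by norm_num)
  · exact ⟨(mem_normalizer_iff.1 (le_normalizer_sepPart h ha hb) x).1 hx.1,
      (mem_normalizer_iff.1 (le_normalizer_sepPart h' (by rwa [sup_comm])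
        (by rwa [sup_comm])) x).1 hx.2⟩
  · exact inf_centralizer_le_sepPart hodd h ha ha1 hb hb1
  · simp only
    rw [inf_comm (sepPart A₁ a)]
    exact inf_centralizer_le_sepPart hodd h' (by rwa [sup_comm]) ha1 (by rwa [sup_comm]) hb1

end Main

end CfsgLib.Signalizer
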