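/-
Isolated `p`-minimal subgroups: the case of components.
-/
import Cfsg.Agent.Signalizer.IsolatedPMinimal
import Cfsg.Agent.PrimePowerClass.Main

set_option autoImplicit false

open Subgroup Cfsg
open scoped commutatorElement Pointwise

namespace CfsgLib.IsolatedPMin

universe u

/-- An element with a class of prime power size in `B⟨q⟩` centralizes the semisimple `B`. -/
theorem le_centralizer_of_index_prime_pow {X : Type u} [Group X] [Finite X] {B : Subgroup X}
    [B.Normal] {Ω : Set (Subgroup X)} (hΩ : ∀ K ∈ Ω, Cfsg.IsComponent K) (hB : B = sSup Ω)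
    {C : Subgroup X} (hCB : C ≤ B) {q : X} (hqC : C ≤ centralizer ({q} : Set X))
    {t a : ℕ} (ht : t.Prime) (hidx : C.relIndex B ∣ t ^ a) :
    q ∈ centralizer (B : Set X) := by
  haveI := Fact.mk ht
  set Z := zpowers q with hZ
  set H := B ⊔ Z with hH
  have hqH : q ∈ H := mem_sup_right (mem_zpowers q)
  set x : ↥H := ⟨q, hqH⟩ with hx
  -- the class of `x` in `H` has `t`-power size
  set C' := C ⊔ Z with hC'
  have hC'H : C' ≤ H := sup_le_sup_right hCB _
  have hdvd : C'.relIndex H ∣ t ^ a := by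
    have e : C' ⊔ B = H := by
      rw [hC', hH, sup_comm, ← sup_assoc, sup_eq_left.2 hCB]
    rw [← e, PrimePowerClass.relIndex_sup_eq]
    exact (relIndex_dvd_of_le_left B (le_sup_left : C ≤ C')).trans hidx
  have hcx : C'.subgroupOf H ≤ centralizer ({x} : Set ↥H) := by
    intro y hy
    refine mem_centralizer_singleton_iff.2 (Subtype.ext ?_)
    have : C' ≤ centralizer ({q} : Set X) := sup_le hqC (zpowers_le.2
      (mem_centralizer_singleton_iff.2 rfl))
    exact mem_centralizer_singleton_iff.1 (this hy)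
  obtain ⟨b, -, hb⟩ := (Nat.dvd_prime_pow ht).1 ((index_dvd_of_le hcx).trans hdvd)
  have hK := PrimePowerClass.commutator_mem_pCore (p := t) ⟨b, hb⟩
  -- so the normal closure of `x` is solvable
  set A := normalClosure ({x} : Set ↥H) with hA
  set π := QuotientGroup.mk' (Cfsg.pCore t ↥H) with hπ
  have hAsol : Group.IsSolvable A := by
    have hcomm : ∀ u ∈ A.map π, ∀ v ∈ A.map π, u * v = v * u := by
      have hgen : A.map π = closure (π '' Group.conjugatesOfSet ({x} : Set ↥H)) := by
        rw [hA, normalClosure, MonoidHom.map_closure]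
      have hpair : ∀ u ∈ π '' Group.conjugatesOfSet ({x} : Set ↥H),
          ∀ v ∈ π '' Group.conjugatesOfSet ({x} : Set ↥H), u * v = v * u := by
        rintro _ ⟨u, hu, rfl⟩ _ ⟨v, hv, rfl⟩
        simp only [Group.mem_conjugatesOfSet_iff, Set.mem_singleton_iff, exists_eq_left,
          isConj_iff] at hu hv
        obtain ⟨g, rfl⟩ := hu
        obtain ⟨k, rfl⟩ := hv
        have h1 := (QuotientGroup.eq_one_iff _).2 (hK g k)
        rw [← QuotientGroup.mk'_apply] at h1
        rw [← commutatorElement_eq_one_iff_mul_comm, ← map_commutatorElement]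
        simpa only [map_commutatorElement, map_mul, map_inv, commutatorElement_def] using h1
      rw [hgen]
      intro u hu v hv
      have h1 : closure (π '' Group.conjugatesOfSet ({x} : Set ↥H)) ≤
          centralizer (π '' Group.conjugatesOfSet ({x} : Set ↥H)) :=
        (closure_le _).2 fun u hu => mem_centralizer_iff.2 fun v hv => hpair v hv u hu
      rw [← centralizer_closure] at h1
      exact (mem_centralizer_iff.1 (h1 hu) v hv).symm
    let g : ↥A →* ↥(A.map π) := π.subgroupMap A
    have hker : IsPGroup t g.ker := by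
      refine IsPGroup.of_injective (PLocal.isPGroup_pCore t ↥H)
        { toFun := fun y => ⟨((y : ↥A) : ↥H), (QuotientGroup.eq_one_iff _).1
            (congrArg Subtype.val y.2)⟩
          map_one' := rfl
          map_mul' := fun _ _ => rfl } ?_
      intro y z hyz
      exact Subtype.ext (Subtype.ext (congrArg (fun w : ↥(Cfsg.pCore t ↥H) => (w : ↥H)) hyz))
    haveI : Group.IsNilpotent g.ker := hker.isNilpotent
    haveI : Group.IsSolvable ↥(A.map π) :=
      Group.isSolvable_of_comm fun u v => Subtype.ext (hcomm u u.2 v v.2)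
    exact Group.isSolvable_of_ker_le_range g.ker.subtype g (by rw [range_subtype])
  -- `B` centralizes the solvable normal subgroup `A ⊓ B`
  haveI : (B.subgroupOf H).Normal := Normal.comap inferInstance _
  set N1 := (A ⊓ B.subgroupOf H).map H.subtype with hN1
  have hN1s : Group.IsSolvable N1 :=
    Components.isSolvable_map _ (Components.isSolvable_mono hAsol inf_le_left)
  have hN1n : B ≤ normalizer (N1 : Set X) := by
    refine (le_sup_left : B ≤ H).trans ?_
    haveI : A.Normal := normalClosure_normal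
    haveI : (A ⊓ B.subgroupOf H).Normal := Subgroup.normal_inf_normal _ _
    have := le_normalizer_map (H := A ⊓ B.subgroupOf H) H.subtype
    rwa [normalizer_eq_top, ← MonoidHom.range_eq_map, range_subtype] at this
  have hBN : ⁅B, N1⁆ = ⊥ := by
    rw [commutator_eq_bot_iff_le_centralizer]
    conv_lhs => rw [hB]
    exact sSup_le fun K hKΩ => commutator_eq_bot_iff_le_centralizer.1
      (Components.IsComponent.commutator_eq_bot_of_isSolvable (hΩ K hKΩ) hN1s
        ((hB ▸ le_sSup hKΩ).trans hN1n))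
  have hBZ : ⁅B, Z⁆ ≤ N1 := by
    refine commutator_le.2 fun y hy z hz => ?_
    have hzA : (⟨z, mem_sup_right hz⟩ : ↥H) ∈ A := by
      obtain ⟨i, rfl⟩ := hz
      exact zpow_mem (subset_normalClosure (Set.mem_singleton x)) i
    refine ⟨⁅(⟨y, mem_sup_left hy⟩ : ↥H), ⟨z, mem_sup_right hz⟩⁆, ⟨?_, ?_⟩, rfl⟩
    · rw [commutatorElement_def]
      exact A.mul_mem (normalClosure_normal.conj_mem _ hzA _) (A.inv_mem hzA)
    · show ⁅y, z⁆ ∈ B
      rw [commutatorElement_def, mul_assoc, mul_assoc, ← mul_assoc z]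
      exact mul_mem hy (Normal.conj_mem inferInstance _ (inv_mem hy) z)
  have h1 : ⁅⁅B, Z⁆, B⁆ = ⊥ := by
    rw [commutator_comm]; exact eq_bot_iff.2 ((commutator_mono le_rfl hBZ).trans hBN.le)
  have h2 : ⁅⁅Z, B⁆, B⁆ = ⊥ := by rwa [commutator_comm Z B]
  have h3 := commutator_commutator_eq_bot_of_rotate h1 h2
  have hperf : B ≤ ⁅B, B⁆ := by
    conv_lhs => rw [hB]
    refine sSup_le fun K hKΩ => ?_
    calc K = ⁅K, K⁆ := (Components.IsComponent.commutator_eq_self (hΩ K hKΩ)).symm
      _ ≤ _ := commutator_mono (hB ▸ le_sSup hKΩ) (hB ▸ le_sSup hKΩ)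
  have h4 : ⁅B, Z⁆ = ⊥ := eq_bot_iff.2 ((commutator_mono hperf le_rfl).trans h3.le)
  rw [commutator_comm, commutator_eq_bot_iff_le_centralizer] at h4
  exact h4 (mem_zpowers q)

namespace Isolated

variable {G : Type u} [Group G] [Finite G] {p : ℕ} [Fact p.Prime]
  {S : Sylow p G} {P L : Subgroup G}

/-- The layer case: the normal closure of `O^p(P)` is a single `S`-orbit of components modulo
`O_p(G)`, and `p` divides its order. -/
theorem layer_case (h : Isolated S P L)
    (hE : (LocalStructure.pResOf p P).map (modP p G) ≤ layer (G ⧸ Cfsg.pCore p G))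
    (hF : fittingSubgroup (G ⧸ Cfsg.pCore p G) ≤
      centralizer (((pCoreOf p L).map (modP p G) : Subgroup _) : Set (G ⧸ Cfsg.pCore p G))) :
    ∃ Ω : Set (Subgroup (G ⧸ Cfsg.pCore p G)), (∀ K ∈ Ω, Cfsg.IsComponent K) ∧
      (normalClosure (LocalStructure.pResOf p P : Set G)).map (modP p G) = sSup Ω ∧
      p ∣ Nat.card (sSup Ω : Subgroup (G ⧸ Cfsg.pCore p G)) ∧
      ∀ K₁ ∈ Ω, ∀ K₂ ∈ Ω, ∃ s ∈ (S : Subgroup G),
        K₂ = K₁.map (MulAut.conj (modP p G s)).toMonoidHom := by
  set X := G ⧸ Cfsg.pCore p G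
  set π := modP p G with hπ
  set Q := (pCoreOf p L).map π with hQ
  set R := (LocalStructure.pResOf p P).map π with hR
  set S' := (S : Subgroup G).map π with hS'
  have hSQ : S' ≤ normalizer (Q : Set X) :=
    (map_mono h.sylow_le_L).trans (bar_le_normalizer_core L)
  -- a component moved by `Q`
  obtain ⟨K₀, hK₀, hK₀Q⟩ : ∃ K : Subgroup X, Cfsg.IsComponent K ∧ ¬ ⁅K, Q⁆ = ⊥ := by
    by_contra hall
    push_neg at hall
    exact h.not_commute_res (commutator_eq_bot_iff_le_centralizer.2 (hE.trans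
      (sSup_le fun K hK => commutator_eq_bot_iff_le_centralizer.1 (hall K hK))))
  set orb : Subgroup X → Set (Subgroup X) :=
    fun K => {M | ∃ s ∈ S', K.map (MulAut.conj s).toMonoidHom = M} with horb
  have hcomp : ∀ {K}, Cfsg.IsComponent K → ∀ M ∈ orb K, Cfsg.IsComponent M := by
    rintro K hK M ⟨s, -, rfl⟩
    exact Components.IsComponent.conj hK s
  have hconj : ∀ (K : Subgroup X) (a b : X),
      (K.map (MulAut.conj b).toMonoidHom).map (MulAut.conj a).toMonoidHom =
        K.map (MulAut.conj (a * b)).toMonoidHom := by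
    intro K a b
    rw [Subgroup.map_map]
    congr 1
    ext z; simp [mul_assoc]
  have hself : ∀ K, K ∈ orb K := fun K => ⟨1, one_mem _, by
    rw [map_one]; exact Subgroup.map_id K⟩
  have horbn : ∀ K, S' ≤ normalizer ((sSup (orb K) : Subgroup X) : Set X) := by
    intro K
    refine fun s hs => mem_normalizer_iff_map_conj_eq.2 (le_antisymm ?_ ?_)
    · rw [map_le_iff_le_comap]
      refine sSup_le ?_
      rintro M ⟨r, hr, rfl⟩
      exact map_le_iff_le_comap.1 ((hconj K s r).le.trans (le_sSup ⟨_, mul_mem hs hr, rfl⟩))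
    · refine sSup_le ?_
      rintro M ⟨r, hr, rfl⟩
      have e : (K.map (MulAut.conj (s⁻¹ * r)).toMonoidHom).map (MulAut.conj s).toMonoidHom =
          K.map (MulAut.conj r).toMonoidHom := by
        rw [hconj, mul_inv_cancel_left]
      rw [← e]
      exact map_mono (le_sSup ⟨_, mul_mem (inv_mem hs) hr, rfl⟩)
  have hQconj : ∀ {K : Subgroup X} {g : X}, g ∈ normalizer (Q : Set X) → ¬ ⁅K, Q⁆ = ⊥ →
      ¬ ⁅K.map (MulAut.conj g).toMonoidHom, Q⁆ = ⊥ := by
    intro K g hg hne he
    apply hne
    have e : Q = Q.map (MulAut.conj g).toMonoidHom := (mem_normalizer_iff_map_conj_eq.1 hg).symm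
    rw [e, ← map_commutator, Subgroup.map_eq_bot_iff_of_injective _ (MulEquiv.injective _)] at he
    exact he
  -- every orbit of moved components contains `R`
  have hRle : ∀ {K : Subgroup X}, Cfsg.IsComponent K → ¬ ⁅K, Q⁆ = ⊥ → R ≤ sSup (orb K) := by
    intro K hK hne
    have hsn : (sSup (orb K) : Subgroup X).IsSubnormal := by
      refine IsSubnormal.step _ (layer X)
        (sSup_le fun M hM => Components.IsComponent.le_layer (hcomp hK M hM))
        (Normal.isSubnormal inferInstance) (normal_subgroupOf_of_le_normalizer ?_)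
      exact Components.layer_le_normalizer_sSup fun M hM => hcomp hK M hM
    refine (h.bar_dichotomy_subnormal (horbn K) hsn).resolve_right fun he => hne ?_
    exact eq_bot_iff.2 ((commutator_mono (le_sSup (hself K)) le_rfl).trans he.le)
  set Ω := orb K₀ with hΩ
  set B := (sSup Ω : Subgroup X) with hB
  have hRB : R ≤ B := hRle hK₀ hK₀Q
  have hΩmem : ∀ {K : Subgroup X}, Cfsg.IsComponent K → ¬ ⁅K, Q⁆ = ⊥ → K ∈ Ω := by
    intro K hK hne
    by_contra hn
    have hR1 := hRle hK hne
    have hdisj : ∀ M ∈ orb K, M ∉ Ω := by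
      rintro _ ⟨s, hs, rfl⟩ ⟨r, hr, hrs⟩
      apply hn
      refine ⟨s⁻¹ * r, mul_mem (inv_mem hs) hr, ?_⟩
      rw [← hconj, hrs, hconj, inv_mul_cancel, map_one]
      exact Subgroup.map_id K
    have hcen : layer X ≤ centralizer (R : Set X) := by
      refine sSup_le fun M hM => ?_
      rw [le_centralizer_iff]
      by_cases hMΩ : M ∈ Ω
      · exact hR1.trans (Components.sSup_le_centralizer_of_notMem (fun _ hJ => hcomp hK _ hJ)
          hM fun hc => hdisj M hc hMΩ)
      · exact hRB.trans (Components.sSup_le_centralizer_of_notMem (fun _ hJ => hcomp hK₀ _ hJ)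
          hM hMΩ)
    haveI : (layer X ⊓ centralizer (layer X : Set X)).Normal := by
      haveI : (centralizer (layer X : Set X)).Normal := normal_centralizer
      exact Subgroup.normal_inf_normal _ _
    exact h.not_le_abelian hF (A := layer X ⊓ centralizer (layer X : Set X))
      (inf_le_right.trans (centralizer_le (SetLike.coe_subset_coe.2 inf_le_left)))
      (le_inf hE (le_centralizer_iff.1 hcen))
  have hΩne : ∀ K ∈ Ω, ¬ ⁅K, Q⁆ = ⊥ := by
    rintro _ ⟨s, hs, rfl⟩
    exact hQconj (hSQ hs) hK₀Q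
  -- `B` is normal
  haveI hBn : B.Normal := by
    rw [← normalizer_eq_top_iff, eq_top_iff, ← map_top_of_surjective π
      (QuotientGroup.mk'_surjective _), ← h.sup_eq_top, Subgroup.map_sup]
    have hle : ∀ l ∈ L.map π, B.map (MulAut.conj l).toMonoidHom ≤ B := by
      intro l hl
      rw [map_le_iff_le_comap]
      refine sSup_le fun M hM => ?_
      rw [← map_le_iff_le_comap]
      exact le_sSup (hΩmem (Components.IsComponent.conj (hcomp hK₀ M hM) l)
        (hQconj (bar_le_normalizer_core L hl) (hΩne M hM)))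
    have hL' : L.map π ≤ normalizer (B : Set X) := fun l hl =>
      mem_normalizer_iff_map_conj_eq.2 (eq_of_le_of_card_ge (hle l hl)
        (card_map_of_injective (MulEquiv.injective _)).ge)
    refine sup_le hL' ((map_mono h.le_sylow_sup_res).trans ?_)
    rw [Subgroup.map_sup]
    exact sup_le (horbn K₀) (hRB.trans le_normalizer)
  -- `Y = B`
  set Y := (normalClosure (LocalStructure.pResOf p P : Set G)).map π with hY
  haveI : Y.Normal := Normal.map inferInstance _ (QuotientGroup.mk'_surjective _)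
  have hYB : Y ≤ B := h.bar_normalClosure_le hRB
  have hBY : B ≤ Y := by
    by_contra hn
    have hall : ∀ M ∈ Ω, ⁅M, Y⁆ = ⊥ := by
      intro M hM
      refine (Components.IsComponent.le_or_commutator_eq_bot_of_normal (hcomp hK₀ M hM)
        Y).resolve_left fun hle => hn (sSup_le ?_)
      obtain ⟨r, hr, rfl⟩ := hM
      rintro _ ⟨s, hs, rfl⟩
      have e : K₀.map (MulAut.conj s).toMonoidHom =
          (K₀.map (MulAut.conj r).toMonoidHom).map (MulAut.conj (s * r⁻¹)).toMonoidHom := by
        rw [hconj, inv_mul_cancel_right]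
      rw [e]
      rintro _ ⟨y, hy, rfl⟩
      exact Normal.conj_mem inferInstance y (hle hy) _
    have hc : B ≤ centralizer (Y : Set X) :=
      sSup_le fun M hM => commutator_eq_bot_iff_le_centralizer.1 (hall M hM)
    exact h.not_le_abelian hF (hYB.trans hc) (map_mono le_normalClosure)
  refine ⟨Ω, fun M hM => hcomp hK₀ M hM, le_antisymm hYB hBY, ?_, ?_⟩
  swap
  · rintro _ ⟨r₁, hr₁, rfl⟩ _ ⟨r₂, hr₂, rfl⟩
    obtain ⟨s, hs, hse⟩ := mul_mem hr₂ (inv_mem hr₁)
    refine ⟨s, hs, ?_⟩
    rw [hse, hconj, inv_mul_cancel_right]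
  -- `p` divides `|B|`
  by_contra hpd
  have hS'p : IsPGroup p S' := S.2.map π
  have hcopB : (Nat.card S').Coprime (Nat.card B) := by
    obtain ⟨n, hn⟩ := IsPGroup.iff_card.1 hS'p
    rw [hn]
    exact ((Nat.Prime.coprime_iff_not_dvd Fact.out).2 hpd).pow_left n
  have hS'sol : Group.IsSolvable S' := by
    haveI := hS'p.isNilpotent
    infer_instance
  have hQS : Q ≤ S' := h.bar_core_le
  set C := B ⊓ centralizer (Q : Set X) with hC
  -- Sylow subgroups of `B` not containing `R` lie in `C`
  have hsyl : ∀ r : ℕ, r.Prime → r ∣ C.relIndex B →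
      ∃ T : Subgroup X, IsPGroup r T ∧ R ≤ T := by
    intro r hr hdvd
    haveI := Fact.mk hr
    obtain ⟨T, hT⟩ := Coprime.exists_invariant_sylow (G := B) (A := S') (horbn K₀) hcopB
      (Or.inl hS'sol) r
    refine ⟨(T : Subgroup ↥B).map B.subtype, T.2.map _, ?_⟩
    refine (h.bar_dichotomy hT).resolve_right fun hle => ?_
    set T' := (T : Subgroup ↥B).map B.subtype with hT'
    have hTC : T' ≤ C := by
      refine le_inf (map_subtype_le _) (commutator_eq_bot_iff_le_centralizer.1 ?_)
      have hTL : T' ≤ L.map π := by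
        rw [← map_comap_eq_self_of_surjective (QuotientGroup.mk'_surjective _) T']
        exact map_mono hle
      have h1 : ⁅T', Q⁆ ≤ Q :=
        le_normalizer_iff_commutator_le_right.1 (hTL.trans (bar_le_normalizer_core L))
      have h2 : ⁅T', Q⁆ ≤ B := (commutator_mono (map_subtype_le _) le_rfl).trans
        (le_normalizer_iff_commutator_le_left.1 le_normalizer_of_normal)
      rw [eq_bot_iff, ← Coprime.inf_eq_bot_of_coprime
        (hcopB.coprime_dvd_left (card_dvd_of_le hQS))]
      exact le_inf h1 h2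
    have h3 : (C.subgroupOf B).index ∣ (T : Subgroup ↥B).index := by
      refine index_dvd_of_le fun y hy => ?_
      exact mem_subgroupOf.2 (hTC (mem_map_of_mem _ hy))
    exact T.not_dvd_index (hdvd.trans h3)
  have hidx : ∃ t a, t.Prime ∧ C.relIndex B ∣ t ^ a := by
    by_cases h1 : C.relIndex B = 1
    · exact ⟨2, 0, Nat.prime_two, by rw [h1, pow_zero]⟩
    obtain ⟨t, ht, htd⟩ := Nat.exists_prime_and_dvd h1
    refine ⟨t, (C.relIndex B).primeFactorsList.length, ht, ?_⟩
    have huniq : ∀ {d : ℕ}, d.Prime → d ∣ C.relIndex B → d = t := by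
      intro d hd hdd
      by_contra hne
      obtain ⟨T₁, hT₁, hRT₁⟩ := hsyl d hd hdd
      obtain ⟨T₂, hT₂, hRT₂⟩ := hsyl t ht htd
      have : R ≤ ⊥ := (le_inf hRT₁ hRT₂).trans
        (Coprime.inf_eq_bot_of_coprime (coprime_of_isPGroup hd ht hne hT₁ hT₂)).le
      exact h.not_commute_res (eq_bot_iff.2 ((commutator_mono this le_rfl).trans
        (commutator_bot_left Q).le))
    exact (Nat.eq_prime_pow_of_unique_prime_dvd (Nat.pos_of_ne_zero (by
      rw [relIndex]; exact index_ne_zero_of_finite)).ne' huniq).dvd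
  obtain ⟨t, a, ht, hdvd⟩ := hidx
  apply hK₀Q
  refine eq_bot_iff.2 ((commutator_mono (le_sSup (hself K₀)) le_rfl).trans
    (commutator_eq_bot_iff_le_centralizer.2 (le_centralizer_iff.1 fun q hq => ?_)).le)
  exact le_centralizer_of_index_prime_pow (fun M hM => hcomp hK₀ M hM) hB
    (inf_le_left : C ≤ B) (inf_le_right.trans (centralizer_le (Set.singleton_subset_iff.2 hq)))
    ht hdvd

/-- The second half of S3044. -/
theorem structure_cases (h : Isolated S P L) (Y : Subgroup G)
    (hY : Y = normalClosure (LocalStructure.pResOf p P : Set G)) :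
    LocalStructure.pResOf p P = Y ∨
      ∃ _ : (Cfsg.pCore p ↥Y).Normal,
        p ∣ Nat.card (↥Y ⧸ Cfsg.pCore p ↥Y) ∧ layer (↥Y ⧸ Cfsg.pCore p ↥Y) = ⊤ ∧
        ∀ K₁ K₂ : Subgroup (↥Y ⧸ Cfsg.pCore p ↥Y), Cfsg.IsComponent K₁ → Cfsg.IsComponent K₂ →
          ∃ s ∈ (S : Subgroup G),
            ((K₂.comap (QuotientGroup.mk' (Cfsg.pCore p ↥Y))).map Y.subtype) =
              (((K₁.comap (QuotientGroup.mk' (Cfsg.pCore p ↥Y))).map Y.subtype)).map
                (MulAut.conj s).toMonoidHom := by
  rcases h.cases with ⟨t, ht, hR⟩ | ⟨hE, hF⟩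
  · exact Or.inl ((h.quotient_facts ht hR).2 Y hY).1
  right
  obtain ⟨Ω, hΩ, hΩY, hdvd, htrans⟩ := h.layer_case hE hF
  haveI : Y.Normal := hY ▸ normalClosure_normal
  refine ⟨instPCoreNormal p _, ?_⟩
  rw [← hY] at hΩY
  set π := modP p G with hπ
  set B := Y.map π with hB
  have hBΩ : B = sSup Ω := hΩY
  haveI : B.Normal := Normal.map inferInstance _ (QuotientGroup.mk'_surjective _)
  let ψ : ↥Y →* ↥B := π.subgroupMap Y
  have hψ : Function.Surjective ψ := π.subgroupMap_surjective Y
  have hker : ψ.ker = Cfsg.pCore p ↥Y := by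
    apply Subgroup.map_injective Y.subtype_injective
    rw [PLocal.pCore_map_subtype_eq]
    ext y
    constructor
    · rintro ⟨z, hz, rfl⟩
      exact ⟨z.2, (QuotientGroup.eq_one_iff _).1 (congrArg Subtype.val hz)⟩
    · rintro ⟨hy, hyO⟩
      exact ⟨⟨y, hy⟩, Subtype.ext ((QuotientGroup.eq_one_iff _).2 hyO), rfl⟩
  let e : ↥Y ⧸ Cfsg.pCore p ↥Y ≃* ↥B := (QuotientGroup.quotientMulEquivOfEq hker.symm).trans
    (QuotientGroup.quotientKerEquivOfSurjective ψ hψ)
  have he : ∀ y : ↥Y, ((e (QuotientGroup.mk' _ y) : ↥B) : G ⧸ Cfsg.pCore p G) = π y := fun _ => rfl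
  refine ⟨?_, ?_, ?_⟩
  · rw [Nat.card_congr e.toEquiv, hBΩ]; exact hdvd
  · apply Subgroup.map_injective (f := e.toMonoidHom) e.injective
    rw [Components.map_layer_equiv e, map_top_of_surjective _ e.surjective, eq_top_iff,
      ← map_le_map_iff_of_injective B.subtype_injective, ← MonoidHom.range_eq_map, range_subtype]
    conv_lhs => rw [hBΩ]
    exact sSup_le fun K hK => Components.IsComponent.le_layer_map_subtype (hΩ K hK)
      (hBΩ ▸ le_sSup hK)
  · intro K₁ K₂ hK₁ hK₂
    have himg : ∀ {K : Subgroup (↥Y ⧸ Cfsg.pCore p ↥Y)}, Cfsg.IsComponent K →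
        (K.map e.toMonoidHom).map B.subtype ∈ Ω := fun hK =>
      Components.IsComponent.mem_of_le_sSup hΩ
        ((Components.isComponent_map_subtype (Normal.isSubnormal inferInstance) _).1
          (Components.IsComponent.map_equiv hK e))
        (hBΩ ▸ map_subtype_le _)
    obtain ⟨s, hs, hse⟩ := htrans _ (himg hK₁) _ (himg hK₂)
    refine ⟨s, hs, ?_⟩
    have hpre : ∀ K : Subgroup (↥Y ⧸ Cfsg.pCore p ↥Y), ∀ g : G,
        g ∈ (K.comap (QuotientGroup.mk' (Cfsg.pCore p ↥Y))).map Y.subtype ↔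
          g ∈ Y ∧ π g ∈ (K.map e.toMonoidHom).map B.subtype := by
      intro K g
      constructor
      · rintro ⟨y, hy, rfl⟩
        exact ⟨y.2, _, ⟨_, hy, rfl⟩, he y⟩
      · rintro ⟨hg, b, ⟨k, hk, rfl⟩, hbe⟩
        refine ⟨⟨g, hg⟩, ?_, rfl⟩
        have : k = QuotientGroup.mk' _ (⟨g, hg⟩ : ↥Y) :=
          e.injective (Subtype.ext (hbe.trans (he ⟨g, hg⟩).symm))
        show QuotientGroup.mk' _ (⟨g, hg⟩ : ↥Y) ∈ K
        rw [← this]
        exact hk
    ext g
    rw [hpre, hse]
    constructor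
    · rintro ⟨hg, z, hz, hzg⟩
      refine ⟨s⁻¹ * g * s, (hpre K₁ _).2 ⟨by simpa using Normal.conj_mem inferInstance g hg s⁻¹,
        ?_⟩, by simp [mul_assoc]⟩
      have : π (s⁻¹ * g * s) = z := by
        rw [map_mul, map_mul, map_inv, ← hzg]
        simp [mul_assoc, hπ]
      rwa [this]
    · rintro ⟨g', hg', rfl⟩
      obtain ⟨hgY, hgK⟩ := (hpre K₁ g').1 hg'
      exact ⟨Normal.conj_mem inferInstance g' hgY s, π g', hgK, by simp [hπ]⟩

end Isolated

end CfsgLib.IsolatedPMin
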