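/-
Bender's theorem for primitive pairs: two subgroups forming a primitive pair, each containing the
generalized Fitting subgroup of the other, have a single common prime in their generalized Fitting
subgroups.  The proof follows `CfsgLib.Signalizer.bender_maximal`.
-/
import Cfsg.Agent.Signalizer.Bender

set_option autoImplicit false

open Subgroup
open scoped Pointwise

namespace CfsgLib.Signalizer

variable {G : Type*} [Group G]

/-- One half of the definition of a primitive pair. -/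
def PairHalf (M N : Subgroup G) : Prop :=
  ∀ W : Subgroup G, W ≠ ⊥ → W ≤ M ⊓ N → M ≤ normalizer (W : Set G) →
    N ⊓ normalizer (W : Set G) ≤ M

theorem eq_bot_of_pair {M N W : Subgroup G} (hM : PairHalf M N) (hN : PairHalf N M) (hMN : M ≠ N)
    (hW : W ≤ M ⊓ N) (h1 : M ≤ normalizer (W : Set G)) (h2 : N ≤ normalizer (W : Set G)) :
    W = ⊥ := by
  by_contra hne
  exact hMN (le_antisymm ((le_inf le_rfl h1).trans (hN W hne (inf_comm M N ▸ hW) h2))
    ((le_inf le_rfl h2).trans (hM W hne hW h1)))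

theorem nontrivial_of_pair [Finite G] {M N : Subgroup G} (hMN : M ≠ N)
    (h2 : (Cfsg.generalizedFittingSubgroup N).map N.subtype ≤ M) : Nontrivial M := by
  rw [Subgroup.nontrivial_iff_ne_bot]
  rintro rfl
  refine hMN (Eq.symm (le_bot_iff.mp fun x hx => ?_))
  have hbot : Cfsg.generalizedFittingSubgroup N = ⊥ :=
    (map_eq_bot_iff_of_injective _ N.subtype_injective).mp (le_bot_iff.mp h2)
  have hm : (⟨x, hx⟩ : N) ∈ Cfsg.generalizedFittingSubgroup N := by
    have h0 := Components.centralizer_generalizedFitting_le_self (G := N)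
    refine h0 ?_
    rw [hbot]
    exact mem_centralizer_iff.mpr fun y hy => by
      rw [Subgroup.mem_bot.mp hy, one_mul, mul_one]
  rw [hbot, Subgroup.mem_bot] at hm
  exact Subgroup.mem_bot.mpr (congrArg Subtype.val hm)

/-- The main step: `O_p(N) ≤ O_p(M)` as soon as `O_q(N) ≠ 1` for some prime `q ≠ p`. -/
theorem pCoreOf_le_pCoreOf_pair [Finite G] {M N : Subgroup G}
    (hP : PairHalf N M)
    (hE : Cfsg.layer M = ⊥) (h1 : ∀ r : Nat.Primes, Cfsg.pCoreOf (r : ℕ) M ≤ N)
    (h2 : ∀ r : Nat.Primes, Cfsg.pCoreOf (r : ℕ) N ≤ M) (p q : Nat.Primes) (hpq : p ≠ q)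
    (hq : Cfsg.pCoreOf (q : ℕ) N ≠ ⊥) :
    Cfsg.pCoreOf (p : ℕ) N ≤ Cfsg.pCoreOf (p : ℕ) M := by
  haveI := Fact.mk p.2
  haveI := Fact.mk q.2
  have hpq' : (p : ℕ) ≠ q := fun h => hpq (Subtype.ext h)
  set S : Set G := {h | h ∈ M ∧ (orderOf h).Coprime (q : ℕ) ∧
    ∀ r : Nat.Primes, r ≠ p → ∀ x ∈ Cfsg.pCoreOf (r : ℕ) M, Commute x h} with hS
  have hconj : ∀ g ∈ M, ∀ h ∈ S, g * h * g⁻¹ ∈ S := by
    rintro g hg h ⟨hhM, ho, hc⟩
    refine ⟨mul_mem (mul_mem hg hhM) (inv_mem hg), ?_, fun r hr x hx => ?_⟩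
    · rwa [← MulAut.conj_apply, MulEquiv.orderOf_eq]
    · have hx' : g⁻¹ * x * g⁻¹⁻¹ ∈ Cfsg.pCoreOf (r : ℕ) M := conj_mem_pCoreOf (inv_mem hg) hx
      have := (hc r hr _ hx').map (MulAut.conj g).toMonoidHom
      simpa [mul_assoc] using this
  have hKM : closure S ≤ M := (closure_le _).mpr fun h hh => hh.1
  have hMK : M ≤ normalizer (closure S : Set G) := by
    have key : ∀ g ∈ M, ∀ x ∈ closure S, g * x * g⁻¹ ∈ closure S := fun g hg x hx => by
      have hle : closure S ≤ (closure S).comap (MulAut.conj g).toMonoidHom :=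
        (closure_le _).mpr fun h hh => subset_closure (hconj g hg h hh)
      exact hle hx
    refine fun g hg => mem_normalizer_iff.mpr fun x => ⟨key g hg x, fun h => ?_⟩
    simpa [mul_assoc] using key g⁻¹ (inv_mem hg) _ h
  -- the generators centralize `O_q(N)`
  have hcomm : ∀ h ∈ S, ∀ y ∈ Cfsg.pCoreOf (q : ℕ) N, Commute h y := by
    rintro h ⟨hhM, ho, hc⟩ y hy
    have hyM : y ∈ M := h2 q hy
    set P := Cfsg.pCoreOf (q : ℕ) M
    set C : Subgroup G := ⨆ r : {r : Nat.Primes // r ≠ q}, Cfsg.pCoreOf ((r.1 : ℕ)) M with hC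
    set w := h * y * h⁻¹ * y⁻¹ with hw
    have hwM : w ∈ M := mul_mem (mul_mem (mul_mem hhM hyM) (inv_mem hhM)) (inv_mem hyM)
    have hwF : w ∈ fittingOf M := by
      refine mem_fittingOf_of_commute hE hwM fun r x hx => ?_
      by_cases hr : r = q
      · subst hr
        have hhx : Commute x h := hc r (Ne.symm hpq) x hx
        have hhx' : Commute (y⁻¹ * x * y⁻¹⁻¹) h :=
          hc r (Ne.symm hpq) _ (conj_mem_pCoreOf (inv_mem hyM) hx)
        rw [inv_inv] at hhx'
        show x * w = w * x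
        have e1 : h⁻¹ * (y⁻¹ * x * y) * h = y⁻¹ * x * y := by
          rw [mul_assoc, hhx'.eq]; group
        calc x * w = h * (h⁻¹ * x * h) * y * h⁻¹ * y⁻¹ := by rw [hw]; group
          _ = h * x * y * h⁻¹ * y⁻¹ := by rw [mul_assoc h⁻¹, hhx.eq, inv_mul_cancel_left]
          _ = h * y * (y⁻¹ * x * y) * h⁻¹ * y⁻¹ := by group
          _ = h * y * (h⁻¹ * (y⁻¹ * x * y) * h) * h⁻¹ * y⁻¹ := by rw [e1]
          _ = w * x := by rw [hw]; group
      · haveI := Fact.mk r.2
        have hrq : (r : ℕ) ≠ q := fun h' => hr (Subtype.ext h')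
        have hy1 : Commute x y := commute_cross hrq (h1 r) (h2 q) hx hy
        have hy2 : Commute x (h * y * h⁻¹) := by
          have := (commute_cross hrq (h1 r) (h2 q) (conj_mem_pCoreOf (inv_mem hhM) hx) hy).map
            (MulAut.conj h).toMonoidHom
          simpa [mul_assoc] using this
        exact hy2.mul_right hy1.inv_right
    have hCP : ∀ c ∈ C, ∀ a ∈ P, Commute c a := by
      intro c hc' a ha
      have hle : C ≤ centralizer {a} := iSup_le fun r z hz => by
        haveI := Fact.mk r.1.2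
        exact mem_centralizer_singleton_iff.mpr
          (commute_pCoreOf M (fun h' => r.2 (Subtype.ext h')) hz ha).eq
      exact mem_centralizer_singleton_iff.mp (hle hc')
    have hCy : ∀ c ∈ C, Commute c y := by
      intro c hc'
      have hle : C ≤ centralizer {y} := iSup_le fun r z hz => by
        haveI := Fact.mk r.1.2
        exact mem_centralizer_singleton_iff.mpr
          (commute_cross (fun h' => r.2 (Subtype.ext h')) (h1 r.1) (h2 q) hz hy).eq
      exact mem_centralizer_singleton_iff.mp (hle hc')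
    have hFPC : fittingOf M ≤ P ⊔ C := by
      rw [fittingOf_eq_iSup]
      refine iSup_le fun r => ?_
      by_cases hr : r = q
      · subst hr; exact le_sup_left
      · exact le_sup_of_le_right
          (le_iSup (fun s : {s : Nat.Primes // s ≠ q} => Cfsg.pCoreOf ((s.1 : ℕ)) M) ⟨r, hr⟩)
    have hPC : P ≤ normalizer (C : Set G) := fun a ha =>
      centralizer_le_normalizer _ (mem_centralizer_iff.mpr fun c hc' => (hCP c hc' a ha).eq)
    obtain ⟨a, ha, c, hc', hwac⟩ : w ∈ (P : Set G) * (C : Set G) := by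
      rw [← coe_mul_of_left_le_normalizer_right P C hPC]; exact hFPC hwF
    change a * c = w at hwac
    -- the part outside `O_q(M)` is a commuting product of `q`-elements
    have hay : a * y ∈ P ⊔ Cfsg.pCoreOf (q : ℕ) N := mul_mem_sup ha hy
    have hT : IsPGroup (q : ℕ) (P ⊔ Cfsg.pCoreOf (q : ℕ) N : Subgroup G) :=
      (LocalStructure.pCoreOf_isPGroup M).to_sup_of_normal_left'
        (LocalStructure.pCoreOf_isPGroup N) ((h2 q).trans (LocalStructure.le_normalizer_pCoreOf M))
    obtain ⟨k₁, hk₁⟩ := hT ⟨_, hay⟩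
    obtain ⟨k₂, hk₂⟩ := (LocalStructure.pCoreOf_isPGroup (p := (q : ℕ)) N) ⟨y, hy⟩
    have hk₁' : (a * y) ^ (q : ℕ) ^ k₁ = 1 := by simpa using congrArg Subtype.val hk₁
    have hk₂' : (h * y * h⁻¹) ^ (q : ℕ) ^ k₂ = 1 := by
      rw [conj_pow, show y ^ (q : ℕ) ^ k₂ = 1 by simpa using congrArg Subtype.val hk₂]
      simp
    have hce : c = (h * y * h⁻¹) * (a * y)⁻¹ := by
      have : h * y * h⁻¹ = c * (a * y) := by
        rw [← mul_assoc, (hCP c hc' a ha).eq, hwac, hw]; group
      rw [this]; group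
    have hcay : Commute c (a * y) := (hCP c hc' a ha).mul_right (hCy c hc')
    have hcom : Commute (h * y * h⁻¹) (a * y)⁻¹ := by
      have : h * y * h⁻¹ = c * (a * y) := by rw [hce]; group
      rw [this]
      exact (hcay.mul_left (Commute.refl _)).inv_right
    have hcF : c ∈ fittingOf M := by
      have : c = a⁻¹ * w := by rw [← hwac]; group
      rw [this]
      exact mul_mem (inv_mem (pCoreOf_le_fittingOf M q ha)) hwF
    have hcq : c ∈ P := by
      refine mem_pCoreOf_of_mem_fittingOf M hcF (k := k₁ + k₂) ?_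
      rw [hce, hcom.mul_pow, inv_pow, pow_add, pow_mul (a * y), hk₁', one_pow, inv_one, mul_one,
        mul_comm, pow_mul, hk₂', one_pow]
    have hwP : w ∈ P := hwac ▸ mul_mem ha hcq
    have hhw : Commute h w := (hc q (Ne.symm hpq) w hwP).symm
    have hiter : ∀ n : ℕ, h ^ n * y * (h ^ n)⁻¹ = w ^ n * y := by
      intro n
      induction n with
      | zero => simp
      | succ n ih =>
        have e : h * w ^ n * h⁻¹ = w ^ n := by rw [(hhw.pow_right n).eq]; group
        calc h ^ (n + 1) * y * (h ^ (n + 1))⁻¹ = h * (h ^ n * y * (h ^ n)⁻¹) * h⁻¹ := by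
              rw [pow_succ']; group
          _ = h * w ^ n * h⁻¹ * (h * y * h⁻¹) := by rw [ih]; group
          _ = w ^ n * (w * y) := by rw [e, hw]; group
          _ = w ^ (n + 1) * y := by rw [pow_succ]; group
    have hwn : w ^ orderOf h = 1 := by
      have := hiter (orderOf h)
      rw [pow_orderOf_eq_one, one_mul, inv_one, mul_one] at this
      exact right_eq_mul.mp this
    have hw1 : w = 1 := LocalStructure.eq_one_of_coprime_of_mem
      (LocalStructure.pCoreOf_isPGroup M) hwP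
      (Nat.Coprime.coprime_dvd_left (orderOf_dvd_of_pow_eq_one hwn) ho)
    show h * y = y * h
    calc h * y = h * y * h⁻¹ * y⁻¹ * (y * h) := by group
      _ = y * h := by rw [← hw, hw1, one_mul]
  -- so the closure lies in `N`
  have hKN : closure S ≤ N := by
    refine (closure_le _).mpr fun h hh => ?_
    exact hP _ hq (le_inf (LocalStructure.pCoreOf_le N) (h2 q))
      (LocalStructure.le_normalizer_pCoreOf N) ⟨hh.1,
        centralizer_le_normalizer _ (mem_centralizer_iff.mpr fun y hy => (hcomm h hh y hy).eq.symm)⟩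
  have hYS : Cfsg.pCoreOf (p : ℕ) N ≤ closure S := by
    refine fun y hy => subset_closure ⟨h2 p hy, ?_, fun r hr x hx => ?_⟩
    · obtain ⟨k, hk⟩ := (LocalStructure.pCoreOf_isPGroup (p := (p : ℕ)) N) ⟨y, hy⟩
      exact Nat.Coprime.coprime_dvd_left
        (orderOf_dvd_of_pow_eq_one (by simpa using congrArg Subtype.val hk))
        (((Nat.coprime_primes p.2 q.2).mpr hpq').pow_left k)
    · haveI := Fact.mk r.2
      exact commute_cross (fun h' => hr (Subtype.ext h')) (h1 r) (h2 p) hx hy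
  exact (LocalStructure.le_pCoreOf hYS (hKN.trans (LocalStructure.le_normalizer_pCoreOf N))
      (LocalStructure.pCoreOf_isPGroup N)).trans
    (LocalStructure.le_pCoreOf ((LocalStructure.pCoreOf_le _).trans hKM)
      (hMK.trans (LocalStructure.normalizer_le_normalizer_pCoreOf _))
      (LocalStructure.pCoreOf_isPGroup _))

/-- **Bender's theorem on primitive pairs**. -/
theorem bender_pair [Finite G] {M N : Subgroup G} (hM : PairHalf M N)
    (hN : PairHalf N M) (hMN : M ≠ N)
    (h1 : (Cfsg.generalizedFittingSubgroup M).map M.subtype ≤ N)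
    (h2 : (Cfsg.generalizedFittingSubgroup N).map N.subtype ≤ M) :
    ∃ p : ℕ, p.Prime ∧ IsPGroup p (Cfsg.generalizedFittingSubgroup M) ∧
      IsPGroup p (Cfsg.generalizedFittingSubgroup N) := by
  -- there are no components
  have hEeq : (Cfsg.layer M).map M.subtype = (Cfsg.layer N).map N.subtype :=
    le_antisymm (layer_map_le h1 h2) (layer_map_le h2 h1)
  have hE0 : (Cfsg.layer M).map M.subtype = ⊥ := eq_bot_of_pair hM hN hMN
    (le_inf (map_subtype_le _) ((map_mono le_sup_left).trans h1)) (le_normalizer.trans (Components.normalizer_le_normalizer_map_subtype M _))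
    (hEeq ▸ le_normalizer.trans (Components.normalizer_le_normalizer_map_subtype N _))
  have hEM : Cfsg.layer M = ⊥ := (map_eq_bot_iff_of_injective _ M.subtype_injective).mp hE0
  have hEN : Cfsg.layer N = ⊥ :=
    (map_eq_bot_iff_of_injective _ N.subtype_injective).mp (hEeq ▸ hE0)
  have hX : ∀ r : Nat.Primes, Cfsg.pCoreOf (r : ℕ) M ≤ N := fun r =>
    haveI := Fact.mk r.2
    (pCoreOf_le_fittingOf M r).trans ((map_mono le_sup_right).trans h1)
  have hY : ∀ r : Nat.Primes, Cfsg.pCoreOf (r : ℕ) N ≤ M := fun r =>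
    haveI := Fact.mk r.2
    (pCoreOf_le_fittingOf N r).trans ((map_mono le_sup_right).trans h2)
  -- no common nontrivial core
  have hne : ∀ r : Nat.Primes, Cfsg.pCoreOf (r : ℕ) M = Cfsg.pCoreOf (r : ℕ) N →
      Cfsg.pCoreOf (r : ℕ) M = ⊥ := fun r h => eq_bot_of_pair hM hN hMN
    (le_inf (LocalStructure.pCoreOf_le M) (hX r)) (LocalStructure.le_normalizer_pCoreOf M)
    (h ▸ LocalStructure.le_normalizer_pCoreOf N)
  -- a single prime on one side forces it on the other
  have key : ∀ {A B : Subgroup G}, PairHalf A B → Cfsg.layer B = ⊥ →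
      (∀ r : Nat.Primes, Cfsg.pCoreOf (r : ℕ) B ≤ A) →
      (∀ r : Nat.Primes, Cfsg.pCoreOf (r : ℕ) A ≤ B) →
      ∀ p q : Nat.Primes, Cfsg.pCoreOf (p : ℕ) A ≠ ⊥ → Cfsg.pCoreOf (q : ℕ) A ≠ ⊥ → p ≠ q →
        ∀ r : Nat.Primes, Cfsg.pCoreOf (r : ℕ) A ≤ Cfsg.pCoreOf (r : ℕ) B := by
    intro A B hA hB hBA hAB p q hp hq hpq r
    by_cases h : r = p
    · exact pCoreOf_le_pCoreOf_pair hA hB hBA hAB r q (h ▸ hpq) hq
    · exact pCoreOf_le_pCoreOf_pair hA hB hBA hAB r p h hp
  have hsingle : ∀ p q : Nat.Primes, Cfsg.pCoreOf (p : ℕ) M ≠ ⊥ →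
      Cfsg.pCoreOf (q : ℕ) M ≠ ⊥ → p = q := by
    intro p q hp hq
    by_contra hpq
    have hMN' := key hM hEN hY hX p q hp hq hpq
    have hpN : Cfsg.pCoreOf (p : ℕ) N ≠ ⊥ := fun h => hp (le_bot_iff.mp (h ▸ hMN' p))
    have hqN : Cfsg.pCoreOf (q : ℕ) N ≠ ⊥ := fun h => hq (le_bot_iff.mp (h ▸ hMN' q))
    exact hp (hne p (le_antisymm (hMN' p) (key hN hEM hX hY p q hpN hqN hpq p)))
  have hsingle' : ∀ p q : Nat.Primes, Cfsg.pCoreOf (p : ℕ) N ≠ ⊥ →
      Cfsg.pCoreOf (q : ℕ) N ≠ ⊥ → p = q := by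
    intro p q hp hq
    by_contra hpq
    have hNM := key hN hEM hX hY p q hp hq hpq
    exact hpq (hsingle p q (fun h => hp (le_bot_iff.mp (h ▸ hNM p)))
      (fun h => hq (le_bot_iff.mp (h ▸ hNM q))))
  have hF : ∀ {A : Subgroup G} (p : Nat.Primes), Cfsg.layer A = ⊥ →
      (∀ q : Nat.Primes, Cfsg.pCoreOf (q : ℕ) A ≠ ⊥ → q = p) →
      IsPGroup (p : ℕ) (Cfsg.generalizedFittingSubgroup A) ∧
        fittingOf A = Cfsg.pCoreOf (p : ℕ) A := by
    intro A p hA h
    haveI := Fact.mk p.2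
    have he : fittingOf A = Cfsg.pCoreOf (p : ℕ) A := by
      refine le_antisymm ?_ (pCoreOf_le_fittingOf A p)
      rw [fittingOf_eq_iSup]
      refine iSup_le fun q => ?_
      by_cases hq : Cfsg.pCoreOf (q : ℕ) A = ⊥
      · rw [hq]; exact bot_le
      · rw [h q hq]
    refine ⟨?_, he⟩
    rw [Cfsg.generalizedFittingSubgroup, hA, bot_sup_eq]
    have hpg : IsPGroup (p : ℕ) (fittingOf A) := he ▸ LocalStructure.pCoreOf_isPGroup A
    exact hpg.of_equiv ((Cfsg.fittingSubgroup A).equivMapOfInjective A.subtype A.subtype_injective).symm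
  have hexM : ∀ {A : Subgroup G}, Cfsg.layer A = ⊥ → Nontrivial A →
      ∃ p : Nat.Primes, Cfsg.pCoreOf (p : ℕ) A ≠ ⊥ := by
    intro A hA hnt
    by_contra h
    simp only [not_exists, not_not] at h
    obtain ⟨x, hx⟩ := exists_ne (1 : A)
    have hmem := mem_fittingOf_of_commute hA x.2 fun r y hy => by
      rw [h r, Subgroup.mem_bot] at hy
      rw [hy]; exact Commute.one_left _
    rw [fittingOf_eq_iSup] at hmem
    rw [show (⨆ r : Nat.Primes, Cfsg.pCoreOf (r : ℕ) A) = ⊥ from
      le_bot_iff.mp (iSup_le fun r => (h r).le), Subgroup.mem_bot] at hmem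
    exact hx (Subtype.ext hmem)
  obtain ⟨p, hp⟩ := hexM hEM (nontrivial_of_pair hMN h2)
  obtain ⟨q, hq⟩ := hexM hEN (nontrivial_of_pair hMN.symm h1)
  obtain ⟨hXp, hXe⟩ := hF p hEM fun r hr => hsingle r p hr hp
  obtain ⟨hYq, hYe⟩ := hF q hEN fun r hr => hsingle' r q hr hq
  by_cases hpq : p = q
  · exact ⟨p, p.2, hXp, hpq.symm ▸ hYq⟩
  exfalso
  haveI := Fact.mk p.2
  haveI := Fact.mk q.2
  have hpq' : (p : ℕ) ≠ q := fun h => hpq (Subtype.ext h)
  refine hp (eq_bot_iff.mpr fun x hx => ?_)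
  have hxY : x ∈ Cfsg.pCoreOf (q : ℕ) N := by
    rw [← hYe]
    refine mem_fittingOf_of_commute hEN (hX p hx) fun r y hy => ?_
    by_cases hr : r = q
    · subst hr; exact (commute_cross hpq' (hX p) (hY r) hx hy).symm
    · have : Cfsg.pCoreOf (r : ℕ) N = ⊥ := by
        by_contra h
        exact hr (hsingle' r q h hq)
      rw [this, Subgroup.mem_bot] at hy
      rw [hy]; exact Commute.one_left _
  exact (IsPGroup.disjoint_of_ne _ _ hpq' _ _ (LocalStructure.pCoreOf_isPGroup M)
    (LocalStructure.pCoreOf_isPGroup N)).le_bot ⟨hx, hxY⟩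

end CfsgLib.Signalizer
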